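import Mathlib.GroupTheory.SpecificGroups.Alternating
import Mathlib.LinearAlgebra.Matrix.SpecialLinearGroup
import Mathlib.Tactic.Group
import Mathlib.Data.ZMod.Basic

/-!
Owner: helper29. Finite facts for groups of Hall–Janko type, with light imports.
-/

set_option autoImplicit false
set_option linter.all false
set_option Elab.async false

namespace CfsgLib.Recog.HJType

local notation "A5" => alternatingGroup (Fin 5)

set_option maxRecDepth 8000 in
theorem five_five_normalizer : ∀ a : A5, a ^ 5 = 1 → a ≠ 1 →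
    Nat.card {h : A5 // h * a * h⁻¹ = a ∨ h * a * h⁻¹ = a⁻¹} = 10 := by
  intro a h1 h2
  rw [Nat.card_eq_fintype_card]
  revert a
  decide +kernel

set_option synthInstance.maxSize 5000 in
set_option synthInstance.maxHeartbeats 200000 in
set_option maxRecDepth 8000 in
theorem five_perm_three : ∀ π : Equiv.Perm (Fin 5), π * π * π = 1 → ∀ a : A5, a ^ 5 = 1 → a ≠ 1 →
    π * (a : Equiv.Perm (Fin 5)) = (a : Equiv.Perm (Fin 5)) * π → π = 1 := by
  decide +kernel

set_option maxRecDepth 8000 in
theorem five_gen : ∀ g : A5, ∃ a b : A5, a ^ 15 = 1 ∧ b ^ 15 = 1 ∧ g = a * b := by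
  decide +kernel

theorem five_klein_mover : ∀ v w : A5, v * v = 1 → v ≠ 1 → w * w = 1 → w ≠ 1 → v ≠ w → v * w = w * v →
    ∃ y : A5, y ^ 3 = 1 ∧ y * v * y⁻¹ = w ∧ y * w * y⁻¹ = v * w := by
  decide +kernel

set_option maxRecDepth 8000 in
theorem card_sl_three : Nat.card (Matrix.SpecialLinearGroup (Fin 3) (ZMod 2)) = 168 := by
  rw [Nat.card_eq_fintype_card]; decide +kernel

end CfsgLib.Recog.HJType
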