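import Mathlib.GroupTheory.SpecificGroups.Alternating
import Mathlib.SetTheory.Cardinal.Finite
import Mathlib.Tactic.Group

/-!
Owner: helper29. Finite facts about the alternating group of degree five.
-/

set_option autoImplicit false
set_option Elab.async false

namespace CfsgLib.Recog.HJType

local notation "A5" => alternatingGroup (Fin 5)

set_option maxRecDepth 8000 in
theorem five_invol_conj : ∀ a b : A5, a * a = 1 → a ≠ 1 → b * b = 1 → b ≠ 1 →
    ∃ k : A5, k * a * k⁻¹ = b := by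
  decide +kernel

set_option maxRecDepth 8000 in
theorem five_invol_centralizer : ∀ a : A5, a * a = 1 → a ≠ 1 →
    Nat.card {k : A5 // k * a = a * k} = 4 := by
  intro a h1 h2
  rw [Nat.card_eq_fintype_card]
  revert a
  decide +kernel

theorem five_exists_invol : ∃ a : A5, a * a = 1 ∧ a ≠ 1 := by decide +kernel

theorem five_exists_five : ∃ a : A5, a ^ 5 = 1 ∧ a ≠ 1 := by decide +kernel

set_option synthInstance.maxSize 5000 in
set_option synthInstance.maxHeartbeats 200000 in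
theorem five_three_centralizer : ∀ a b : A5, a ^ 3 = 1 → a ≠ 1 → b * a = a * b → b ^ 3 = 1 := by
  decide +kernel

set_option maxRecDepth 8000 in
set_option synthInstance.maxSize 5000 in
set_option synthInstance.maxHeartbeats 200000 in
theorem five_frame : ∀ k v : A5, k * k * k = 1 → k ≠ 1 → v * v = 1 → v ≠ 1 →
    v * (k * v * k⁻¹) = k * (k * v * k⁻¹) * k⁻¹ →
    ∃ i : A5, i * i = 1 ∧ i ≠ 1 ∧ i * k * i = k⁻¹ ∧ (i * v) * (i * v) * (i * v) = 1 ∧
      (i * (k * v * k⁻¹)) ^ 5 = 1 ∧ i * (k * v * k⁻¹) ≠ 1 ∧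
      ∀ i' : A5, i' * i' = 1 → i' ≠ 1 → i' * k * i' = k⁻¹ →
        (i' * v) * (i' * v) * (i' * v) = 1 → i' = i := by
  decide +kernel

set_option maxRecDepth 8000 in
theorem five_klein_normalizer : ∀ v w : A5, v * v = 1 → v ≠ 1 → w * w = 1 → w ≠ 1 → v ≠ w → v * w = w * v →
    Nat.card {h : A5 // (h * v = v * h ∧ h * w = w * h)} = 4 := by
  intro v w h1 h2 h3 h4 h5 h6
  rw [Nat.card_eq_fintype_card]
  revert v w
  decide +kernel

set_option maxRecDepth 8000 in
theorem five_five_centralizer : ∀ a : A5, a ^ 5 = 1 → a ≠ 1 →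
    Nat.card {h : A5 // h * a = a * h} = 5 := by
  intro a h1 h2
  rw [Nat.card_eq_fintype_card]
  revert a
  decide +kernel

set_option maxRecDepth 8000 in
theorem five_five_auto : ∀ a h : A5, a ^ 5 = 1 → h * a * h⁻¹ ≠ a → h * a * h⁻¹ ≠ a⁻¹ →
    h * a * h⁻¹ ≠ a ^ 2 ∧ h * a * h⁻¹ ≠ a ^ 3 := by
  decide +kernel

end CfsgLib.Recog.HJType
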