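import Cfsg.Agent.Lib.Recog.AltFiveCounts
import Cfsg.Agent.Lib.Recog.JankoTwoType.AltFiveFacts
import Cfsg.Agent.Lib.Recog.MinusThirtyTwo
import Cfsg.Agent.Lib.Pairs.CubicReduction
import Cfsg.Agent.Lib.Signalizer.Involutions

/-!
Owner: helper29. Groups of Hall–Janko type: the centralizer of `z` and the two classes of
involutions.
-/

set_option autoImplicit false
set_option linter.all false

namespace CfsgLib.Recog.HJType

open Subgroup Cfsg CfsgLib.Recog

local notation "A5" => alternatingGroup (Fin 5)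

variable {G : Type*} [Group G]

theorem inv_pair {x : G} (hx : orderOf x = 2) : x * x = 1 ∧ x ≠ 1 := by
  rwa [← sq, ← orderOf_eq_prime_iff (p := 2)]

theorem ord_two {x : G} (h : x * x = 1) (h1 : x ≠ 1) : orderOf x = 2 :=
  orderOf_eq_prime (by rw [sq]; exact h) h1

theorem mem_cent {z x : G} : x ∈ centralizer ({z} : Set G) ↔ x * z = z * x :=
  mem_centralizer_singleton_iff

theorem conj_order {x y : G} (h : IsConj x y) : orderOf y = orderOf x := by
  obtain ⟨g, rfl⟩ := isConj_iff.mp h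
  exact CfsgLib.Signalizer.orderOf_conj g x

/-- The local hypotheses at an involution `z`. -/
structure Local (z : G) (Q : Subgroup G) : Prop where
  hz : orderOf z = 2
  le : Q ≤ centralizer ({z} : Set G)
  conj_mem : ∀ c ∈ centralizer ({z} : Set G), ∀ q ∈ Q, c * q * c⁻¹ ∈ Q
  extra : IsExtraspecial 2 ↥Q
  card : Nat.card ↥Q = 32
  self : ∀ x ∈ centralizer ({z} : Set G), (∀ q ∈ Q, x * q = q * x) → x ∈ Q
  quot : ∃ π : ↥(centralizer ({z} : Set G)) →* A5,
    Function.Surjective π ∧ ∀ c, π c = 1 ↔ (c : G) ∈ Q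

namespace Local

variable {z : G} {Q : Subgroup G} (h : Local z Q)
include h

theorem z_mem : z ∈ Q :=
  h.self z (mem_cent.2 rfl) fun q hq => (mem_cent.1 (h.le hq)).symm

theorem z_ne : z ≠ 1 := (inv_pair h.hz).2

theorem zz : z * z = 1 := (inv_pair h.hz).1

theorem zq_center : (⟨z, h.z_mem⟩ : Q) ∈ center Q :=
  mem_center_iff.2 fun q => Subtype.ext (mem_cent.1 (h.le q.2))

theorem zq_ne : (⟨z, h.z_mem⟩ : Q) ≠ 1 := fun e => h.z_ne (congrArg Subtype.val e)

theorem center_cases [Finite G] {x : G} (hx : x ∈ Q) (hc : ∀ q ∈ Q, x * q = q * x) :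
    x = 1 ∨ x = z := by
  rcases MinusThirtyTwo.center_cases h.extra h.zq_center h.zq_ne
    (show (⟨x, hx⟩ : Q) ∈ center Q from mem_center_iff.2 fun q => Subtype.ext (hc q q.2).symm) with e | e
  · exact Or.inl (congrArg Subtype.val e)
  · exact Or.inr (congrArg Subtype.val e)

theorem self_cases [Finite G] {x : G} (hx : x ∈ centralizer ({z} : Set G))
    (hc : ∀ q ∈ Q, x * q = q * x) : x = 1 ∨ x = z :=
  h.center_cases (h.self x hx hc) hc

/-- Conjugation on `Q` by an element of the centralizer. -/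
noncomputable def act (c : ↥(centralizer ({z} : Set G))) : MulAut ↥Q where
  toFun q := ⟨c * q * (c : G)⁻¹, h.conj_mem c c.2 q q.2⟩
  invFun q := ⟨(c : G)⁻¹ * q * c, by simpa using h.conj_mem _ (inv_mem c.2) q q.2⟩
  left_inv q := Subtype.ext (by simp [mul_assoc])
  right_inv q := Subtype.ext (by simp [mul_assoc])
  map_mul' a b := Subtype.ext (by simp [mul_assoc])

@[simp] theorem act_apply (c : ↥(centralizer ({z} : Set G))) (q : Q) :
    ((h.act c q : Q) : G) = c * q * (c : G)⁻¹ := rfl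

theorem act_mul (a b : ↥(centralizer ({z} : Set G))) : h.act (a * b) = h.act a * h.act b := by
  refine MulEquiv.ext fun q => Subtype.ext ?_
  simp [mul_assoc]

theorem act_one : h.act 1 = 1 := MulEquiv.ext fun q => Subtype.ext (by simp)

theorem act_pow (a : ↥(centralizer ({z} : Set G))) (n : ℕ) : h.act (a ^ n) = h.act a ^ n := by
  induction n with
  | zero => simp [h.act_one]
  | succ n ih => rw [pow_succ, h.act_mul, ih, pow_succ]

theorem act_inv (a : ↥(centralizer ({z} : Set G))) : h.act a⁻¹ = (h.act a)⁻¹ :=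
  eq_inv_of_mul_eq_one_left (by rw [← h.act_mul, inv_mul_cancel, h.act_one])

theorem act_eq_one_iff [Finite G] (a : ↥(centralizer ({z} : Set G))) :
    h.act a = 1 ↔ (a : G) = 1 ∨ (a : G) = z := by
  constructor
  · intro e
    refine h.self_cases a.2 fun q hq => mul_inv_eq_iff_eq_mul.1 ?_
    have := congrArg Subtype.val (MulEquiv.congr_fun e ⟨q, hq⟩)
    simpa using this
  · intro e
    refine MulEquiv.ext fun q => Subtype.ext ?_
    rcases e with e | e
    · simp [e]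
    · show (a : G) * q * (a : G)⁻¹ = q
      rw [e, ← mem_cent.1 (h.le q.2), mul_inv_cancel_right]

theorem act_invol [Finite G] {a : ↥(centralizer ({z} : Set G))}
    (ha : (a : G) * a = 1 ∨ (a : G) * a = z) : h.act a * h.act a = 1 := by
  rw [← h.act_mul, h.act_eq_one_iff]
  exact ha

theorem conj_local [Finite G] (g : G) :
    Local (g * z * g⁻¹) (Q.map (MulAut.conj g).toMonoidHom) := by
  have hC : ∀ x, x ∈ centralizer ({g * z * g⁻¹} : Set G) ↔ g⁻¹ * x * g ∈ centralizer ({z} : Set G) := by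
    intro x
    rw [mem_cent, mem_cent]
    constructor <;> intro e
    · calc g⁻¹ * x * g * z = g⁻¹ * (x * (g * z * g⁻¹)) * g := by group
        _ = g⁻¹ * (g * z * g⁻¹ * x) * g := by rw [e]
        _ = z * (g⁻¹ * x * g) := by group
    · calc x * (g * z * g⁻¹) = g * (g⁻¹ * x * g * z) * g⁻¹ := by group
        _ = g * (z * (g⁻¹ * x * g)) * g⁻¹ := by rw [e]
        _ = g * z * g⁻¹ * x := by group
  have hQ : ∀ x, x ∈ Q.map (MulAut.conj g).toMonoidHom ↔ g⁻¹ * x * g ∈ Q := by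
    intro x
    constructor
    · rintro ⟨q, hq, rfl⟩
      simpa [mul_assoc] using hq
    · intro hx
      exact ⟨_, hx, by simp [mul_assoc]⟩
  have e : ↥Q ≃* ↥(Q.map (MulAut.conj g).toMonoidHom) :=
    Q.equivMapOfInjective _ (MulAut.conj g).injective
  refine ⟨?_, fun x hx => (hC x).2 (h.le ((hQ x).1 hx)), fun c hc q hq => (hQ _).2 ?_, ?_, ?_,
    fun x hx hcomm => (hQ _).2 (h.self _ ((hC x).1 hx) fun q hq => ?_), ?_⟩
  · rw [← h.hz]; exact CfsgLib.Signalizer.orderOf_conj g z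
  · have := h.conj_mem _ ((hC c).1 hc) _ ((hQ q).1 hq)
    simpa [mul_assoc] using this
  · haveI : Fact (Nat.Prime 2) := ⟨Nat.prime_two⟩
    exact CfsgLib.Pairs.Cubic.extraspecial_congr h.extra e
  · rw [← Nat.card_congr e.toEquiv, h.card]
  · have h1 := hcomm (g * q * g⁻¹) ((hQ _).2 (by simpa [mul_assoc] using hq))
    calc g⁻¹ * x * g * q = g⁻¹ * (x * (g * q * g⁻¹)) * g := by group
      _ = g⁻¹ * (g * q * g⁻¹ * x) * g := by rw [h1]
      _ = q * (g⁻¹ * x * g) := by group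
  · obtain ⟨π, hπ, hker⟩ := h.quot
    let f : ↥(centralizer ({g * z * g⁻¹} : Set G)) →* ↥(centralizer ({z} : Set G)) :=
      MonoidHom.mk' (fun x => ⟨g⁻¹ * x * g, (hC x).1 x.2⟩) fun a b => Subtype.ext (by simp [mul_assoc])
    refine ⟨π.comp f, fun k => ?_, fun c => ?_⟩
    · obtain ⟨x, rfl⟩ := hπ k
      refine ⟨⟨g * x * g⁻¹, (hC _).2 (by simpa [mul_assoc] using x.2)⟩, congrArg π (Subtype.ext ?_)⟩
      show g⁻¹ * (g * x * g⁻¹) * g = x
      group
    · rw [MonoidHom.comp_apply, hker, hQ]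
      rfl

variable [Finite G]

theorem card_centralizer : Nat.card ↥(centralizer ({z} : Set G)) = 1920 := by
  obtain ⟨π, hπ, hker⟩ := h.quot
  have e : π.ker = Q.subgroupOf (centralizer ({z} : Set G)) := by
    ext c; rw [MonoidHom.mem_ker, hker, mem_subgroupOf]
  rw [← π.ker.card_mul_index, index_ker, MonoidHom.range_eq_top.2 hπ, card_top, e,
    Nat.card_congr (subgroupOfEquivOfLe h.le).toEquiv, h.card, AltFive.card_eq]

theorem exists_five_of_invol {v : G} (hv : v * v = 1) (hvC : v ∈ centralizer ({z} : Set G))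
    (hvQ : v ∉ Q) :
    ∃ c x : ↥(centralizer ({z} : Set G)), c ^ 5 = 1 ∧ (c : G) ∉ Q ∧
      x * c * x⁻¹ = c⁻¹ ∧ ((x : G) * x = 1 ∨ (x : G) * x = z) ∧ v⁻¹ * x ∈ Q := by
  classical
  haveI := Fintype.ofFinite G
  haveI : Fact (Nat.Prime 5) := ⟨by norm_num⟩
  obtain ⟨π, hπ, hker⟩ := h.quot
  set v' : ↥(centralizer ({z} : Set G)) := ⟨v, hvC⟩ with hv'
  have hv2 : π v' * π v' = 1 := by
    rw [← map_mul, show v' * v' = 1 from Subtype.ext hv, map_one]
  have hv1 : π v' ≠ 1 := fun e => hvQ ((hker v').1 e)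
  obtain ⟨k, hk5, hk1, hkinv⟩ := AltFive.exists_inverted _ hv2 hv1
  obtain ⟨y, hy⟩ := hπ k
  set c := y ^ 96 with hc
  have hπc : π c = k := by
    rw [hc, map_pow, hy, show (96 : ℕ) = 5 * 19 + 1 from rfl, pow_succ, pow_mul, hk5, one_pow, one_mul]
  have hy5 : ((y ^ 5 : ↥(centralizer ({z} : Set G))) : G) ∈ Q := (hker _).1 (by rw [map_pow, hy, hk5])
  have hc5 : c ^ 5 = 1 := by
    have h32 : ((y ^ 5 : ↥(centralizer ({z} : Set G))) : G) ^ 32 = 1 := by
      have := pow_card_eq_one' (x := (⟨_, hy5⟩ : Q))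
      rw [h.card] at this
      exact congrArg Subtype.val this
    have h3 : (y ^ 5) ^ 32 = 1 := Subtype.ext (by rw [SubgroupClass.coe_pow]; exact h32)
    rw [hc, ← pow_mul, show 96 * 5 = 5 * 32 * 3 from rfl, pow_mul, pow_mul, h3, one_pow]
  have hcQ : (c : G) ∉ Q := fun e => hk1 (hπc ▸ (hker c).2 e)
  set d := v' * c * v'⁻¹ with hd
  have hd5 : d ^ 5 = 1 := by rw [hd, conj_pow, hc5, mul_one, mul_inv_cancel]
  have hπd : π d = k⁻¹ := by
    rw [hd, map_mul, map_mul, map_inv, hπc]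
    exact hkinv
  set H := (zpowers k).comap π with hH
  have hH160 : Nat.card H = 160 := by
    let f : ↥H →* ↥(zpowers k) := (π.comp H.subtype).codRestrict _ fun x => x.2
    have hf : Function.Surjective f := by
      rintro ⟨a, ha⟩
      obtain ⟨w, rfl⟩ := hπ a
      exact ⟨⟨w, ha⟩, rfl⟩
    have hkf : Nat.card f.ker = 32 := by
      rw [← h.card]
      refine Nat.card_congr
        { toFun := fun w => ⟨((w : H) : ↥(centralizer ({z} : Set G))), (hker _).1 (congrArg Subtype.val w.2)⟩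
          invFun := fun q => ⟨⟨⟨q, h.le q.2⟩, ?_⟩, ?_⟩
          left_inv := fun w => rfl
          right_inv := fun q => rfl }
      · show π ⟨q, h.le q.2⟩ ∈ zpowers k
        rw [(hker ⟨q, h.le q.2⟩).2 q.2]; exact one_mem _
      · exact Subtype.ext ((hker ⟨q, h.le q.2⟩).2 q.2)
    rw [← f.ker.card_mul_index, index_ker, MonoidHom.range_eq_top.2 hf, card_top, hkf,
      Nat.card_zpowers, orderOf_eq_prime hk5 hk1]
  have hsyl : ∀ (a : ↥(centralizer ({z} : Set G))) (ha : a ∈ H), a ^ 5 = 1 → a ≠ 1 →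
      ∃ P : Sylow 5 H, (P : Subgroup H) = zpowers (⟨a, ha⟩ : H) := by
    intro a ha h5 h1
    have ho : orderOf (⟨a, ha⟩ : H) = 5 := by
      rw [Subgroup.orderOf_mk]; exact orderOf_eq_prime h5 h1
    have hcard : Nat.card (zpowers (⟨a, ha⟩ : H)) = 5 := by rw [Nat.card_zpowers, ho]
    refine ⟨(IsPGroup.of_card (n := 1) (hcard.trans (pow_one 5).symm)).toSylow ?_, rfl⟩
    intro hdvd
    have h5i := (zpowers (⟨a, ha⟩ : H)).card_mul_index
    rw [hcard, hH160] at h5i
    obtain ⟨b, hb⟩ : 5 ∣ (zpowers (⟨a, ha⟩ : H)).index := hdvd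
    omega
  have hcH : c ∈ H := show π c ∈ zpowers k from hπc ▸ mem_zpowers k
  have hdH : d ∈ H := show π d ∈ zpowers k from hπd ▸ inv_mem (mem_zpowers k)
  have hc1 : c ≠ 1 := fun e => hcQ (by rw [e]; exact one_mem _)
  have hd1 : d ≠ 1 := fun e => hk1 (inv_eq_one.1 (by rw [← hπd, e, map_one]))
  obtain ⟨P, hP⟩ := hsyl c hcH hc5 hc1
  obtain ⟨R, hR⟩ := hsyl d hdH hd5 hd1
  obtain ⟨⟨w, hw⟩, hwR⟩ := MulAction.exists_smul_eq H R P
  obtain ⟨m, hm⟩ : ∃ m : ℤ, w * d * w⁻¹ = c ^ m := by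
    have h1 : (⟨w, hw⟩ : H) * ⟨d, hdH⟩ * (⟨w, hw⟩ : H)⁻¹ ∈ (P : Subgroup H) := by
      rw [← hwR, Sylow.coe_subgroup_smul]
      exact ⟨⟨d, hdH⟩, hR ▸ mem_zpowers _, rfl⟩
    rw [hP] at h1
    obtain ⟨m, hm⟩ := mem_zpowers_iff.1 h1
    exact ⟨m, (congrArg Subtype.val hm).symm⟩
  obtain ⟨j, hj⟩ := mem_zpowers_iff.1 (show π w ∈ zpowers k from hw)
  set x := c ^ (-j) * w * v' with hx
  have hπx : π x = π v' := by
    rw [hx, map_mul, map_mul, map_zpow, hπc, ← hj, ← zpow_add, neg_add_cancel, zpow_zero, one_mul]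
  have hxc : x * c * x⁻¹ = c ^ m := by
    calc x * c * x⁻¹ = c ^ (-j) * (w * (v' * c * v'⁻¹) * w⁻¹) * (c ^ (-j))⁻¹ := by rw [hx]; group
      _ = c ^ (-j) * c ^ m * (c ^ (-j))⁻¹ := by rw [← hd, hm]
      _ = c ^ m := by rw [← zpow_neg, ← zpow_add, ← zpow_add]; congr 1; omega
  have hkv : π v' * k * (π v')⁻¹ = k⁻¹ := by
    exact hkinv
  have hkm : k ^ m = k⁻¹ := by
    rw [← hπc, ← map_zpow, ← hxc, map_mul, map_mul, map_inv, hπx, hπc, hkv]
  have hxinv : x * c * x⁻¹ = c⁻¹ := by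
    rw [hxc]
    have hd5' : (5 : ℤ) ∣ m + 1 := by
      have : k ^ (m + 1) = 1 := by rw [zpow_add_one, hkm, inv_mul_cancel]
      have h2 := orderOf_dvd_iff_zpow_eq_one.2 this
      rwa [orderOf_eq_prime hk5 hk1] at h2
    obtain ⟨i, hi⟩ := hd5'
    have : c ^ (m + 1) = 1 := by rw [hi, zpow_mul, zpow_ofNat, hc5, one_zpow]
    exact eq_inv_of_mul_eq_one_left (by rw [← zpow_add_one]; exact this)
  refine ⟨c, x, hc5, hcQ, hxinv, ?_, ?_⟩
  · have hxxQ : ((x * x : ↥(centralizer ({z} : Set G))) : G) ∈ Q :=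
      (hker _).1 (by rw [map_mul, hπx, hv2])
    have hcomm : c * (x * x) = x * x * c := by
      have e2 : x * x * c * (x * x)⁻¹ = c := by
        calc x * x * c * (x * x)⁻¹ = x * (x * c * x⁻¹) * x⁻¹ := by group
          _ = x * c⁻¹ * x⁻¹ := by rw [hxinv]
          _ = (x * c * x⁻¹)⁻¹ := by group
          _ = c := by rw [hxinv, inv_inv]
      exact (mul_inv_eq_iff_eq_mul.1 e2).symm
    have hfix : h.act c ⟨_, hxxQ⟩ = ⟨_, hxxQ⟩ := by
      refine Subtype.ext ?_
      rw [act_apply]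
      have := congrArg (fun t : ↥(centralizer ({z} : Set G)) => (t : G) * (c : G)⁻¹) hcomm
      simpa [mul_assoc] using this
    have hβ5 : h.act c ^ 5 = 1 := by rw [← h.act_pow, hc5, h.act_one]
    have hβ1 : h.act c ≠ 1 := fun e => by
      rcases (h.act_eq_one_iff c).1 e with e | e
      · exact hcQ (by rw [e]; exact one_mem _)
      · exact hcQ (by rw [e]; exact h.z_mem)
    have := MinusThirtyTwo.mem_center_of_fix h.extra h.zq_center h.zq_ne h.card hβ5 hβ1 hfix
    exact h.center_cases hxxQ fun q hq => (congrArg Subtype.val (mem_center_iff.1 this ⟨q, hq⟩)).symm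
  · have : π (v'⁻¹ * x) = 1 := by rw [map_mul, map_inv, hπx, inv_mul_cancel]
    exact (hker _).1 this

theorem exists_five : ∃ c : ↥(centralizer ({z} : Set G)), c ^ 5 = 1 ∧ h.act c ≠ 1 ∧ (c : G) ∉ Q := by
  obtain ⟨π, hπ, hker⟩ := h.quot
  obtain ⟨k, hk5, hk1⟩ := five_exists_five
  obtain ⟨y, hy⟩ := hπ k
  have hy5 : ((y ^ 5 : ↥(centralizer ({z} : Set G))) : G) ∈ Q := (hker _).1 (by rw [map_pow, hy, hk5])
  have h3 : (y ^ 5) ^ 32 = 1 := Subtype.ext (by
    have := pow_card_eq_one' (x := (⟨_, hy5⟩ : Q))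
    rw [h.card] at this
    rw [SubgroupClass.coe_pow]
    exact congrArg Subtype.val this)
  have hcQ : ((y ^ 96 : ↥(centralizer ({z} : Set G))) : G) ∉ Q := fun e => hk1 (by
    have := (hker _).2 e
    rw [map_pow, hy, show (96 : ℕ) = 5 * 19 + 1 from rfl, pow_succ, pow_mul, hk5, one_pow, one_mul] at this
    exact this)
  refine ⟨y ^ 96, by rw [← pow_mul, show 96 * 5 = 5 * 32 * 3 from rfl, pow_mul, pow_mul, h3, one_pow],
    fun e => ?_, hcQ⟩
  rcases (h.act_eq_one_iff _).1 e with e | e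
  · exact hcQ (by rw [e]; exact one_mem _)
  · exact hcQ (by rw [e]; exact h.z_mem)

theorem minus : Nat.card {x : Q // x * x = 1} = 12 ∧
    ∀ x y : Q, x * x = 1 → y * y = 1 → x * y = y * x →
      x ∈ center Q ∨ y ∈ center Q ∨ x⁻¹ * y ∈ center Q := by
  obtain ⟨c, hc5, hc1, -⟩ := h.exists_five
  exact MinusThirtyTwo.minus_type h.extra h.zq_center h.zq_ne h.card
    (β := h.act c) (by rw [← h.act_pow, hc5, h.act_one]) hc1

/-- Two commuting involutions of `Q` generate a four-group containing `z`. -/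
theorem commuting_cases {a b : G} (ha : a ∈ Q) (hb : b ∈ Q) (ha2 : a * a = 1) (hb2 : b * b = 1)
    (hab : a * b = b * a) (haz : a ≠ 1 ∧ a ≠ z) : b = 1 ∨ b = z ∨ b = a ∨ b = a * z := by
  have hc : ∀ q : Q, q ∈ center Q → (q : G) = 1 ∨ (q : G) = z := fun q hq =>
    (MinusThirtyTwo.center_cases h.extra h.zq_center h.zq_ne hq).imp
      (congrArg Subtype.val) (congrArg Subtype.val)
  rcases h.minus.2 ⟨a, ha⟩ ⟨b, hb⟩ (Subtype.ext ha2) (Subtype.ext hb2) (Subtype.ext hab) with e | e | e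
  · exact absurd (hc _ e) (by rintro (e | e); exacts [haz.1 e, haz.2 e])
  · exact (hc _ e).imp id Or.inl
  · rcases hc _ e with e | e
    · exact Or.inr (Or.inr (Or.inl (inv_mul_eq_one.1 e).symm))
    · exact Or.inr (Or.inr (Or.inr (inv_mul_eq_iff_eq_mul.1 e)))

theorem modFix_le {v : G} (hv : v * v = 1) (hvC : v ∈ centralizer ({z} : Set G)) (hvQ : v ∉ Q) :
    Nat.card (MinusThirtyTwo.modFix (h.act ⟨v, hvC⟩)) ≤ 8 := by
  obtain ⟨c, x, hc5, hcQ, hinv, hxx, hvx⟩ := h.exists_five_of_invol hv hvC hvQ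
  have hβ1 : h.act c ≠ 1 := fun e => by
    rcases (h.act_eq_one_iff _).1 e with e | e
    · exact hcQ (by rw [e]; exact one_mem _)
    · exact hcQ (by rw [e]; exact h.z_mem)
  have hle := MinusThirtyTwo.card_modFix_le h.extra h.zq_center h.zq_ne h.card
    (β := h.act c) (by rw [← h.act_pow, hc5, h.act_one]) hβ1 (α := h.act x) (h.act_invol hxx)
    (by rw [← h.act_inv, ← h.act_mul, ← h.act_mul, hinv, h.act_inv])
  refine le_of_eq_of_le (congrArg (fun H : Subgroup Q => Nat.card H) ?_) hle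
  ext q
  rw [MinusThirtyTwo.mem_modFix, MinusThirtyTwo.mem_modFix]
  set w : Q := ⟨v⁻¹ * x, hvx⟩ with hw
  have e : h.act x q * q⁻¹ = h.act ⟨v, hvC⟩ (w * q * w⁻¹ * q⁻¹) * (h.act ⟨v, hvC⟩ q * q⁻¹) := by
    refine Subtype.ext ?_
    simp [hw, mul_assoc]
  have hcm : w * q * w⁻¹ * q⁻¹ ∈ center Q := CfsgLib.PGroups.IsExtraspecial.comm_mem h.extra w q
  rw [e, MinusThirtyTwo.map_center h.extra h.zq_center h.zq_ne _ hcm, mul_mem_cancel_left hcm]

theorem outer_data {v : G} (hv : v * v = 1) (hvC : v ∈ centralizer ({z} : Set G)) (hvQ : v ∉ Q) :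
    Nat.card {q : Q // h.act ⟨v, hvC⟩ q = q⁻¹} = 8 ∧
      Nat.card {q : Q // h.act ⟨v, hvC⟩ q = q} = 4 ∧
      ∀ q : Q, h.act ⟨v, hvC⟩ q = q → q * q = 1 := by
  classical
  haveI := Fintype.ofFinite G
  set α := h.act ⟨v, hvC⟩ with hα
  have hα2 : ∀ q, α (α q) = q := fun q => by
    rw [← MulAut.mul_apply, hα, h.act_invol (a := ⟨v, hvC⟩) (Or.inl hv), MulAut.one_apply]
  have hle := h.modFix_le hv hvC hvQ
  have hfix : ∀ q : Q, α q = q → q * q = 1 := by
    intro q hq
    have hmem : q ∈ MinusThirtyTwo.modFix α := by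
      rw [MinusThirtyTwo.mem_modFix, hq, mul_inv_cancel]; exact one_mem _
    have := (MinusThirtyTwo.inverts_and_card h.extra h.zq_center h.zq_ne h.card hα2 hle).1 q hmem
    rw [hq] at this
    nth_rewrite 1 [this]
    exact inv_mul_cancel q
  refine ⟨MinusThirtyTwo.card_inverted h.extra h.zq_center h.zq_ne h.card hα2 hle, ?_, hfix⟩
  have h12 := h.minus.1
  have h8 := MinusThirtyTwo.card_moved h.extra h.zq_center h.zq_ne h.card hα2 hle h.minus
  let e : {q : Q // α q = q} ⊕ {q : Q // q * q = 1 ∧ α q ≠ q} ≃ {q : Q // q * q = 1} :=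
    { toFun := Sum.elim (fun q => ⟨q.1, hfix q.1 q.2⟩) (fun q => ⟨q.1, q.2.1⟩)
      invFun := fun q => if hq : α q.1 = q.1 then Sum.inl ⟨q.1, hq⟩ else Sum.inr ⟨q.1, q.2, hq⟩
      left_inv := by
        rintro (⟨q, hq⟩ | ⟨q, hq⟩)
        · simp [hq]
        · simp [hq.2]
      right_inv := fun q => by
        by_cases hq : α q.1 = q.1 <;> simp [hq] }
  have := Nat.card_congr e
  rw [Nat.card_sum, h8, h12] at this
  omega

theorem centralizer_inf_sq {v x : G} (hv : v * v = 1) (hvC : v ∈ centralizer ({z} : Set G))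
    (hvQ : v ∉ Q) (hx : x ∈ Q) (hxv : x ∈ centralizer ({v} : Set G)) : x * x = 1 := by
  have hfix : h.act ⟨v, hvC⟩ ⟨x, hx⟩ = ⟨x, hx⟩ := Subtype.ext (by
    simp [← mem_cent.1 hxv])
  exact congrArg Subtype.val ((h.outer_data hv hvC hvQ).2.2 _ hfix)

theorem card_inf_outer {v : G} (hv : v * v = 1) (hvC : v ∈ centralizer ({z} : Set G)) (hvQ : v ∉ Q) :
    Nat.card ↥(Q ⊓ centralizer ({v} : Set G) : Subgroup G) = 4 := by
  rw [← (h.outer_data hv hvC hvQ).2.1]
  refine Nat.card_congr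
    { toFun := fun x => ⟨⟨x, x.2.1⟩, Subtype.ext ?_⟩
      invFun := fun q => ⟨q.1, q.1.2, mem_cent.2 ?_⟩
      left_inv := fun x => rfl
      right_inv := fun q => rfl }
  · simp [← mem_cent.1 x.2.2]
  · exact (mul_inv_eq_iff_eq_mul.1 (congrArg Subtype.val q.2)).symm

theorem coset_conj {v w : G} (hv : v * v = 1) (hvC : v ∈ centralizer ({z} : Set G)) (hvQ : v ∉ Q)
    (hw : w * w = 1) (hwv : v⁻¹ * w ∈ Q) : ∃ q ∈ Q, q * v * q⁻¹ = w := by
  classical
  haveI := Fintype.ofFinite G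
  set α := h.act ⟨v, hvC⟩ with hα
  have hvi : v⁻¹ = v := inv_eq_of_mul_eq_one_left hv
  set K : Subgroup Q := (centralizer ({v} : Set G)).subgroupOf Q with hK
  have hK4 : Nat.card K = 4 := by
    rw [hK, ← inf_subgroupOf_left, Nat.card_congr (subgroupOfEquivOfLe inf_le_left).toEquiv]
    exact h.card_inf_outer hv hvC hvQ
  have h8 : K.index = 8 := by
    have := K.card_mul_index
    rw [hK4, h.card] at this
    omega
  let f : Q ⧸ K → {q : Q // α q = q⁻¹} := Quotient.lift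
    (fun q => ⟨α q * q⁻¹, by
      have : α (α q) = q := by
        rw [← MulAut.mul_apply, hα, h.act_invol (a := ⟨v, hvC⟩) (Or.inl hv), MulAut.one_apply]
      rw [map_mul, map_inv, this, mul_inv_rev, inv_inv]⟩) (fun a b hab => by
      have e : a⁻¹ * b ∈ K := QuotientGroup.leftRel_apply.1 hab
      have hc : ((a⁻¹ * b : Q) : G) * v = v * ((a⁻¹ * b : Q) : G) := mem_cent.1 (mem_subgroupOf.1 e)
      have hf : α (a⁻¹ * b) = a⁻¹ * b := Subtype.ext (by rw [act_apply, ← hc, mul_inv_cancel_right])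
      refine Subtype.ext ?_
      show α a * a⁻¹ = α b * b⁻¹
      calc α a * a⁻¹ = α a * ((a⁻¹ * b) * b⁻¹) := by group
        _ = α a * (α (a⁻¹ * b) * b⁻¹) := by rw [hf]
        _ = _ := by rw [← mul_assoc, ← map_mul, mul_inv_cancel_left])
  have hinj : Function.Injective f := by
    rintro ⟨a⟩ ⟨b⟩ hab
    refine QuotientGroup.eq.2 (mem_subgroupOf.2 (mem_cent.2 ?_))
    have e : α a * a⁻¹ = α b * b⁻¹ := congrArg Subtype.val hab
    have hf : α (a⁻¹ * b) = a⁻¹ * b := by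
      rw [map_mul, map_inv]
      calc (α a)⁻¹ * α b = (α a)⁻¹ * (α b * b⁻¹) * b := by group
        _ = (α a)⁻¹ * (α a * a⁻¹) * b := by rw [e]
        _ = a⁻¹ * b := by group
    exact (mul_inv_eq_iff_eq_mul.1 (congrArg Subtype.val hf)).symm
  have hb : Function.Bijective f := (Nat.bijective_iff_injective_and_card _).2 ⟨hinj, by
    rw [← index_eq_card, h8, (h.outer_data hv hvC hvQ).1]⟩
  have hinvw : α ⟨v⁻¹ * w, hwv⟩ = (⟨v⁻¹ * w, hwv⟩ : Q)⁻¹ := Subtype.ext (by
    show v * (v⁻¹ * w) * v⁻¹ = (v⁻¹ * w)⁻¹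
    rw [mul_inv_rev, inv_inv, inv_eq_of_mul_eq_one_left hw, mul_inv_cancel_left, hvi])
  obtain ⟨⟨a⟩, ha⟩ := hb.2 ⟨_, hinvw⟩
  have e : v * a * v⁻¹ * (a : G)⁻¹ = v⁻¹ * w := congrArg (fun q => ((q.1 : Q) : G)) ha
  refine ⟨a, a.2, ?_⟩
  rw [hvi] at e
  calc (a : G) * v * (a : G)⁻¹ = (v * v) * ((a : G) * v * (a : G)⁻¹) := by rw [hv, one_mul]
    _ = v * (v * a * v * (a : G)⁻¹) := by group
    _ = v * (v * w) := by rw [e]
    _ = w := by rw [← mul_assoc, hv, one_mul]

theorem outer_conj {v w : G} (hv : v * v = 1) (hvC : v ∈ centralizer ({z} : Set G)) (hvQ : v ∉ Q)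
    (hw : w * w = 1) (hwC : w ∈ centralizer ({z} : Set G)) (hwQ : w ∉ Q) :
    ∃ c ∈ centralizer ({z} : Set G), c * v * c⁻¹ = w := by
  obtain ⟨π, hπ, hker⟩ := h.quot
  have sq1 : ∀ (a : G) (ha : a ∈ centralizer ({z} : Set G)), a * a = 1 →
      π ⟨a, ha⟩ * π ⟨a, ha⟩ = 1 := fun a ha e => by
    rw [← map_mul]; exact (congrArg π (Subtype.ext e)).trans (map_one π)
  obtain ⟨k, hk⟩ := five_invol_conj _ _ (sq1 v hvC hv) (fun e => hvQ ((hker _).1 e))
    (sq1 w hwC hw) (fun e => hwQ ((hker _).1 e))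
  obtain ⟨y, rfl⟩ := hπ k
  have hv' : (y : G) * v * (y : G)⁻¹ * ((y : G) * v * (y : G)⁻¹) = 1 := by
    rw [show (y : G) * v * (y : G)⁻¹ * ((y : G) * v * (y : G)⁻¹) = y * (v * v) * (y : G)⁻¹ by group,
      hv, mul_one, mul_inv_cancel]
  have hyC : (y : G) * v * (y : G)⁻¹ ∈ centralizer ({z} : Set G) :=
    mul_mem (mul_mem y.2 hvC) (inv_mem y.2)
  have hyQ : (y : G) * v * (y : G)⁻¹ ∉ Q := fun e => hvQ (by
    have := h.conj_mem _ (inv_mem y.2) _ e
    simpa [mul_assoc] using this)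
  obtain ⟨q, hq, he⟩ := h.coset_conj hv' hyC hyQ hw (show ((y : G) * v * (y : G)⁻¹)⁻¹ * w ∈ Q from by
    have : π ((y * ⟨v, hvC⟩ * y⁻¹)⁻¹ * ⟨w, hwC⟩) = 1 := by
      rw [map_mul, map_inv, map_mul, map_mul, map_inv, hk, inv_mul_cancel]
    exact (hker _).1 this)
  exact ⟨q * y, mul_mem (h.le hq) y.2, by rw [← he]; group⟩

theorem card_inf_centralizer_outer {v : G} (hv : v * v = 1) (hvC : v ∈ centralizer ({z} : Set G))
    (hvQ : v ∉ Q) :
    Nat.card ↥(centralizer ({z} : Set G) ⊓ centralizer ({v} : Set G) : Subgroup G) = 16 := by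
  classical
  haveI := Fintype.ofFinite G
  obtain ⟨π, hπ, hker⟩ := h.quot
  set K := centralizer ({z} : Set G) ⊓ centralizer ({v} : Set G) with hK
  let f : ↥K →* A5 := π.comp (Subgroup.inclusion inf_le_left)
  set a := π ⟨v, hvC⟩ with ha
  have hkerf : Nat.card f.ker = 4 := by
    rw [← h.card_inf_outer hv hvC hvQ]
    refine Nat.card_congr
      { toFun := fun w => ⟨(w : K), (hker _).1 w.2, (w : K).2.2⟩
        invFun := fun q => ⟨⟨q, h.le q.2.1, q.2.2⟩, (hker _).2 q.2.1⟩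
        left_inv := fun w => rfl
        right_inv := fun q => rfl }
  have hrange : Nat.card f.range = 4 := by
    rw [← five_invol_centralizer a (by rw [ha, ← map_mul]; exact (congrArg π (Subtype.ext hv)).trans (map_one π))
      (fun e => hvQ ((hker ⟨v, hvC⟩).1 e))]
    refine Nat.card_congr (Equiv.subtypeEquivRight fun k => ?_)
    constructor
    · rintro ⟨⟨y, hy⟩, rfl⟩
      show π ⟨y, hy.1⟩ * π ⟨v, hvC⟩ = π ⟨v, hvC⟩ * π ⟨y, hy.1⟩
      rw [← map_mul, ← map_mul]
      exact congrArg π (Subtype.ext (mem_cent.1 hy.2))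
    · intro hk
      obtain ⟨y, rfl⟩ := hπ k
      have hv' : (y : G) * v * (y : G)⁻¹ * ((y : G) * v * (y : G)⁻¹) = 1 := by
        rw [show (y : G) * v * (y : G)⁻¹ * ((y : G) * v * (y : G)⁻¹) = y * (v * v) * (y : G)⁻¹ by group,
          hv, mul_one, mul_inv_cancel]
      have hq : v⁻¹ * ((y : G) * v * (y : G)⁻¹) ∈ Q := by
        have : π (⟨v, hvC⟩⁻¹ * (y * ⟨v, hvC⟩ * y⁻¹)) = 1 := by
          rw [map_mul, map_inv, map_mul, map_mul, map_inv, hk, mul_inv_cancel_right, inv_mul_cancel]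
        exact (hker _).1 this
      obtain ⟨q, hq, he⟩ := h.coset_conj hv hvC hvQ hv' hq
      refine ⟨⟨q⁻¹ * y, mul_mem ((centralizer ({z} : Set G)).inv_mem (h.le hq)) y.2, mem_cent.2 ?_⟩, ?_⟩
      · calc q⁻¹ * y * v = q⁻¹ * ((y : G) * v * (y : G)⁻¹) * y := by group
          _ = q⁻¹ * (q * v * q⁻¹) * y := by rw [he]
          _ = v * (q⁻¹ * y) := by group
      · show π (⟨q, h.le hq⟩⁻¹ * y) = π y
        rw [map_mul, map_inv, (hker ⟨q, h.le hq⟩).2 hq, inv_one, one_mul]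
  rw [← f.ker.card_mul_index, index_ker, hkerf, hrange]

theorem card_inf_inner {u : G} (hu : u ∈ Q) (hu1 : u ≠ 1) (hu2 : u ≠ z) :
    Nat.card ↥(Q ⊓ centralizer ({u} : Set G) : Subgroup G) = 16 ∧
      ∃ q ∈ Q, q * u * q⁻¹ = u * z := by
  classical
  haveI := Fintype.ofFinite G
  obtain ⟨q, hq, hne⟩ : ∃ q ∈ Q, u * q ≠ q * u := by
    by_contra hcon
    push Not at hcon
    exact (h.center_cases hu hcon).elim hu1 hu2
  have hcases : ∀ y ∈ Q, y * u * y⁻¹ = u ∨ y * u * y⁻¹ = u * z := by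
    intro y hy
    have hm := CfsgLib.PGroups.IsExtraspecial.comm_mem h.extra (⟨u, hu⟩⁻¹ : Q) ⟨y, hy⟩
    rcases MinusThirtyTwo.center_cases h.extra h.zq_center h.zq_ne hm with e | e
    · left
      have e' : u⁻¹ * y * u * y⁻¹ = 1 := by simpa [commutatorElement_def] using congrArg Subtype.val e
      calc y * u * y⁻¹ = u * (u⁻¹ * y * u * y⁻¹) := by group
        _ = u := by rw [e', mul_one]
    · right
      have e' : u⁻¹ * y * u * y⁻¹ = z := by simpa [commutatorElement_def] using congrArg Subtype.val e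
      calc y * u * y⁻¹ = u * (u⁻¹ * y * u * y⁻¹) := by group
        _ = u * z := by rw [e']
  have hquz : q * u * q⁻¹ = u * z :=
    (hcases q hq).resolve_left fun e => hne (mul_inv_eq_iff_eq_mul.1 e).symm
  refine ⟨?_, q, hq, hquz⟩
  set K : Subgroup Q := (centralizer ({u} : Set G)).subgroupOf Q with hK
  have h2 : K.index ≤ 2 := by
    rw [index_eq_card]
    let f : Q ⧸ K → ({u, u * z} : Set G) := Quotient.lift
      (fun y => ⟨(y : G) * u * (y : G)⁻¹, by simpa using hcases y y.2⟩) (fun a b hab => by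
      have hc : ((a⁻¹ * b : Q) : G) * u = u * ((a⁻¹ * b : Q) : G) :=
        mem_cent.1 (mem_subgroupOf.1 (QuotientGroup.leftRel_apply.1 hab))
      refine Subtype.ext ?_
      show (a : G) * u * (a : G)⁻¹ = b * u * (b : G)⁻¹
      simp only [Subgroup.coe_mul, InvMemClass.coe_inv] at hc
      calc (a : G) * u * (a : G)⁻¹ = a * (u * ((a : G)⁻¹ * b)) * (b : G)⁻¹ := by group
        _ = a * ((a : G)⁻¹ * b * u) * (b : G)⁻¹ := by rw [← hc]
        _ = _ := by group)
    refine le_trans (Nat.card_le_card_of_injective f ?_) ?_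
    · rintro ⟨a⟩ ⟨b⟩ hab
      refine QuotientGroup.eq.2 (mem_subgroupOf.2 (mem_cent.2 ?_))
      have e : (a : G) * u * (a : G)⁻¹ = b * u * (b : G)⁻¹ := congrArg Subtype.val hab
      show (a : G)⁻¹ * b * u = u * ((a : G)⁻¹ * b)
      calc (a : G)⁻¹ * b * u = (a : G)⁻¹ * (b * u * (b : G)⁻¹) * b := by group
        _ = _ := by rw [← e]; group
    · rw [Nat.card_coe_set_eq]
      exact (Set.ncard_insert_le _ _).trans (by rw [Set.ncard_singleton])
  have h1 : K.index ≠ 1 := fun e => by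
    have : (⟨q, hq⟩ : Q) ∈ K := (index_eq_one.1 e).symm ▸ mem_top _
    exact hne (mem_cent.1 (mem_subgroupOf.1 this)).symm
  have h3 := K.card_mul_index
  have h4 : K.index = 2 := by
    have : 0 < K.index := Nat.pos_of_ne_zero index_ne_zero_of_finite
    omega
  rw [h4, h.card] at h3
  have e : Nat.card K = Nat.card ↥(Q ⊓ centralizer ({u} : Set G) : Subgroup G) := by
    rw [hK, ← inf_subgroupOf_left, Nat.card_congr (subgroupOfEquivOfLe inf_le_left).toEquiv]
  omega

theorem inner_conj {u w : G} (hu : u ∈ Q) (hu2 : u * u = 1) (hu1 : u ≠ 1 ∧ u ≠ z)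
    (hw : w ∈ Q) (hw2 : w * w = 1) (hw1 : w ≠ 1 ∧ w ≠ z) :
    ∃ c ∈ centralizer ({z} : Set G), c * u * c⁻¹ = w := by
  classical
  haveI := Fintype.ofFinite G
  obtain ⟨c, hc5, hc1, -⟩ := h.exists_five
  obtain ⟨-, q, hq, hquz⟩ := h.card_inf_inner hu hu1.1 hu1.2
  set β := h.act c with hβ
  have hβ5 : β ^ 5 = 1 := by rw [hβ, ← h.act_pow, hc5, h.act_one]
  set U : Q := ⟨u, hu⟩ with hU
  set Z : Q := ⟨z, h.z_mem⟩ with hZ
  have hUc : U ∉ center Q := fun e => by
    rcases MinusThirtyTwo.center_cases h.extra h.zq_center h.zq_ne e with e | e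
    · exact hu1.1 (congrArg Subtype.val e)
    · exact hu1.2 (congrArg Subtype.val e)
  have hZβ : ∀ n : ℕ, (β ^ n) Z = Z := fun n =>
    MinusThirtyTwo.map_center h.extra h.zq_center h.zq_ne _ h.zq_center
  have hZfix : ∀ (γ : MulAut Q) (x : Q), x ∈ center Q → γ x = x := fun γ x hx =>
    MinusThirtyTwo.map_center h.extra h.zq_center h.zq_ne γ hx
  let f : Fin 5 × Fin 2 → {x : Q // x * x = 1 ∧ x ∉ center Q} := fun p =>
    ⟨(β ^ p.1.val) (U * Z ^ p.2.val), by
      have hzz : Z ^ p.2.val ∈ center Q := pow_mem h.zq_center _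
      have h2 : (U * Z ^ p.2.val) * (U * Z ^ p.2.val) = 1 := by
        calc U * Z ^ p.2.val * (U * Z ^ p.2.val) = U * (Z ^ p.2.val * U) * Z ^ p.2.val := by group
          _ = (U * U) * (Z ^ p.2.val * Z ^ p.2.val) := by
              rw [← mem_center_iff.1 hzz U]; group
          _ = 1 := by
              rw [CfsgLib.PGroups.ExtraspecialOut.center_mul_self h.extra hzz,
                show U * U = 1 from Subtype.ext hu2, one_mul]
      refine ⟨by rw [← map_mul, h2, map_one], fun e => hUc ?_⟩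
      have e' := hZfix (β ^ p.1.val)⁻¹ _ e
      rw [← MulAut.mul_apply, inv_mul_cancel, MulAut.one_apply] at e'
      exact (mul_mem_cancel_right hzz).1 (e'.symm ▸ e)⟩
  have hinj : Function.Injective f := by
    rintro ⟨i, a⟩ ⟨j, b⟩ hab
    have e : (β ^ i.val) (U * Z ^ a.val) = (β ^ j.val) (U * Z ^ b.val) := congrArg Subtype.val hab
    rw [map_mul, map_mul, map_pow, map_pow, hZβ, hZβ] at e
    -- the two translates lie in one coset of the centre
    have key : ∀ i j : Fin 5, i.val ≤ j.val → ∀ a b : Fin 2,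
        (β ^ i.val) U * Z ^ a.val = (β ^ j.val) U * Z ^ b.val → i = j := by
      intro i j hij a b e
      by_contra hne
      have hlt : i.val < j.val := lt_of_le_of_ne hij fun e => hne (Fin.ext e)
      set d := j.val - i.val with hd
      have hj : β ^ j.val = β ^ i.val * β ^ d := by rw [← pow_add]; congr 1; omega
      rw [hj, MulAut.mul_apply] at e
      have e2 := congrArg ((β ^ i.val)⁻¹ : MulAut Q) e
      rw [map_mul, map_mul, ← MulAut.mul_apply, ← MulAut.mul_apply, inv_mul_cancel, MulAut.one_apply,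
        MulAut.one_apply, hZfix _ _ (pow_mem h.zq_center _), hZfix _ _ (pow_mem h.zq_center _)] at e2
      have hmem : U ∈ MinusThirtyTwo.modFix (β ^ d) := by
        rw [MinusThirtyTwo.mem_modFix]
        have e3 : (β ^ d) U = U * (Z ^ a.val * (Z ^ b.val)⁻¹) := by
          rw [← mul_assoc, e2, mul_inv_cancel_right]
        rw [e3, mem_center_iff.1 (mul_mem (pow_mem h.zq_center _) (inv_mem (pow_mem h.zq_center _))) U,
          mul_inv_cancel_right]
        exact mul_mem (pow_mem h.zq_center _) (inv_mem (pow_mem h.zq_center _))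
      have h5 : (β ^ d) ^ 5 = 1 := by rw [← pow_mul, mul_comm, pow_mul, hβ5, one_pow]
      have hd1 : β ^ d ≠ 1 := fun e4 => by
        haveI : Fact (Nat.Prime 5) := ⟨by norm_num⟩
        have this : 5 ∣ d := orderOf_eq_prime hβ5 hc1 ▸ orderOf_dvd_of_pow_eq_one e4
        have hj5 := j.isLt
        obtain ⟨r, hr⟩ := this
        omega
      exact hUc (MinusThirtyTwo.mem_center_of_fix h.extra h.zq_center h.zq_ne h.card h5 hd1
        (MinusThirtyTwo.fix_of_mem_modFix h.extra h.zq_center h.zq_ne h5 hmem))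
    have hij : i = j := by
      rcases le_total i.val j.val with hle | hle
      · exact key i j hle a b e
      · exact (key j i hle b a e.symm).symm
    subst hij
    have e5 : Z ^ a.val = Z ^ b.val := mul_left_cancel e
    have hZ1 : Z ≠ 1 := h.zq_ne
    fin_cases a <;> fin_cases b <;> simp_all
  have hcard : Nat.card {x : Q // x * x = 1 ∧ x ∉ center Q} = 10 := by
    let e : {x : Q // x * x = 1 ∧ x ∉ center Q} ⊕ center Q ≃ {x : Q // x * x = 1} :=
      { toFun := Sum.elim (fun x => ⟨x.1, x.2.1⟩)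
          (fun x => ⟨x.1, CfsgLib.PGroups.ExtraspecialOut.center_mul_self h.extra x.2⟩)
        invFun := fun x => if hx : x.1 ∈ center Q then Sum.inr ⟨x.1, hx⟩ else Sum.inl ⟨x.1, x.2, hx⟩
        left_inv := by
          rintro (⟨x, hx⟩ | ⟨x, hx⟩)
          · simp [hx.2]
          · simp [hx]
        right_inv := fun x => by by_cases hx : x.1 ∈ center Q <;> simp [hx] }
    have := Nat.card_congr e
    rw [Nat.card_sum, h.extra.2, h.minus.1] at this
    omega
  have hb : Function.Bijective f := (Nat.bijective_iff_injective_and_card _).2 ⟨hinj, by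
    rw [hcard, Nat.card_prod, Nat.card_fin, Nat.card_fin]⟩
  have hwc : (⟨w, hw⟩ : Q) ∉ center Q := fun e => by
    rcases MinusThirtyTwo.center_cases h.extra h.zq_center h.zq_ne e with e | e
    · exact hw1.1 (congrArg Subtype.val e)
    · exact hw1.2 (congrArg Subtype.val e)
  obtain ⟨⟨i, a⟩, hia⟩ := hb.2 ⟨⟨w, hw⟩, Subtype.ext hw2, hwc⟩
  have e : ((c ^ i.val : ↥(centralizer ({z} : Set G))) : G) * (u * z ^ a.val) *
      ((c ^ i.val : ↥(centralizer ({z} : Set G))) : G)⁻¹ = w := by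
    refine Eq.trans ?_ (congrArg (fun s => ((s.1 : Q) : G)) hia)
    show _ = (((β ^ i.val) (U * Z ^ a.val) : Q) : G)
    rw [hβ, ← h.act_pow, act_apply, Subgroup.coe_mul, SubgroupClass.coe_pow, SubgroupClass.coe_pow]
  fin_cases a
  · exact ⟨_, (c ^ i.val).2, by simpa using e⟩
  · refine ⟨_, mul_mem (c ^ i.val).2 (h.le hq), Eq.trans ?_ e⟩
    simp only [Fin.mk_one, Fin.val_one, pow_one, mul_inv_rev]
    rw [← hquz]
    group

theorem card_inf_centralizer_inner {u : G} (hu : u ∈ Q) (hu2 : u * u = 1) (hu1 : u ≠ 1 ∧ u ≠ z) :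
    Nat.card ↥(centralizer ({z} : Set G) ⊓ centralizer ({u} : Set G) : Subgroup G) = 192 := by
  classical
  haveI := Fintype.ofFinite G
  set C := centralizer ({z} : Set G) with hC
  set K := (centralizer ({u} : Set G)).subgroupOf C with hK
  have hK2 : Nat.card K = Nat.card ↥(C ⊓ centralizer ({u} : Set G) : Subgroup G) := by
    rw [hK, ← inf_subgroupOf_left, Nat.card_congr (subgroupOfEquivOfLe inf_le_left).toEquiv]
  let S := {x : G // x ∈ Q ∧ x * x = 1 ∧ x ≠ 1 ∧ x ≠ z}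
  let f : C ⧸ K → S := Quotient.lift (fun c => ⟨(c : G) * u * (c : G)⁻¹,
      h.conj_mem _ c.2 u hu,
      by rw [show (c : G) * u * (c : G)⁻¹ * ((c : G) * u * (c : G)⁻¹) = c * (u * u) * (c : G)⁻¹ by group,
        hu2, mul_one, mul_inv_cancel],
      fun e => hu1.1 (conj_eq_one_iff.1 e),
      fun e => hu1.2 (by
        calc u = (c : G)⁻¹ * ((c : G) * u * (c : G)⁻¹) * c := by group
          _ = (c : G)⁻¹ * (z * c) := by rw [e]; group
          _ = z := by rw [← mem_cent.1 c.2]; group)⟩)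
    (fun a b hab => Subtype.ext (by
      have hc : ((a⁻¹ * b : C) : G) * u = u * ((a⁻¹ * b : C) : G) :=
        mem_cent.1 (mem_subgroupOf.1 (QuotientGroup.leftRel_apply.1 hab))
      simp only [Subgroup.coe_mul, InvMemClass.coe_inv] at hc
      show (a : G) * u * (a : G)⁻¹ = b * u * (b : G)⁻¹
      calc (a : G) * u * (a : G)⁻¹ = a * (u * ((a : G)⁻¹ * b)) * (b : G)⁻¹ := by group
        _ = a * ((a : G)⁻¹ * b * u) * (b : G)⁻¹ := by rw [← hc]
        _ = _ := by group))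
  have hf : Function.Bijective f := by
    constructor
    · rintro ⟨a⟩ ⟨b⟩ hab
      refine QuotientGroup.eq.2 (mem_subgroupOf.2 (mem_cent.2 ?_))
      have e : (a : G) * u * (a : G)⁻¹ = b * u * (b : G)⁻¹ := congrArg Subtype.val hab
      show (a : G)⁻¹ * b * u = u * ((a : G)⁻¹ * b)
      calc (a : G)⁻¹ * b * u = (a : G)⁻¹ * (b * u * (b : G)⁻¹) * b := by group
        _ = _ := by rw [← e]; group
    · rintro ⟨w, hw, hw2, hw1, hwz⟩
      obtain ⟨c, hc, e⟩ := h.inner_conj hu hu2 hu1 hw hw2 ⟨hw1, hwz⟩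
      exact ⟨QuotientGroup.mk (⟨c, hc⟩ : C), Subtype.ext e⟩
  have hS : Nat.card S = 10 := by
    have hzz := h.zz
    let e : S ⊕ ({1, z} : Set G) ≃ {x : Q // x * x = 1} :=
      { toFun := Sum.elim (fun s => ⟨⟨s.1, s.2.1⟩, Subtype.ext s.2.2.1⟩)
          (fun x => ⟨⟨x.1, by rcases x.2 with e | e <;> rw [e]; exacts [one_mem _, h.z_mem]⟩,
            Subtype.ext (by
              show x.1 * x.1 = 1
              rcases x.2 with e | e <;> rw [e]; exacts [one_mul 1, hzz])⟩)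
        invFun := fun x =>
          if hx : (x.1 : G) = 1 ∨ (x.1 : G) = z then Sum.inr ⟨x.1, hx⟩
          else Sum.inl ⟨x.1, x.1.2, congrArg Subtype.val x.2, fun e => hx (Or.inl e), fun e => hx (Or.inr e)⟩
        left_inv := by
          rintro (⟨a, ha⟩ | ⟨a, ha⟩)
          · simp [ha.2.2.1, ha.2.2.2]
          · exact dif_pos (show a = 1 ∨ a = z from ha)
        right_inv := fun x => by
          by_cases hx : (x.1 : G) = 1 ∨ (x.1 : G) = z
          · simp only [dif_pos hx, Sum.elim_inr]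
          · simp only [dif_neg hx, Sum.elim_inl] }
    have h2 : Nat.card ({1, z} : Set G) = 2 := by
      rw [Nat.card_coe_set_eq, Set.ncard_pair h.z_ne.symm]
    have := Nat.card_congr e
    rw [Nat.card_sum, h2, h.minus.1] at this
    omega
  have := K.card_mul_index
  rw [index_eq_card, Nat.card_congr (Equiv.ofBijective f hf), hS, hK2,
    show Nat.card ↥C = 1920 from h.card_centralizer] at this
  omega

end Local

end CfsgLib.Recog.HJType
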