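import Mathlib.GroupTheory.SpecificGroups.Alternating
import Mathlib.GroupTheory.SpecificGroups.Quaternion
import Mathlib.GroupTheory.Subgroup.Centralizer
import Mathlib.GroupTheory.Sylow
import Mathlib.Tactic.Group
import Mathlib.Tactic.IntervalCases
import Mathlib.Tactic.NormNum.Prime

/-!
Owner: helper29. Finite facts about the alternating group of degree six.
-/

set_option autoImplicit false
set_option linter.all false
set_option Elab.async false

namespace CfsgLib.Recog.HJType

open Subgroup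

local notation "A5" => alternatingGroup (Fin 5)
local notation "A6" => alternatingGroup (Fin 6)

theorem six_card : Nat.card A6 = 360 := by
  rw [Nat.card_eq_fintype_card]; decide +kernel

/-- A three-cycle of five letters. -/
def fiveThree : A5 :=
  ⟨Equiv.swap 0 1 * Equiv.swap 1 2, by
    rw [Equiv.Perm.mem_alternatingGroup]; decide⟩

set_option maxRecDepth 8000 in
theorem five_three_conj_base : ∀ b : A5, b * b * b = 1 → b ≠ 1 →
    ∃ g : A5, g * fiveThree * g⁻¹ = b := by
  decide +kernel

theorem five_three_conj (a b : A5) (ha : a * a * a = 1) (ha1 : a ≠ 1) (hb : b * b * b = 1) (hb1 : b ≠ 1) :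
    ∃ g : A5, g * a * g⁻¹ = b := by
  obtain ⟨g, hg⟩ := five_three_conj_base a ha ha1
  obtain ⟨f, hf⟩ := five_three_conj_base b hb hb1
  exact ⟨f * g⁻¹, by rw [← hg, ← hf]; group⟩

set_option maxRecDepth 8000 in
theorem five_three_cent : ∀ a b : A5, a * a * a = 1 → a ≠ 1 → b * a = a * b → b = 1 ∨ b = a ∨ b = a * a := by
  decide +kernel

/-- The involution `v` and its image under `a` generate a four-group normalized by `a`. -/
def KleinAt (a v : Equiv.Perm (Fin 6)) : Prop :=
  (∀ l, v (v l) = l) ∧ (∃ l, v l ≠ l) ∧ (∀ l, v (a (v (a (a l)))) = a (v (a (a (v l))))) ∧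
    (∃ l, v l ≠ a (v (a (a l)))) ∧ ∀ l, a (a (v (a (a (a (a l)))))) = v (a (v (a (a l))))

instance (a v : Equiv.Perm (Fin 6)) : Decidable (KleinAt a v) := by unfold KleinAt; infer_instance

set_option maxRecDepth 8000 in
theorem six_three_witness : ∀ a : Equiv.Perm (Fin 6), (∀ i, a (a (a i)) = i) → (∃ i, a i ≠ i) →
    ∃ i j : Fin 6,
      (i ≠ a i ∧ a (a i) ≠ j ∧ KleinAt a (Equiv.swap i (a i) * Equiv.swap (a (a i)) j)) ∨
      (i ≠ j ∧ KleinAt a (Equiv.swap i j * Equiv.swap (a i) (a j))) := by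
  decide +kernel

/-- Every element of order three normalizes a four-group. -/
theorem six_three_klein (a : A6) (ha : a * a * a = 1) (ha1 : a ≠ 1) :
    ∃ v : A6, v * v = 1 ∧ v ≠ 1 ∧ v * (a * v * a⁻¹) = (a * v * a⁻¹) * v ∧ v ≠ a * v * a⁻¹ ∧
      a * (a * v * a⁻¹) * a⁻¹ = v * (a * v * a⁻¹) := by
  have h3 : ∀ i, a.1 (a.1 (a.1 i)) = i := fun i => Equiv.congr_fun (congrArg Subtype.val ha) i
  have h1 : ∃ i, a.1 i ≠ i := by
    by_contra hno
    push Not at hno
    exact ha1 (Subtype.ext (Equiv.ext hno))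
  obtain ⟨w, hw, hsign⟩ : ∃ w : Equiv.Perm (Fin 6), KleinAt a.1 w ∧ Equiv.Perm.sign w = 1 := by
    obtain ⟨i, j, h⟩ := six_three_witness a.1 h3 h1
    rcases h with ⟨e1, e2, h⟩ | ⟨e1, h⟩
    · exact ⟨_, h, by rw [Equiv.Perm.sign_mul, Equiv.Perm.sign_swap e1, Equiv.Perm.sign_swap e2]; rfl⟩
    · exact ⟨_, h, by
        rw [Equiv.Perm.sign_mul, Equiv.Perm.sign_swap e1, Equiv.Perm.sign_swap fun e => e1 (a.1.injective e)]; rfl⟩
  obtain ⟨w2, w1, wc, wn, wr⟩ := hw
  have hinv : ∀ l, (a⁻¹ : A6).1 l = a.1 (a.1 l) := fun l => by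
    show a.1⁻¹ l = _
    exact a.1.injective (by rw [h3]; exact a.1.apply_symm_apply l)
  refine ⟨⟨w, Equiv.Perm.mem_alternatingGroup.2 hsign⟩, Subtype.ext (Equiv.ext w2), ?_, Subtype.ext (Equiv.ext fun l => ?_),
    ?_, Subtype.ext (Equiv.ext fun l => ?_)⟩
  · intro e
    obtain ⟨l, hl⟩ := w1
    exact hl (Equiv.congr_fun (congrArg Subtype.val e) l)
  · show w (a.1 (w ((a⁻¹ : A6).1 l))) = a.1 (w ((a⁻¹ : A6).1 (w l)))
    rw [hinv, hinv]; exact wc l
  · intro e
    obtain ⟨l, hl⟩ := wn
    refine hl ?_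
    have := Equiv.congr_fun (congrArg Subtype.val e) l
    change w l = a.1 (w ((a⁻¹ : A6).1 l)) at this
    rwa [hinv] at this
  · show a.1 (a.1 (w ((a⁻¹ : A6).1 ((a⁻¹ : A6).1 l)))) = w (a.1 (w ((a⁻¹ : A6).1 l)))
    rw [hinv, hinv]; exact wr l

/-- A cube-one permutation of six letters. -/
def sixThreeA : A6 :=
  ⟨Equiv.swap 0 1 * Equiv.swap 1 2, by
    rw [Equiv.Perm.mem_alternatingGroup]; decide⟩

/-- A commuting cube-one permutation of six letters. -/
def sixThreeB : A6 :=
  ⟨Equiv.swap 3 4 * Equiv.swap 4 5, by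
    rw [Equiv.Perm.mem_alternatingGroup]; decide⟩

/-- The elements of a Sylow 3-subgroup of `A₆`. -/
def sixNine (x : A6) : Prop :=
  (∀ i : Fin 6, x.1 (sixThreeA.1 i) = sixThreeA.1 (x.1 i)) ∧
    ∀ i : Fin 6, x.1 (sixThreeB.1 i) = sixThreeB.1 (x.1 i)

instance : DecidablePred sixNine := fun x => by unfold sixNine; infer_instance

theorem six_nine_iff (x : A6) : sixNine x ↔ x ∈ centralizer ({sixThreeA, sixThreeB} : Set A6) := by
  rw [mem_centralizer_iff]
  constructor
  · rintro ⟨h1, h2⟩ y (rfl | rfl)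
    · exact Subtype.ext (Equiv.ext fun i => (h1 i).symm)
    · exact Subtype.ext (Equiv.ext fun i => (h2 i).symm)
  · intro h
    have h1 := h sixThreeA (Or.inl rfl)
    have h2 := h sixThreeB (Or.inr rfl)
    exact ⟨fun i => (Equiv.congr_fun (congrArg Subtype.val h1) i).symm,
      fun i => (Equiv.congr_fun (congrArg Subtype.val h2) i).symm⟩

theorem six_nine_card : Nat.card {x : A6 // sixNine x} = 9 := by
  rw [Nat.card_eq_fintype_card]; decide +kernel

theorem six_nine_normalizer : Nat.card {g : A6 // sixNine (g * sixThreeA * g⁻¹) ∧ sixNine (g * sixThreeB * g⁻¹)} = 36 := by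
  rw [Nat.card_eq_fintype_card]; decide +kernel

/-- A Sylow 3-subgroup of `A₆` has normalizer of order 36. -/
theorem six_sylow_normalizer (P : Sylow 3 A6) :
    Nat.card ↥(normalizer ((P : Subgroup A6) : Set A6)) = 36 := by
  haveI : Fact (Nat.Prime 3) := ⟨by norm_num⟩
  obtain ⟨S, hSdef⟩ : ∃ S : Subgroup A6, ∀ x, x ∈ S ↔ sixNine x :=
    ⟨centralizer ({sixThreeA, sixThreeB} : Set A6), fun x => (six_nine_iff x).symm⟩
  have hA : sixThreeA ∈ S := (hSdef _).2 (by decide +kernel)
  have hB : sixThreeB ∈ S := (hSdef _).2 (by decide +kernel)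
  have hS : Nat.card S = 9 := (Nat.card_congr (Equiv.subtypeEquivRight hSdef)).trans six_nine_card
  obtain ⟨R, hR⟩ := (IsPGroup.of_card (n := 2) (by rw [hS]; norm_num) : IsPGroup 3 S).exists_le_sylow
  have hRcard : Nat.card (R : Subgroup A6) = 9 := by
    rw [Sylow.card_eq_multiplicity R,
      six_card, show (360 : ℕ) = 3 ^ 2 * 40 by norm_num,
      Nat.factorization_mul (by norm_num) (by norm_num), Finsupp.add_apply,
      Nat.Prime.factorization_pow (by norm_num), Finsupp.single_eq_same,
      Nat.factorization_eq_zero_of_not_dvd (by norm_num : ¬ (3 ∣ 40))]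
    norm_num
  have hSR : S = (R : Subgroup A6) := Subgroup.eq_of_le_of_card_ge hR (by rw [hS, hRcard])
  have hN : Nat.card ↥(normalizer (S : Set A6)) = 36 := by
    rw [← six_nine_normalizer]
    refine Nat.card_congr (Equiv.subtypeEquivRight fun g => ?_)
    constructor
    · intro hg
      exact ⟨(hSdef _).1 ((mem_normalizer_iff.1 hg _).1 hA), (hSdef _).1 ((mem_normalizer_iff.1 hg _).1 hB)⟩
    · rintro ⟨ha, hb⟩
      have hle : zpowers sixThreeA ⊔ zpowers sixThreeB = S := by
        refine le_antisymm (sup_le (zpowers_le.2 hA) (zpowers_le.2 hB)) ?_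
        by_contra hne
        have hd := card_dvd_of_le (show zpowers sixThreeA ⊔ zpowers sixThreeB ≤ S from
          sup_le (zpowers_le.2 hA) (zpowers_le.2 hB))
        have hA3 : Nat.card (zpowers sixThreeA) = 3 := by
          rw [Nat.card_zpowers]; exact orderOf_eq_prime (by decide +kernel) (by decide +kernel)
        have hd3 := card_dvd_of_le (show zpowers sixThreeA ≤ zpowers sixThreeA ⊔ zpowers sixThreeB from le_sup_left)
        rw [hA3] at hd3
        rw [hS] at hd
        have hlt : Nat.card ↥(zpowers sixThreeA ⊔ zpowers sixThreeB : Subgroup A6) ≠ 3 := fun h3 => by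
          have hmem := Subgroup.eq_of_le_of_card_ge
            (le_sup_left : zpowers sixThreeA ≤ zpowers sixThreeA ⊔ zpowers sixThreeB) (by rw [hA3, h3])
          have hB' : sixThreeB ∈ zpowers sixThreeA := hmem ▸ mem_sup_right (mem_zpowers _)
          obtain ⟨j, hj⟩ := mem_zpowers_iff.1 hB'
          have hfix : (sixThreeA ^ j).1 3 = 3 := by
            rw [Subgroup.coe_zpow]
            exact Equiv.Perm.zpow_apply_eq_self_of_apply_eq_self (by decide +kernel) j
          rw [hj] at hfix
          exact absurd hfix (by decide +kernel)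
        have h9 : Nat.card ↥(zpowers sixThreeA ⊔ zpowers sixThreeB : Subgroup A6) = 9 := by
          have hle' := Nat.le_of_dvd (by norm_num) hd
          obtain ⟨m, hm⟩ := hd3
          rw [hm] at hd hle' hlt ⊢
          have : 0 < m := by
            rcases Nat.eq_zero_or_pos m with e | e
            · rw [e] at hd; norm_num at hd
            · exact e
          have : m ≤ 3 := by omega
          interval_cases m <;> omega
        exact hne (Subgroup.eq_of_le_of_card_ge (sup_le (zpowers_le.2 hA) (zpowers_le.2 hB)) (by rw [hS, h9])).ge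
      have hconj : S.map (MulAut.conj g).toMonoidHom = S := by
        refine Subgroup.eq_of_le_of_card_ge ?_ (le_of_eq (card_map_of_injective (MulAut.conj g).injective).symm)
        rw [map_le_iff_le_comap, ← hle]
        exact sup_le (zpowers_le.2 (by rw [hle]; exact (hSdef _).2 ha)) (zpowers_le.2 (by rw [hle]; exact (hSdef _).2 hb))
      refine Subgroup.mem_normalizer_fintype fun y hy => ?_
      have h' : g * y * g⁻¹ ∈ S.map (MulAut.conj g).toMonoidHom := ⟨y, hy, rfl⟩
      rwa [hconj] at h'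
  have e1 := (normalizer ((P : Subgroup A6) : Set A6)).card_mul_index
  have e2 := (normalizer (S : Set A6)).card_mul_index
  have hi : (normalizer ((P : Subgroup A6) : Set A6)).index = (normalizer (S : Set A6)).index := by
    rw [hSR]
    exact P.card_eq_index_normalizer.symm.trans R.card_eq_index_normalizer
  rw [← e2, hN, hi] at e1
  exact Nat.eq_of_mul_eq_mul_right (Nat.pos_of_ne_zero Subgroup.index_ne_zero_of_finite) e1

theorem quat_two_invol : ∀ a b : QuaternionGroup 2, a * a = 1 → a ≠ 1 → b * b = 1 → b ≠ 1 → a = b := by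
  decide +kernel

end CfsgLib.Recog.HJType
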