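import Cfsg.Agent.Lib.Recog.JankoTwoType.Rotate
import Cfsg.Agent.Lib.Recog.JankoTwoType.AltSixFacts
import Cfsg.Agent.Lib.LocalEvenB.CentralizerDEight
import Cfsg.Agent.Lib.Perm.Alt2520.Eight
import Cfsg.Agent.Lib.Recog.JankoTwoType.SmallFacts

/-!
Owner: helper29. Groups of Hall–Janko type: the centralizer of an element of order three fixing a
four-group of conjugates of `z`.
-/

set_option autoImplicit false
set_option linter.all false

namespace CfsgLib.Recog.HJType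

open Subgroup Cfsg CfsgLib.Recog

local notation "A6" => alternatingGroup (Fin 6)

namespace Four

variable {G : Type*} [Group G] [Finite G] {z u σ : G} {Q Q' : Subgroup G} (F : Four z Q u Q')
include F

theorem sigma_not_mem (hσ3 : σ ^ 3 = 1) (hσ1 : σ ≠ 1) : σ ∉ Q := fun h => by
  have h32 := pow_card_eq_one' (x := (⟨σ, h⟩ : Q))
  rw [F.hz.loc.card] at h32
  exact hσ1 (eq_one_of_pow_odd_two (k := 5) (congrArg Subtype.val h32) (by decide) hσ3)

theorem card_fix (hσ : σ ∈ centralizer ({z} : Set G) ⊓ centralizer ({u} : Set G)) (hσ3 : σ ^ 3 = 1)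
    (hσ1 : σ ≠ 1) : Nat.card ↥(Q ⊓ centralizer ({σ} : Set G) : Subgroup G) = 8 ∧
      ∃ q ∈ Q ⊓ centralizer ({σ} : Set G), q * u ≠ u * q := by
  classical
  obtain ⟨T, hTK, hT64, hT2, hAT, hBT, hnorm, hmemT, hdec, hcomm⟩ := F.exists_top
  set D := Q ⊓ centralizer ({σ} : Set G) with hD
  have hDu : D ⊓ centralizer ({u} : Set G) = Q ⊓ Q' := by
    refine le_antisymm (fun x hx => ?_) fun x hx => ⟨⟨hx.1, mem_cent.2 (F.central hσ hx).symm⟩, F.hu.loc.le hx.2⟩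
    refine F.fpf hTK hdec hσ hσ3 hσ1 (hAT ⟨hx.1.1, hx.2⟩) (v := 1) (one_mem _) ?_
    rw [one_mul, ← mem_cent.1 hx.1.2, mul_inv_cancel_right]
  -- a fixed point outside the centralizer of `u`
  set A := Q ⊓ centralizer ({u} : Set G) with hA
  have hinv : ∀ x, x ∈ A ↔ σ * x * σ⁻¹ ∈ A := by
    intro x
    refine ⟨fun hx => F.left_normal hσ hx, fun hx => ?_⟩
    have := F.left_normal (Subgroup.inv_mem _ hσ) hx
    rwa [show σ⁻¹ * (σ * x * σ⁻¹) * σ⁻¹⁻¹ = x by group] at this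
  have hQi : ∀ x, x ∈ Q ↔ σ * x * σ⁻¹ ∈ Q := by
    intro x
    refine ⟨fun hx => F.hz.loc.conj_mem σ hσ.1 x hx, fun hx => ?_⟩
    have := F.hz.loc.conj_mem σ⁻¹ (Subgroup.inv_mem _ hσ.1) _ hx
    rwa [show σ⁻¹ * (σ * x * σ⁻¹) * σ⁻¹⁻¹ = x by group] at this
  let e : Equiv.Perm {x : G // x ∈ Q ∧ x ∉ A} :=
    { toFun := fun x => ⟨σ * x * σ⁻¹, (hQi x).1 x.2.1, fun h => x.2.2 ((hinv x).2 h)⟩
      invFun := fun x => ⟨σ⁻¹ * x * σ, (hQi _).2 (by simpa [mul_assoc] using x.2.1),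
        fun h => x.2.2 (by simpa [mul_assoc] using (hinv _).1 h)⟩
      left_inv := fun x => Subtype.ext (by simp [mul_assoc])
      right_inv := fun x => Subtype.ext (by simp [mul_assoc]) }
  have he3 : e ^ 3 ^ 1 = 1 := by
    refine Equiv.ext fun x => Subtype.ext ?_
    show σ * (σ * (σ * x * σ⁻¹) * σ⁻¹) * σ⁻¹ = (x : G)
    rw [show σ * (σ * (σ * (x : G) * σ⁻¹) * σ⁻¹) * σ⁻¹ = (σ * σ * σ) * x * (σ * σ * σ)⁻¹ by group,
      ← pow_three', hσ3, one_mul, inv_one, mul_one]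
  haveI : Fact (Nat.Prime 3) := ⟨by norm_num⟩
  haveI := Fintype.ofFinite {x : G // x ∈ Q ∧ x ∉ A}
  have hc : Fintype.card {x : G // x ∈ Q ∧ x ∉ A} = 16 := by
    rw [← Nat.card_eq_fintype_card]
    have h1 : Nat.card {x : G // x ∈ Q ∧ x ∉ A} = ((Q : Set G) \ (A : Set G)).ncard := by
      rw [← Nat.card_coe_set_eq]; rfl
    rw [h1, Set.ncard_sdiff (SetLike.coe_subset_coe.2 inf_le_left), ← Nat.card_coe_set_eq,
      ← Nat.card_coe_set_eq]
    show Nat.card Q - Nat.card A = 16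
    rw [F.hz.loc.card, hA, F.left_card]
  obtain ⟨⟨q, hqQ, hqA⟩, hq⟩ := Equiv.Perm.exists_fixed_point_of_prime (by rw [hc]; norm_num) he3
  have hqσ : σ * q * σ⁻¹ = q := congrArg Subtype.val hq
  have hqD : q ∈ D := ⟨hqQ, mem_cent.2 (mul_inv_eq_iff_eq_mul.1 hqσ).symm⟩
  refine ⟨?_, q, hqD, fun h => hqA ⟨hqQ, mem_cent.2 h⟩⟩
  have h4 : Nat.card ↥(D ⊓ centralizer ({u} : Set G) : Subgroup G) = 4 := by rw [hDu, F.card_inf]
  have hd : 4 ∣ Nat.card D := h4 ▸ card_dvd_of_le inf_le_left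
  have hne : Nat.card D ≠ 4 := fun h => hqA ⟨hqQ, by
    have := Subgroup.eq_of_le_of_card_ge (inf_le_left : D ⊓ centralizer ({u} : Set G) ≤ D) (by rw [h, h4])
    exact (this.ge hqD).2⟩
  have hle : Nat.card D ≤ 8 := by
    -- the restriction of the index two subgroup
    let f : D ⧸ (centralizer ({u} : Set G)).subgroupOf D → Q ⧸ A.subgroupOf Q := Quotient.lift
      (fun d => QuotientGroup.mk (⟨d, d.2.1⟩ : Q)) (fun a b hab => by
        refine QuotientGroup.eq.2 (mem_subgroupOf.2 ⟨mul_mem (Subgroup.inv_mem _ a.2.1) b.2.1, ?_⟩)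
        have h := mem_subgroupOf.1 ((QuotientGroup.leftRel_apply (s := (centralizer ({u} : Set G)).subgroupOf D)).1 hab)
        exact h)
    have hfi : Function.Injective f := by
      rintro ⟨a⟩ ⟨b⟩ h
      exact QuotientGroup.eq.2 (mem_subgroupOf.2 (mem_subgroupOf.1 (QuotientGroup.eq.1 h)).2)
    have h1 := Nat.card_le_card_of_injective f hfi
    have h2 := (A.subgroupOf Q).card_mul_index
    rw [index_eq_card, Nat.card_congr (subgroupOfEquivOfLe inf_le_left).toEquiv,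
      show Nat.card A = 16 from F.left_card, F.hz.loc.card] at h2
    have h3 := ((centralizer ({u} : Set G)).subgroupOf D).card_mul_index
    rw [index_eq_card, show Nat.card ↥((centralizer ({u} : Set G)).subgroupOf D) = 4 by
      rw [← inf_subgroupOf_left, Nat.card_congr (subgroupOfEquivOfLe inf_le_left).toEquiv, h4]] at h3
    have : Nat.card (D ⧸ (centralizer ({u} : Set G)).subgroupOf D) ≤ 2 := by omega
    calc Nat.card D = 4 * Nat.card (D ⧸ (centralizer ({u} : Set G)).subgroupOf D) := h3.symm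
      _ ≤ 8 := by omega
  have : 0 < Nat.card D := Nat.card_pos
  obtain ⟨m, hm⟩ := hd
  omega

theorem fix_iso (hσ : σ ∈ centralizer ({z} : Set G) ⊓ centralizer ({u} : Set G)) (hσ3 : σ ^ 3 = 1)
    (hσ1 : σ ≠ 1) : Nonempty (↥(Q ⊓ centralizer ({σ} : Set G) : Subgroup G) ≃* DihedralGroup 4) := by
  obtain ⟨h8, q, hq, hqu⟩ := F.card_fix hσ hσ3 hσ1
  have huD : u ∈ Q ⊓ centralizer ({σ} : Set G) :=
    ⟨F.mem, mem_cent.2 (F.central hσ ⟨F.mem, F.hu.loc.z_mem⟩).symm⟩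
  have hzD : z ∈ Q ⊓ centralizer ({σ} : Set G) :=
    ⟨F.hz.loc.z_mem, mem_cent.2 (F.central hσ ⟨F.hz.loc.z_mem, F.mem'⟩).symm⟩
  rcases CfsgLib.Perm.Alt2520.eight_cases h8 with hc | hd | ⟨⟨e⟩⟩
  · exact absurd (congrArg Subtype.val (hc ⟨q, hq⟩ ⟨u, huD⟩)) hqu
  · exact hd
  · exfalso
    have h1 := quat_two_invol (e ⟨z, hzD⟩) (e ⟨u, huD⟩)
      (by rw [← map_mul, show (⟨z, hzD⟩ : ↥(Q ⊓ centralizer ({σ} : Set G) : Subgroup G)) * ⟨z, hzD⟩ = 1 from
        Subtype.ext F.hz.loc.zz, map_one])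
      (fun h => F.hz.loc.z_ne (congrArg Subtype.val ((map_eq_one_iff e e.injective).1 h)))
      (by rw [← map_mul, show (⟨u, huD⟩ : ↥(Q ⊓ centralizer ({σ} : Set G) : Subgroup G)) * ⟨u, huD⟩ = 1 from
        Subtype.ext F.uu, map_one])
      (fun h => F.u_ne (congrArg Subtype.val ((map_eq_one_iff e e.injective).1 h)))
    exact F.ne (congrArg Subtype.val (e.injective h1)).symm

/-- The centralizer of `σ` in `C(z)`. -/
theorem mem_fix_mul (hσ : σ ∈ centralizer ({z} : Set G) ⊓ centralizer ({u} : Set G)) (hσ3 : σ ^ 3 = 1)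
    (hσ1 : σ ≠ 1) {y : G} (hy : y ∈ centralizer ({z} : Set G)) (hyσ : y * σ = σ * y) :
    ∃ d ∈ Q ⊓ centralizer ({σ} : Set G), ∃ s ∈ zpowers σ, y = d * s := by
  obtain ⟨π, hπ, hker⟩ := F.hz.loc.quot
  set a := π ⟨σ, hσ.1⟩ with ha
  have ha3 : a * a * a = 1 := by
    rw [ha, ← map_mul, ← map_mul, show (⟨σ, hσ.1⟩ : centralizer ({z} : Set G)) * ⟨σ, hσ.1⟩ * ⟨σ, hσ.1⟩ = 1 from
      Subtype.ext (by show σ * σ * σ = 1; rw [← pow_three', hσ3]), map_one]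
  have ha1 : a ≠ 1 := fun h => F.sigma_not_mem hσ3 hσ1 ((hker _).1 h)
  have hcomm : π ⟨y, hy⟩ * a = a * π ⟨y, hy⟩ := by
    rw [ha, ← map_mul, ← map_mul]; exact congrArg π (Subtype.ext hyσ)
  have main : ∀ (s : ↥(centralizer ({z} : Set G))), (s : G) ∈ zpowers σ → π ⟨y, hy⟩ = π s →
      ∃ d ∈ Q ⊓ centralizer ({σ} : Set G), ∃ s ∈ zpowers σ, y = d * s := by
    intro s hs h
    have hd : y * (s : G)⁻¹ ∈ Q := (hker (⟨y, hy⟩ * s⁻¹)).1 (by rw [map_mul, map_inv, h, mul_inv_cancel])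
    have hσc : σ ∈ centralizer ({σ} : Set G) := mem_cent.2 rfl
    exact ⟨_, ⟨hd, mul_mem (mem_cent.2 hyσ) (Subgroup.inv_mem _ ((zpowers_le.2 hσc) hs))⟩, s, hs, by group⟩
  rcases five_three_cent a _ ha3 ha1 hcomm with h | h | h
  · exact main 1 (one_mem _) (by rw [h, map_one])
  · exact main ⟨σ, hσ.1⟩ (mem_zpowers σ) h
  · exact main (⟨σ, hσ.1⟩ * ⟨σ, hσ.1⟩) (mul_mem (mem_zpowers σ) (mem_zpowers σ)) (by rw [h, map_mul])

omit [Finite G] in
theorem sq_one_of_three {w : G} (hw : w ∈ zpowers σ) (hσ3 : σ ^ 3 = 1) (h2 : w * w = 1) : w = 1 := by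
  obtain ⟨i, rfl⟩ := mem_zpowers_iff.1 hw
  exact eq_one_of_pow_odd_two (k := 1) (n := 3) (by rw [pow_one, sq, h2]) (by decide)
    (by rw [← zpow_natCast, ← zpow_mul, mul_comm, zpow_mul, zpow_natCast, hσ3, one_zpow])

/-- An element centralizing `σ` and, modulo `σ`, the involution `z` lies in `C(z)`. -/
theorem commute_of_mod (hσ : σ ∈ centralizer ({z} : Set G) ⊓ centralizer ({u} : Set G)) (hσ3 : σ ^ 3 = 1)
    {y : G} (hyσ : y * σ = σ * y) (h : z * (y * z * y⁻¹) ∈ zpowers σ) : y ∈ centralizer ({z} : Set G) := by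
  set w := z * (y * z * y⁻¹) with hw
  have hzσ : Commute z σ := (mem_cent.1 hσ.1).symm
  have hzw : z * w = w * z := by
    obtain ⟨j, hj⟩ := mem_zpowers_iff.1 h
    rw [← hj]; exact (hzσ.zpow_right j).eq
  have hww : w * w = 1 := by
    calc w * w = w * z * (y * z * y⁻¹) := by rw [hw]; group
      _ = z * w * (y * z * y⁻¹) := by rw [hzw]
      _ = (z * z) * (y * (z * z) * y⁻¹) := by rw [hw]; group
      _ = 1 := by rw [F.hz.loc.zz]; group
  have h1 := F.sq_one_of_three h hσ3 hww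
  refine mem_cent.2 (mul_inv_eq_iff_eq_mul.1 ?_)
  rw [← inv_eq_of_mul_eq_one_right h1, inv_eq_of_mul_eq_one_left F.hz.loc.zz]

theorem quot_two_group (hσ : σ ∈ centralizer ({z} : Set G) ⊓ centralizer ({u} : Set G)) (hσ3 : σ ^ 3 = 1)
    (hσ1 : σ ≠ 1) {y : G} (hyσ : y * σ = σ * y) (h : z * (y * z * y⁻¹) ∈ zpowers σ) :
    y ^ 8 ∈ zpowers σ := by
  obtain ⟨d, hd, s, hs, rfl⟩ := F.mem_fix_mul hσ hσ3 hσ1 (F.commute_of_mod hσ hσ3 hyσ h) hyσ
  have hc : Commute d s := by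
    obtain ⟨j, hj⟩ := mem_zpowers_iff.1 hs
    rw [← hj]; exact (show Commute d σ from mem_cent.1 hd.2).zpow_right j
  have h8 := pow_card_eq_one' (x := (⟨d, hd⟩ : ↥(Q ⊓ centralizer ({σ} : Set G) : Subgroup G)))
  rw [(F.card_fix hσ hσ3 hσ1).1] at h8
  rw [hc.mul_pow, show d ^ 8 = 1 from congrArg Subtype.val h8, one_mul]
  exact pow_mem hs 8

set_option maxHeartbeats 800000 in
/-- The centralizer of `σ` modulo `σ`. -/
theorem sigma_quot (hσ : σ ∈ centralizer ({z} : Set G) ⊓ centralizer ({u} : Set G)) (hσ3 : σ ^ 3 = 1)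
    (hσ1 : σ ≠ 1) :
    (∀ y : G, y * y = 1 → y ≠ 1 → y * σ = σ * y → IsConj z y) ∧
    ((∃ k : G, k * σ = σ * k ∧ k ^ 3 = 1 ∧ k ∉ zpowers σ) → 27 ∣ Nat.card ↥(centralizer ({σ} : Set G)) →
      Nat.card ↥(centralizer ({σ} : Set G)) = 1080 ∧
      ∃ π : ↥(centralizer ({σ} : Set G)) →* A6, Function.Surjective π ∧
        ∀ y, π y = 1 ↔ (y : G) ∈ zpowers σ) := by
  classical
  haveI : Fact (Nat.Prime 2) := ⟨Nat.prime_two⟩
  haveI : Fact (Nat.Prime 3) := ⟨by norm_num⟩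
  obtain ⟨eD⟩ := F.fix_iso hσ hσ3 hσ1
  set Y := centralizer ({σ} : Set G) with hY
  set N : Subgroup Y := (zpowers σ).subgroupOf Y with hN
  haveI hNn : N.Normal := ⟨fun n hn g => by
    refine mem_subgroupOf.2 ?_
    obtain ⟨j, hj⟩ := mem_zpowers_iff.1 (mem_subgroupOf.1 hn)
    show (g : G) * (n : G) * (g : G)⁻¹ ∈ zpowers σ
    rw [← hj, ((show Commute (g : G) σ from mem_cent.1 g.2).zpow_right j).eq, mul_inv_cancel_right]
    exact zpow_mem (mem_zpowers σ) j⟩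
  have hq1 : ∀ y : Y, QuotientGroup.mk' N y = 1 ↔ (y : G) ∈ zpowers σ := fun y => by
    rw [show QuotientGroup.mk' N y = 1 ↔ y ∈ N from QuotientGroup.eq_one_iff y, hN, mem_subgroupOf]
  set q := QuotientGroup.mk' N with hq
  have hzY : z ∈ Y := mem_cent.2 (mem_cent.1 hσ.1).symm
  have huY : u ∈ Y := mem_cent.2 (mem_cent.1 hσ.2).symm
  set zb := q ⟨z, hzY⟩ with hzb
  have hmod : ∀ (v : G) (hv : v ∈ Y) (y : Y), v * v = 1 → q y * q ⟨v, hv⟩ = q ⟨v, hv⟩ * q y →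
      v * ((y : G) * v * (y : G)⁻¹) ∈ zpowers σ := by
    intro v hv y hv2 h
    refine (hq1 (⟨v, hv⟩ * (y * ⟨v, hv⟩ * y⁻¹))).1 ?_
    rw [map_mul, map_mul, map_mul, map_inv, h, mul_inv_cancel_right, ← map_mul,
      show (⟨v, hv⟩ : Y) * ⟨v, hv⟩ = 1 from Subtype.ext hv2, map_one]
  -- the centralizer of the image of `z`
  set D := Q ⊓ centralizer ({σ} : Set G) with hD
  have hDY : D ≤ Y := inf_le_right
  let r : D →* ↥(centralizer ({zb} : Set (Y ⧸ N))) :=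
    { toFun := fun d => ⟨q ⟨d, hDY d.2⟩, mem_cent.2 (by
        rw [hzb, ← map_mul, ← map_mul]
        exact congrArg q (Subtype.ext (mem_cent.1 (F.hz.loc.le d.2.1))))⟩
      map_one' := Subtype.ext (map_one q)
      map_mul' := fun a b => Subtype.ext (map_mul q ⟨a, hDY a.2⟩ ⟨b, hDY b.2⟩) }
  have hri : Function.Injective r := by
    rw [← MonoidHom.ker_eq_bot_iff, eq_bot_iff]
    intro d hd
    have h1 : (d : G) ∈ zpowers σ := (hq1 ⟨d, hDY d.2⟩).1 (congrArg Subtype.val (MonoidHom.mem_ker.1 hd))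
    obtain ⟨j, hj⟩ := mem_zpowers_iff.1 h1
    have h8 := pow_card_eq_one' (x := d)
    rw [(F.card_fix hσ hσ3 hσ1).1] at h8
    refine mem_bot.2 (Subtype.ext (eq_one_of_pow_odd_two (k := 3) (n := 3) (congrArg Subtype.val h8) (by decide) ?_))
    rw [← hj, ← zpow_natCast, ← zpow_mul, mul_comm, zpow_mul, zpow_natCast, hσ3, one_zpow]
  have hrs : Function.Surjective r := by
    rintro ⟨yb, hyb⟩
    obtain ⟨y, rfl⟩ := QuotientGroup.mk'_surjective N yb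
    have hyz := F.commute_of_mod hσ hσ3 (mem_cent.1 y.2) (hmod z hzY y F.hz.loc.zz (mem_cent.1 hyb))
    obtain ⟨d, hd, s, hs, hys⟩ := F.mem_fix_mul hσ hσ3 hσ1 hyz (mem_cent.1 y.2)
    refine ⟨⟨d, hd⟩, Subtype.ext (inv_mul_eq_one.1 ?_)⟩
    show (q ⟨d, hDY hd⟩)⁻¹ * q y = 1
    rw [← map_inv, ← map_mul, hq1]
    show d⁻¹ * (y : G) ∈ zpowers σ
    rw [hys, inv_mul_cancel_left]
    exact hs
  let eC : ↥(centralizer ({zb} : Set (Y ⧸ N))) ≃* DihedralGroup 4 :=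
    (MulEquiv.ofBijective r ⟨hri, hrs⟩).symm.trans eD
  have hsqY : ∀ (v : G) (hv : v ∈ Y), v * v = 1 → v ≠ 1 → orderOf (q ⟨v, hv⟩) = 2 := by
    intro v hv hv2 hv1
    refine ord_two (by rw [← map_mul, show (⟨v, hv⟩ : Y) * ⟨v, hv⟩ = 1 from Subtype.ext hv2, map_one]) fun h => hv1 ?_
    exact F.sq_one_of_three ((hq1 _).1 h) hσ3 hv2
  have hzb2 : orderOf zb = 2 := hsqY z hzY F.hz.loc.zz F.hz.loc.z_ne
  -- the odd core is trivial
  have hpg : ∀ {v : G} {R : Subgroup G} {w : G} {R' : Subgroup G}, Four v R w R' →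
      σ ∈ centralizer ({v} : Set G) ⊓ centralizer ({w} : Set G) → ∀ hv : v ∈ Y,
      IsPGroup 2 ↥(centralizer ({q ⟨v, hv⟩} : Set (Y ⧸ N))) := by
    intro v R w R' F' hσ' hv
    rintro ⟨yb, hyb⟩
    obtain ⟨y, rfl⟩ := QuotientGroup.mk'_surjective N yb
    refine ⟨3, Subtype.ext ?_⟩
    show q y ^ 2 ^ 3 = 1
    rw [← map_pow, hq1]
    exact F'.quot_two_group hσ' hσ3 hσ1 (mem_cent.1 y.2) (hmod v hv y F'.hz.loc.zz (mem_cent.1 hyb))
  obtain ⟨Q'', hF'', hF''u⟩ := F.exists_third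
  have huzY : u * z ∈ Y := mul_mem huY hzY
  have hσuz : σ ∈ centralizer ({u * z} : Set G) := mem_cent.2
    ((show Commute σ u from mem_cent.1 hσ.2).mul_right (mem_cent.1 hσ.1)).eq
  have hcore : oddCore (Y ⧸ N) = ⊥ := by
    refine CfsgLib.LocalEvenB.DEight.oddCore_eq_bot (hsqY u huY F.uu F.u_ne) hzb2 ?_ ?_
      (hpg F.symm ⟨hσ.2, hσ.1⟩ huY) (hpg F hσ hzY) ?_
    · rw [hzb, ← map_mul, ← map_mul]; exact congrArg q (Subtype.ext F.comm.symm)
    · intro h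
      refine F.prod_ne.1 (F.sq_one_of_three ((hq1 (⟨u, huY⟩ * ⟨z, hzY⟩)).1 ?_) hσ3 F.prod_sq)
      rw [map_mul, h, hzb, ← map_mul, show (⟨z, hzY⟩ : Y) * ⟨z, hzY⟩ = 1 from Subtype.ext F.hz.loc.zz, map_one]
    · rw [hzb, ← map_mul]
      exact hpg hF''.symm ⟨hσuz, hσ.1⟩ huzY
  refine ⟨fun y hy hy1 hyσ => ?_, fun hk h27 => ?_⟩
  · -- involutions
    have hyY : y ∈ Y := mem_cent.2 hyσ
    have hp : IsPGroup 2 ↥(centralizer ({zb} : Set (Y ⧸ N))) := IsPGroup.of_card (n := 3)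
      (by rw [Nat.card_congr eC.toEquiv, Nat.card_eq_fintype_card]; rfl)
    obtain ⟨P, hP⟩ := hp.exists_le_sylow
    have hzC : zb ∈ centralizer ({zb} : Set (Y ⧸ N)) := mem_cent.2 rfl
    have hPC : (P : Subgroup (Y ⧸ N)) ≤ centralizer ({zb} : Set (Y ⧸ N)) := by
      have hz1 : zb ≠ 1 := fun h => by rw [h, orderOf_one] at hzb2; norm_num at hzb2
      haveI : Nontrivial (P : Subgroup (Y ⧸ N)) := ⟨⟨⟨zb, hP hzC⟩, 1, fun h => hz1 (congrArg Subtype.val h)⟩⟩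
      haveI := P.2.center_nontrivial
      obtain ⟨⟨⟨w, hw⟩, hwc⟩, hw1⟩ := exists_ne (1 : Subgroup.center (↥(P : Subgroup (Y ⧸ N))))
      have hcomm : ∀ p ∈ (P : Subgroup (Y ⧸ N)), p * w = w * p := fun p hp =>
        congrArg Subtype.val (mem_center_iff.1 hwc ⟨p, hp⟩)
      have hwC : w ∈ centralizer ({zb} : Set (Y ⧸ N)) := mem_cent.2 (hcomm zb (hP hzC)).symm
      have hcen : ∀ (x : ↥(centralizer ({zb} : Set (Y ⧸ N)))), (∀ y, x * y = y * x) → x = 1 ∨ eC x = DihedralGroup.r 2 := by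
        intro x hx
        rcases CfsgLib.LocalEvenB.DEight.d8_facts.1 (eC x) (fun y => by
          obtain ⟨y', rfl⟩ := eC.surjective y
          rw [← map_mul, ← map_mul, hx y']) with h | h
        · exact Or.inl ((map_eq_one_iff eC eC.injective).1 h)
        · exact Or.inr h
      have hw' := (hcen ⟨w, hwC⟩ fun y => Subtype.ext (hcomm _ (hP y.2)).symm).resolve_left
        fun h => hw1 (Subtype.ext (Subtype.ext (congrArg Subtype.val h :)))
      have hz' := (hcen ⟨zb, hzC⟩ fun y => Subtype.ext (mem_cent.1 y.2).symm).resolve_left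
        fun h => hz1 (congrArg Subtype.val h)
      have hwz : w = zb := congrArg Subtype.val (eC.injective (hw'.trans hz'.symm))
      intro p hp'
      exact mem_cent.2 (hwz ▸ hcomm p hp')
    have hpy : IsPGroup 2 (zpowers (q ⟨y, hyY⟩)) := IsPGroup.of_card (n := 1)
      (by rw [Nat.card_zpowers, hsqY y hyY hy hy1, pow_one])
    obtain ⟨R, hR⟩ := hpy.exists_le_sylow
    obtain ⟨gb, hgb⟩ := MulAction.exists_smul_eq (Y ⧸ N) R P
    obtain ⟨g, rfl⟩ := QuotientGroup.mk'_surjective N gb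
    have hmem : q g * q ⟨y, hyY⟩ * (q g)⁻¹ ∈ centralizer ({zb} : Set (Y ⧸ N)) := hPC (by
      rw [← hgb, Sylow.coe_subgroup_smul]; exact ⟨_, hR (mem_zpowers _), rfl⟩)
    rw [← map_inv, ← map_mul, ← map_mul] at hmem
    set y' : Y := g * ⟨y, hyY⟩ * g⁻¹ with hy'
    have hy'2 : (y' : G) * y' = 1 := invol_conj (g : G) hy
    have hy'1 : (y' : G) ≠ 1 := fun h => hy1 (conj_eq_one_iff.1 h)
    have hy'C := F.commute_of_mod hσ hσ3 (mem_cent.1 y'.2) (hmod z hzY y' F.hz.loc.zz (mem_cent.1 hmem))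
    obtain ⟨d, hd, s, hs, hys⟩ := F.mem_fix_mul hσ hσ3 hσ1 hy'C (mem_cent.1 y'.2)
    have hc : Commute d s := by
      obtain ⟨j, hj⟩ := mem_zpowers_iff.1 hs
      rw [← hj]; exact (show Commute d σ from mem_cent.1 hd.2).zpow_right j
    have hs1 : s = 1 := by
      have h2 : d ^ 2 * s ^ 2 = 1 := by rw [← hc.mul_pow, ← hys, sq]; exact hy'2
      have hs8 : s ^ 8 = 1 := by
        have h8 := pow_card_eq_one' (x := (⟨d, hd⟩ : ↥(Q ⊓ centralizer ({σ} : Set G) : Subgroup G)))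
        rw [(F.card_fix hσ hσ3 hσ1).1] at h8
        have : d ^ 8 = 1 := congrArg Subtype.val h8
        rw [show s ^ 8 = (s ^ 2) ^ 4 by rw [← pow_mul], eq_inv_of_mul_eq_one_right h2, inv_pow, ← pow_mul, this, inv_one]
      obtain ⟨j, hj⟩ := mem_zpowers_iff.1 hs
      exact eq_one_of_pow_odd_two (k := 3) (n := 3) hs8 (by decide)
        (by rw [← hj, ← zpow_natCast, ← zpow_mul, mul_comm, zpow_mul, zpow_natCast, hσ3, one_zpow])
    rw [hs1, mul_one] at hys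
    have := F.hz.inner (hys ▸ hd.1) hy'2 hy'1
    exact this.trans (isConj_iff.2 ⟨(g : G), rfl⟩ : IsConj y _).symm
  · have hN3 : Nat.card N = 3 := by
      rw [hN, Nat.card_congr (subgroupOfEquivOfLe (zpowers_le.2 (mem_cent.2 rfl))).toEquiv,
        Nat.card_zpowers, orderOf_eq_prime hσ3 hσ1]
    have hYq := card_eq_card_quotient_mul_card_subgroup N
    rw [hN3] at hYq
    have h9 : 9 ∣ Nat.card (Y ⧸ N) := by
      rw [hYq] at h27; exact Nat.dvd_of_mul_dvd_mul_right (by norm_num) (show 9 * 3 ∣ _ from h27)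
    rcases CfsgLib.LocalEvenB.DEight.main zb hzb2 ⟨eC⟩ with h | ⟨⟨ψ⟩⟩ | ⟨⟨ψ⟩⟩ | ⟨⟨ψ⟩⟩ | ⟨⟨ψ⟩⟩
    · rw [hcore, sup_bot_eq] at h
      have : Nat.card (Y ⧸ N) = 8 := by
        rw [← card_top (G := Y ⧸ N), ← h, Nat.card_congr eC.toEquiv, Nat.card_eq_fintype_card]; rfl
      rw [this] at h9; norm_num at h9
    · rw [Nat.card_congr ψ.toEquiv, Nat.card_perm, Nat.card_fin] at h9; norm_num [Nat.factorial] at h9
    · rw [Nat.card_congr ψ.toEquiv, Nat.card_perm, Nat.card_fin] at h9; norm_num [Nat.factorial] at h9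
    · rw [Nat.card_congr ψ.toEquiv, card_sl_three] at h9; norm_num at h9
    · refine ⟨?_, ψ.toMonoidHom.comp q, ψ.surjective.comp (QuotientGroup.mk'_surjective N), fun y => ?_⟩
      · rw [hYq, Nat.card_congr ψ.toEquiv, six_card]
      · show ψ (q y) = 1 ↔ _
        rw [MulEquiv.map_eq_one_iff, hq1]

end Four

end CfsgLib.Recog.HJType
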