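import Cfsg.Agent.Lib.Recog.JankoTwoType.Classes
import Cfsg.Agent.Lib.Components.FStar
import Cfsg.Agent.Lib.Classical.OrthogonalTwoSmall
import Cfsg.Agent.Lib.Pairs.CubicReduction

/-!
Owner: helper29. The hypothesis block of the Hall–Janko statements.
-/

set_option autoImplicit false
set_option linter.all false

namespace CfsgLib.Recog.HJType

open Subgroup Cfsg

theorem omega_equiv :
    Nonempty (↥(Cfsg.Omega (ZMod 2) (Cfsg.quadFormMinus 1 (ZMod 2) 1 1)) ≃* alternatingGroup (Fin 5)) := by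
  obtain ⟨e⟩ := CfsgLib.Classical.isometryGroup_minus_four_two (F := ZMod 2) (ZMod.card 2)
  have h1 : (commutator ↥(Cfsg.isometryGroup (ZMod 2) (Cfsg.quadFormMinus 1 (ZMod 2) 1 1))).map e.toMonoidHom =
      alternatingGroup (Fin 5) := by
    rw [← alternatingGroup.commutator_perm_eq (α := Fin 5) (by simp), commutator_def,
      Subgroup.map_commutator, Subgroup.map_top_of_surjective _ e.surjective, ← commutator_def]
  exact ⟨((commutator _).equivMapOfInjective e.toMonoidHom e.injective).trans (MulEquiv.subgroupCongr h1)⟩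

theorem hyp_of_statement {G : Type*} [Group G] [Finite G] (z : G) (hz : orderOf z = 2)
    (Q : Subgroup (Subgroup.centralizer ({z} : Set G))) [Q.Normal]
    (hF : Cfsg.generalizedFittingSubgroup (Subgroup.centralizer ({z} : Set G)) = Q)
    (hQ : Cfsg.IsExtraspecial 2 Q) (hcard : Nat.card Q = 2 ^ 5)
    (e : (Subgroup.centralizer ({z} : Set G)) ⧸ Q ≃* Cfsg.Omega (ZMod 2) (Cfsg.quadFormMinus 1 (ZMod 2) 1 1))
    (hnwc : ∃ g : G, (∃ hq : g * z * g⁻¹ ∈ Subgroup.centralizer ({z} : Set G),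
      (⟨g * z * g⁻¹, hq⟩ : Subgroup.centralizer ({z} : Set G)) ∈ Q) ∧ g * z * g⁻¹ ≠ z)
    (hcl : ∃ x y : G, orderOf x = 2 ∧ orderOf y = 2 ∧ ¬ IsConj x y) :
    ∃ Q₀ : Subgroup G, Hyp z Q₀ := by
  haveI : Fact (Nat.Prime 2) := ⟨Nat.prime_two⟩
  obtain ⟨f⟩ := omega_equiv
  have hmem : ∀ c : (Subgroup.centralizer ({z} : Set G)), (c : G) ∈ Q.map (Subgroup.centralizer ({z} : Set G)).subtype ↔ c ∈ Q := fun c =>
    mem_map_iff_mem (Subgroup.centralizer ({z} : Set G)).subtype_injective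
  let π : (Subgroup.centralizer ({z} : Set G)) →* alternatingGroup (Fin 5) := (e.trans f).toMonoidHom.comp (QuotientGroup.mk' Q)
  refine ⟨Q.map (Subgroup.centralizer ({z} : Set G)).subtype, ⟨hz, map_subtype_le _, ?_, ?_, ?_, ?_, π, ?_, ?_⟩, ?_, hcl⟩
  · rintro c hc _ ⟨q, hq, rfl⟩
    exact ⟨⟨c, hc⟩ * q * (⟨c, hc⟩ : (Subgroup.centralizer ({z} : Set G)))⁻¹, (inferInstance : Q.Normal).conj_mem q hq _, rfl⟩
  · exact CfsgLib.Pairs.Cubic.extraspecial_congr hQ (Q.equivMapOfInjective _ (Subgroup.centralizer ({z} : Set G)).subtype_injective)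
  · rw [card_map_of_injective (Subgroup.centralizer ({z} : Set G)).subtype_injective, hcard]; norm_num
  · intro x hx h
    have h1 : (⟨x, hx⟩ : (Subgroup.centralizer ({z} : Set G))) ∈ centralizer (Cfsg.generalizedFittingSubgroup (Subgroup.centralizer ({z} : Set G)) : Set (Subgroup.centralizer ({z} : Set G))) := by
      rw [hF]
      exact mem_centralizer_iff.2 fun q hq => Subtype.ext (h q ⟨q, hq, rfl⟩).symm
    have h2 : (⟨x, hx⟩ : (Subgroup.centralizer ({z} : Set G))) ∈ Q := hF ▸ CfsgLib.Components.centralizer_gFitting_le h1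
    exact ⟨_, h2, rfl⟩
  · exact (e.trans f).surjective.comp (QuotientGroup.mk'_surjective Q)
  · intro c
    rw [hmem, ← QuotientGroup.eq_one_iff c]
    exact (e.trans f).map_eq_one_iff
  · obtain ⟨g, ⟨hq, hq'⟩, hne⟩ := hnwc
    exact ⟨g, ⟨_, hq', rfl⟩, hne⟩

end CfsgLib.Recog.HJType
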