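import Cfsg.Agent.Lib.Recog.JankoTwoType.Rotate
import Cfsg.Agent.Lib.TwoGroups.TransferControlled
import Cfsg.Agent.Lib.LocalEvenB.CentralizerDEight
import Cfsg.Prelude.Def_TwoFusion

/-!
Owner: helper29. Groups of Hall–Janko type: the centralizer of a non-central involution.
-/

set_option autoImplicit false
set_option linter.all false

namespace CfsgLib.Recog.HJType

open Subgroup Cfsg CfsgLib.Recog

local notation "A5" => alternatingGroup (Fin 5)

/-- An automorphism of `A₅` fixing an element of order three and a four-group normalized by it is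
trivial. -/
theorem five_rigid {Y : Type*} [Group Y] (e : Y ≃* A5) (α : MulAut Y) {k v : Y}
    (hk : k ^ 3 = 1) (hk1 : k ≠ 1) (hv : v * v = 1) (hv1 : v ≠ 1)
    (hrel : v * (k * v * k⁻¹) = k * (k * v * k⁻¹) * k⁻¹) (hαk : α k = k) (hαv : α v = v) :
    α = 1 := by
  classical
  set β : MulAut A5 := e.symm.trans (α.trans e) with hβ
  set K := e k with hK
  set V := e v with hV
  have hk3 : K * K * K = 1 := by
    rw [hK, ← map_mul, ← map_mul, show k * k * k = k ^ 3 by simp [pow_succ], hk, map_one]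
  have hK1 : K ≠ 1 := fun h => hk1 ((map_eq_one_iff e e.injective).1 h)
  have hV1 : V ≠ 1 := fun h => hv1 ((map_eq_one_iff e e.injective).1 h)
  have hV2 : V * V = 1 := by rw [hV, ← map_mul, hv, map_one]
  have hrel' : V * (K * V * K⁻¹) = K * (K * V * K⁻¹) * K⁻¹ := by
    simp only [hK, hV, ← map_mul, ← map_inv, hrel]
  have hβK : β K = K := by simp [hβ, hK, hαk]
  have hβV : β V = V := by simp [hβ, hV, hαv]
  obtain ⟨i, hi, hi1, hik, hiv, h5a, h5b, huniq⟩ := five_frame K V hk3 hK1 hV2 hV1 hrel'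
  have hβi : β i = i := by
    refine huniq _ (by rw [← map_mul, hi, map_one]) (fun h => hi1 ((map_eq_one_iff β β.injective).1 h)) ?_ ?_
    · rw [← hβK, ← map_mul, ← map_mul, hik, map_inv]
    · rw [← hβV, ← map_mul, ← map_mul, ← map_mul, hiv, map_one]
  set Fx : Subgroup A5 := MonoidHom.eqLocus β.toMonoidHom (MonoidHom.id A5) with hFx
  have hKF : K ∈ Fx := hβK
  have hVF : V ∈ Fx := hβV
  have hiF : i ∈ Fx := hβi
  set V' := K * V * K⁻¹ with hV'
  have hV'1 : V' ≠ 1 := fun h => hV1 (conj_eq_one_iff.1 h)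
  have hV'2 : V' * V' = 1 := by
    rw [hV', show K * V * K⁻¹ * (K * V * K⁻¹) = K * (V * V) * K⁻¹ by group, hV2, mul_one, mul_inv_cancel]
  have hV'F : V' ∈ Fx := mul_mem (mul_mem hKF hVF) (Subgroup.inv_mem _ hKF)
  have hne : V ≠ V' := fun h => hV1 (by
    have h' := hrel'
    rw [← h, hV2, ← hV', ← h] at h'
    exact h'.symm ▸ rfl)
  have hcomm : V * V' = V' * V := by
    have hs : V * V' * (V * V') = 1 := by
      rw [hrel', show K * V' * K⁻¹ * (K * V' * K⁻¹) = K * (V' * V') * K⁻¹ by group, hV'2, mul_one,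
        mul_inv_cancel]
    calc V * V' = (V * V')⁻¹ := eq_inv_of_mul_eq_one_left hs
      _ = V' * V := by rw [mul_inv_rev, inv_eq_of_mul_eq_one_left hV2, inv_eq_of_mul_eq_one_left hV'2]
  have h4 := five_klein_normalizer V V' hV2 hV1 hV'2 hV'1 hne hcomm
  -- the fixed subgroup contains a group of order twelve and a further involution
  set H := closure ({K, V} : Set A5) with hH
  have hHF : H ≤ Fx := (closure_le _).2 (by rintro x (rfl | rfl); exacts [hKF, hVF])
  have hKH : K ∈ H := subset_closure (by simp)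
  have hVH : V ∈ H := subset_closure (by simp)
  have hV'H : V' ∈ H := mul_mem (mul_mem hKH hVH) (Subgroup.inv_mem _ hKH)
  have d3 : 3 ∣ Nat.card Fx := by
    haveI : Fact (Nat.Prime 3) := ⟨by norm_num⟩
    have := Subgroup.orderOf_dvd_natCard Fx hKF
    rwa [orderOf_eq_prime (by rw [pow_succ, pow_two, hk3]) hK1] at this
  have d4 : 4 ∣ Nat.card Fx := by
    let P : Subgroup A5 := closure ({V, V'} : Set A5)
    have hP : P ≤ Fx := (closure_le _).2 (by rintro x (rfl | rfl); exacts [hVF, hV'F])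
    have hPc : P ≤ centralizer ({V, V'} : Set A5) := (closure_le _).2 (by
      rintro x (rfl | rfl) <;> (refine mem_centralizer_iff.2 ?_; rintro y (rfl | rfl))
      exacts [rfl, hcomm.symm, hcomm, rfl])
    have hcard : Nat.card ↥(centralizer ({V, V'} : Set A5)) = 4 := by
      rw [← h4]
      refine Nat.card_congr (Equiv.subtypeEquivRight fun h => ?_)
      rw [mem_centralizer_iff]
      constructor
      · intro hh; exact ⟨(hh V (by simp)).symm, (hh V' (by simp)).symm⟩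
      · rintro ⟨a, b⟩ y (rfl | rfl); exacts [a.symm, b.symm]
    have hP4 : 4 ≤ Nat.card P := by
      have e1 : V * V' ≠ 1 := fun h => hne ((eq_inv_of_mul_eq_one_left h).trans (inv_eq_of_mul_eq_one_left hV'2))
      have hs : ({1, V, V', V * V'} : Set A5) ⊆ (P : Set A5) := by
        have hVP : V ∈ P := subset_closure (by simp)
        have hV'P : V' ∈ P := subset_closure (by simp)
        rintro x (rfl | rfl | rfl | rfl)
        exacts [one_mem _, hVP, hV'P, mul_mem hVP hV'P]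
      have := Set.ncard_le_ncard hs (Set.toFinite _)
      rw [Set.ncard_insert_of_notMem (by simp [hV1.symm, hV'1.symm, e1.symm]),
        Set.ncard_insert_of_notMem (by simp [hne, hV'1]),
        Set.ncard_insert_of_notMem (by simp [hV1]), Set.ncard_singleton,
        ← Nat.card_coe_set_eq] at this
      exact this
    have hle := card_le_of_le hPc
    rw [hcard] at hle
    have : Nat.card P = 4 := le_antisymm hle hP4
    rw [← this]
    exact card_dvd_of_le hP
  have d12 : 12 ∣ Nat.card Fx := Nat.Coprime.mul_dvd_of_dvd_of_dvd (by norm_num) d4 d3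
  have hdvd : Nat.card Fx ∣ 60 := AltFive.card_eq ▸ card_subgroup_dvd_card Fx
  have hidx : Fx.index ∣ 5 := by
    obtain ⟨d, hd⟩ := d12
    have := Fx.card_mul_index
    rw [hd, AltFive.card_eq, mul_assoc] at this
    exact ⟨d, by rw [mul_comm]; omega⟩
  rcases (Nat.dvd_prime (by norm_num : Nat.Prime 5)).1 hidx with h1 | h5
  · refine MulEquiv.ext fun y => e.injective ?_
    have : β (e y) = e y := by
      have h' : e y ∈ Fx := by rw [index_eq_one.1 h1]; exact mem_top _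
      exact h'
    simpa [hβ] using this
  · exfalso
    have h12 : Nat.card Fx = 12 := by
      have := Fx.card_mul_index
      rw [h5, AltFive.card_eq] at this
      omega
    haveI : Fact (Nat.Prime 5) := ⟨by norm_num⟩
    have h5d := Subgroup.orderOf_dvd_natCard Fx (mul_mem hiF hV'F)
    rw [orderOf_eq_prime h5a h5b, h12] at h5d
    omega

variable {G : Type*} [Group G]

/-- A fixed-point-free map of a four-group has order three. -/
theorem free_three [Finite G] {V : Subgroup G} (h4 : Nat.card V = 4) (hsq : ∀ v ∈ V, v * v = 1) {g : G}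
    (hmap : ∀ v ∈ V, g * v * g⁻¹ ∈ V) (hfree : ∀ v ∈ V, g * v * g⁻¹ = v → v = 1) {v : G} (hv : v ∈ V)
    (hv1 : v ≠ 1) :
    v * (g * v * g⁻¹) = g * (g * v * g⁻¹) * g⁻¹ ∧ g ^ 3 * v * (g ^ 3)⁻¹ = v := by
  classical
  set a := g * v * g⁻¹ with ha
  set b := g * a * g⁻¹ with hb
  have haV : a ∈ V := hmap v hv
  have hbV : b ∈ V := hmap a haV
  have a1 : a ≠ 1 := fun e => hv1 (conj_eq_one_iff.1 e)
  have b1 : b ≠ 1 := fun e => a1 (conj_eq_one_iff.1 e)
  have nav : a ≠ v := fun e => hv1 (hfree v hv e)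
  have nba : b ≠ a := fun e => a1 (hfree a haV e)
  have hcomm : ∀ x ∈ V, ∀ y ∈ V, x * y = y * x := fun x hx y hy => by
    calc x * y = (x * y)⁻¹ := eq_inv_of_mul_eq_one_left (hsq _ (mul_mem hx hy))
      _ = y * x := by
        rw [mul_inv_rev, inv_eq_of_mul_eq_one_left (hsq x hx), inv_eq_of_mul_eq_one_left (hsq y hy)]
  have nva : v * a ≠ 1 := fun e => nav ((eq_inv_of_mul_eq_one_right e).trans
    (inv_eq_of_mul_eq_one_left (hsq v hv)))
  have nbv : b ≠ v := by
    intro e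
    refine nva (hfree _ (mul_mem hv haV) ?_)
    calc g * (v * a) * g⁻¹ = a * b := by rw [hb, ha]; group
      _ = v * a := by rw [e, hcomm a haV v hv]
  have hb' : b = v * a := by
    by_contra hne
    have hs : ({1, v, a, v * a, b} : Set G) ⊆ (V : Set G) := by
      rintro x (rfl | rfl | rfl | rfl | rfl)
      exacts [one_mem _, hv, haV, mul_mem hv haV, hbV]
    have := Set.ncard_le_ncard hs (Set.toFinite _)
    rw [Set.ncard_insert_of_notMem (by simp [hv1.symm, a1.symm, nva.symm, b1.symm]),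
      Set.ncard_insert_of_notMem (by simp [nav.symm, a1, nbv.symm]),
      Set.ncard_insert_of_notMem (by simp [hv1, nba.symm]),
      Set.ncard_insert_of_notMem (by simp [Ne.symm hne]), Set.ncard_singleton,
      ← Nat.card_coe_set_eq] at this
    change 5 ≤ Nat.card V at this
    omega
  refine ⟨hb'.symm, ?_⟩
  calc g ^ 3 * v * (g ^ 3)⁻¹ = g * b * g⁻¹ := by rw [hb, ha]; simp [pow_succ, mul_assoc]
    _ = g * (v * a) * g⁻¹ := by rw [hb']
    _ = a * b := by rw [hb, ha]; group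
    _ = a * (a * v) := by rw [hb', hcomm v hv a haV]
    _ = v := by rw [← mul_assoc, hsq a haV, one_mul]

namespace Frame

variable [Finite G] {z u t σ k : G} {Q Q' : Subgroup G} (F : Frame z u t σ k Q Q')
include F

theorem ord_t : orderOf t = 2 :=
  ord_two F.tt fun e => F.tQ (by rw [e]; exact one_mem _)

theorem not_conj : ¬ IsConj z t := F.four.hz.outer_not_conj F.tt F.tC F.tQ

theorem cardW : Nat.card ↥(centralizer ({z} : Set G) ⊓ centralizer ({t} : Set G) : Subgroup G) = 16 :=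
  F.four.hz.loc.card_inf_centralizer_outer F.tt F.tC F.tQ

theorem sqW : ∀ x ∈ centralizer ({z} : Set G) ⊓ centralizer ({t} : Set G), x * x = 1 :=
  (F.four.outer_data F.tt F.tC F.tQ F.tu F.σmem F.σ3 F.σ1).2.1

theorem commW {x y : G} (hx : x ∈ centralizer ({z} : Set G) ⊓ centralizer ({t} : Set G))
    (hy : y ∈ centralizer ({z} : Set G) ⊓ centralizer ({t} : Set G)) : x * y = y * x := by
  calc x * y = (x * y)⁻¹ := eq_inv_of_mul_eq_one_left (F.sqW _ (mul_mem hx hy))
    _ = y * x := by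
      rw [mul_inv_rev, inv_eq_of_mul_eq_one_left (F.sqW x hx), inv_eq_of_mul_eq_one_left (F.sqW y hy)]

theorem leW : Q ⊓ Q' ≤ centralizer ({z} : Set G) ⊓ centralizer ({t} : Set G) :=
  (F.four.outer_data F.tt F.tC F.tQ F.tu F.σmem F.σ3 F.σ1).2.2.1 ▸ inf_le_left

theorem conjW {x : G} (hx : x ∈ centralizer ({z} : Set G) ⊓ centralizer ({t} : Set G)) (hx1 : x ≠ 1) :
    IsConj z x ↔ x ∈ Q ⊓ Q' := by
  rw [F.four.hz.conj_iff (F.sqW x hx) hx1 hx.1, ← (F.four.outer_data F.tt F.tC F.tQ F.tu F.σmem F.σ3 F.σ1).2.2.1]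
  exact ⟨fun h => ⟨hx, h⟩, fun h => h.2⟩

theorem cent_eq {v : G} (hv : v ∈ Q ⊓ Q') (hv1 : v ≠ 1) :
    centralizer ({v} : Set G) ⊓ centralizer ({t} : Set G) =
      centralizer ({z} : Set G) ⊓ centralizer ({t} : Set G) := by
  have hle : centralizer ({z} : Set G) ⊓ centralizer ({t} : Set G) ≤
      centralizer ({v} : Set G) ⊓ centralizer ({t} : Set G) := fun x hx =>
    ⟨mem_cent.2 (F.commW hx (F.leW hv)), hx.2⟩
  refine (eq_of_le_of_card_ge hle ?_).symm
  rw [F.cardW, F.four.hz.card_inf_centralizer F.ord_t F.not_conj (F.four.inf_conj hv hv1)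
    (mem_cent.1 (F.leW hv).2).symm]

theorem k_mem : k ∈ centralizer ({t} : Set G) := mem_cent.2 F.kt

theorem k_ne : k ≠ 1 := fun e => F.four.hz.loc.z_ne
  (F.kfree z ⟨F.four.hz.loc.z_mem, F.four.mem'⟩ (by simp [e]))

theorem norm_cube {g : G} (hg : g ∈ centralizer ({t} : Set G))
    (hgW : ∀ x, x ∈ centralizer ({z} : Set G) ⊓ centralizer ({t} : Set G) →
      g * x * g⁻¹ ∈ centralizer ({z} : Set G) ⊓ centralizer ({t} : Set G)) :
    g ∈ centralizer ({z} : Set G) ⊓ centralizer ({t} : Set G) ∨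
      ((∀ v ∈ Q ⊓ Q', g * v * g⁻¹ = v → v = 1) ∧
        g ^ 3 ∈ centralizer ({z} : Set G) ⊓ centralizer ({t} : Set G)) := by
  classical
  by_cases hfix : ∃ v ∈ Q ⊓ Q', g * v * g⁻¹ = v ∧ v ≠ 1
  · obtain ⟨v, hv, hgv, hv1⟩ := hfix
    left
    rw [← F.cent_eq hv hv1]
    exact ⟨mem_cent.2 (mul_inv_eq_iff_eq_mul.1 hgv), hg⟩
  push Not at hfix
  right
  refine ⟨hfix, ?_, pow_mem hg 3⟩
  have hmap : ∀ v ∈ Q ⊓ Q', g * v * g⁻¹ ∈ Q ⊓ Q' := by
    intro v hv
    by_cases hv1 : v = 1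
    · simp [hv1]
    exact (F.conjW (hgW v (F.leW hv)) (fun e => hv1 (conj_eq_one_iff.1 e))).1
      ((F.four.inf_conj hv hv1).trans (isConj_iff.2 ⟨g, rfl⟩))
  refine mem_cent.2 (mul_inv_eq_iff_eq_mul.1 ?_)
  exact (free_three F.four.card_inf (fun v hv => F.four.inf_sq hv) hmap hfix
    ⟨F.four.hz.loc.z_mem, F.four.mem'⟩ F.four.hz.loc.z_ne).2

theorem sylow : ∃ P : Sylow 2 ↥(centralizer ({t} : Set G)),
    (P : Subgroup ↥(centralizer ({t} : Set G))) =
      (centralizer ({z} : Set G) ⊓ centralizer ({t} : Set G)).subgroupOf (centralizer ({t} : Set G)) := by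
  classical
  haveI : Fact (Nat.Prime 2) := ⟨Nat.prime_two⟩
  set W := centralizer ({z} : Set G) ⊓ centralizer ({t} : Set G) with hW
  set W' := W.subgroupOf (centralizer ({t} : Set G)) with hW'
  have hp : IsPGroup 2 W' := IsPGroup.of_card (n := 4) (by
    rw [Nat.card_congr (subgroupOfEquivOfLe inf_le_right).toEquiv, F.cardW]; norm_num)
  obtain ⟨P, hP⟩ := hp.exists_le_sylow
  refine ⟨P, le_antisymm ?_ hP⟩
  by_contra hle
  haveI := P.isPGroup'.isNilpotent
  have hlt : W'.subgroupOf (P : Subgroup _) < ⊤ := lt_top_iff_ne_top.2 fun h => hle (subgroupOf_eq_top.1 h)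
  obtain ⟨x, hx, hxn⟩ := SetLike.exists_of_lt (normalizerCondition_of_isNilpotent _ hlt)
  set g : G := ((x : ↥(centralizer ({t} : Set G))) : G) with hg
  have hgt : g ∈ centralizer ({t} : Set G) := (x : ↥(centralizer ({t} : Set G))).2
  have hnorm : ∀ y ∈ W, g * y * g⁻¹ ∈ W := by
    intro y hy
    exact (mem_normalizer_iff.1 hx ⟨⟨y, hy.2⟩, hP (mem_subgroupOf.2 hy)⟩).1 (mem_subgroupOf.2 (mem_subgroupOf.2 hy))
  apply hxn
  rcases F.norm_cube hgt hnorm with h | ⟨-, h⟩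
  · exact mem_subgroupOf.2 (mem_subgroupOf.2 h)
  · obtain ⟨m, hm⟩ := P.isPGroup' x
    have hmem : x ^ 3 ∈ W'.subgroupOf (P : Subgroup _) := mem_subgroupOf.2 (mem_subgroupOf.2 (by
      rw [SubgroupClass.coe_pow, SubgroupClass.coe_pow]; exact h))
    set S := W'.subgroupOf (P : Subgroup _) with hS
    obtain ⟨i, hi⟩ : ∃ i : ℤ, (i : ℤ) * 3 + (1 - i * 3) = 1 := ⟨0, by ring⟩
    have hcop : Nat.gcd 3 (2 ^ m) = 1 := (Nat.Coprime.pow_right m (by norm_num) : Nat.Coprime 3 (2 ^ m))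
    have hbez := Nat.gcd_eq_gcd_ab 3 (2 ^ m)
    rw [hcop] at hbez
    have : x = (x ^ 3) ^ (Nat.gcdA 3 (2 ^ m)) * (x ^ 2 ^ m) ^ (Nat.gcdB 3 (2 ^ m)) := by
      rw [← zpow_natCast x 3, ← zpow_natCast x (2 ^ m), ← zpow_mul, ← zpow_mul, ← zpow_add, ← hbez]
      norm_num
    rw [this, hm, one_zpow, mul_one]
    exact zpow_mem hmem _

theorem complementW : ∃ U : Subgroup G, U ≤ centralizer ({z} : Set G) ⊓ centralizer ({t} : Set G) ∧
    Nat.card U = 4 ∧ t ∈ U ∧ (∀ x ∈ U, k * x = x * k) ∧ (∀ x ∈ U, x ∈ Q ⊓ Q' → x = 1) := by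
  classical
  set W := centralizer ({z} : Set G) ⊓ centralizer ({t} : Set G) with hW
  refine ⟨W ⊓ centralizer ({k} : Set G), inf_le_left, ?_, ⟨⟨F.tC, mem_cent.2 rfl⟩, mem_cent.2 F.kt.symm⟩,
    fun x hx => (mem_cent.1 hx.2).symm,
    fun x hx hxV => F.kfree x hxV (mul_inv_eq_iff_eq_mul.2 (mem_cent.1 hx.2).symm)⟩
  let f : W →* ↥(Q ⊓ Q' : Subgroup G) := MonoidHom.mk' (fun x => ⟨k * x * k⁻¹ * (x : G)⁻¹, (F.kW x x.2).2⟩)
    (fun a b => Subtype.ext (by
      show k * (a * b : G) * k⁻¹ * ((a : G) * b)⁻¹ = (k * a * k⁻¹ * (a : G)⁻¹) * (k * b * k⁻¹ * (b : G)⁻¹)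
      have h1 : (k * b * k⁻¹ * (b : G)⁻¹) * (a : G)⁻¹ = (a : G)⁻¹ * (k * b * k⁻¹ * (b : G)⁻¹) :=
        F.commW (F.leW (F.kW b b.2).2) (Subgroup.inv_mem _ a.2)
      calc k * (a * b : G) * k⁻¹ * ((a : G) * b)⁻¹
          = (k * a * k⁻¹) * ((k * b * k⁻¹ * (b : G)⁻¹) * (a : G)⁻¹) := by group
        _ = _ := by rw [h1]; group))
  have hsurj : Function.Surjective f := by
    let g : ↥(Q ⊓ Q' : Subgroup G) → ↥(Q ⊓ Q' : Subgroup G) := fun v => f ⟨v, F.leW v.2⟩
    have hg : Function.Injective g := by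
      intro v w e
      have e1 : f (⟨v, F.leW v.2⟩ * (⟨w, F.leW w.2⟩)⁻¹) = 1 := by
        rw [map_mul, map_inv, mul_inv_eq_one]; exact e
      have := F.kfree ((v : G) * (w : G)⁻¹) (mul_mem v.2 (Subgroup.inv_mem _ w.2))
        (mul_inv_eq_one.1 (congrArg Subtype.val e1))
      exact Subtype.ext (mul_inv_eq_one.1 this)
    intro v
    obtain ⟨w, hw⟩ := Finite.surjective_of_injective hg v
    exact ⟨_, hw⟩
  have hker : Nat.card f.ker = Nat.card ↥(W ⊓ centralizer ({k} : Set G) : Subgroup G) := by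
    refine Nat.card_congr
      { toFun := fun x => ⟨(x : W), (x : W).2, mem_cent.2
          (mul_inv_eq_iff_eq_mul.1 (mul_inv_eq_one.1 (congrArg Subtype.val x.2))).symm⟩
        invFun := fun x => ⟨⟨x, x.2.1⟩, Subtype.ext (by
          show k * x * k⁻¹ * (x : G)⁻¹ = 1
          rw [← mem_cent.1 x.2.2]; group)⟩
        left_inv := fun x => rfl
        right_inv := fun x => rfl }
  have := f.ker.card_mul_index
  rw [index_ker, MonoidHom.range_eq_top.2 hsurj, card_top, F.four.card_inf, F.cardW, hker] at this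
  omega

set_option maxHeartbeats 1600000 in
/-- The normal subgroup of index four of `C(t)`. -/
theorem exists_kernel : ∃ X₁ : Subgroup G, X₁ ≤ centralizer ({t} : Set G) ∧
    (∀ g ∈ centralizer ({t} : Set G), ∀ x ∈ X₁, g * x * g⁻¹ ∈ X₁) ∧
    X₁ ⊓ centralizer ({z} : Set G) = Q ⊓ Q' ∧ k ∈ X₁ ∧
    Nat.card ↥(centralizer ({t} : Set G)) = 4 * Nat.card X₁ ∧
    ∃ P : Sylow 2 X₁, (P : Subgroup X₁) = (Q ⊓ Q').subgroupOf X₁ := by
  classical
  haveI : Fact (Nat.Prime 2) := ⟨Nat.prime_two⟩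
  set X := centralizer ({t} : Set G) with hX
  set W := centralizer ({z} : Set G) ⊓ centralizer ({t} : Set G) with hW
  obtain ⟨P, hP⟩ := F.sylow
  letI : CommGroup ↥W :=
    { (inferInstance : Group ↥W) with mul_comm := fun a b => Subtype.ext (F.commW a.2 b.2) }
  set V' := (Q ⊓ Q').subgroupOf W with hV'
  set W' := W.subgroupOf X with hW'
  let φ : ↥W' →* ↥W ⧸ V' := (QuotientGroup.mk' V').comp (subgroupOfEquivOfLe inf_le_right).toMonoidHom
  obtain ⟨ψ, hψdef⟩ : ∃ ψ : ↥X →* ↥W ⧸ V', ψ = MonoidHom.transfer φ := ⟨_, rfl⟩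
  haveI : IsMulCommutative (P : Subgroup ↥X) := ⟨⟨fun a b => Subtype.ext (Subtype.ext (F.commW
    (mem_subgroupOf.1 (hP.le a.2)) (mem_subgroupOf.1 (hP.le b.2))))⟩⟩
  have hfus : ∀ (a : ↥X) (w : ↥X), w ∈ W' → a * w * a⁻¹ ∈ W' →
      ((a * w * a⁻¹ : ↥X) : G) * (w : G)⁻¹ ∈ Q ⊓ Q' := by
    intro a w hw haw
    obtain ⟨n, hn, he⟩ := Sylow.conj_eq_normalizer_conj_of_mem P w a⁻¹ (hP.ge hw)
      (by rw [inv_inv]; exact hP.ge haw)
    rw [inv_inv] at he
    rw [he]
    have hnW : ∀ y ∈ W, (n : G)⁻¹ * y * n ∈ W := by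
      intro y hy
      have := (mem_normalizer_iff.1 (Subgroup.inv_mem _ hn) ⟨y, hy.2⟩).1 (hP.ge (mem_subgroupOf.2 hy))
      have h2 := mem_subgroupOf.1 (hP.le this)
      simpa using h2
    have hwW : (w : G) ∈ W := mem_subgroupOf.1 hw
    show (n : G)⁻¹ * w * n * (w : G)⁻¹ ∈ Q ⊓ Q'
    rcases F.norm_cube (g := (n : G)⁻¹) (Subgroup.inv_mem _ n.2) (fun y hy => by rw [inv_inv]; exact hnW y hy) with h | ⟨hfree, -⟩
    · have := F.commW h hwW
      rw [show (n : G)⁻¹ * w * n * (w : G)⁻¹ = ((n : G)⁻¹ * w) * n * (w : G)⁻¹ from rfl, this]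
      simp
    · set m := (n : G)⁻¹ with hm
      have hmX : m ∈ X := Subgroup.inv_mem _ n.2
      -- compose with a power of `k`
      have hnorm' : ∀ i : ℕ, ∀ y ∈ W, k ^ i * y * (k ^ i)⁻¹ ∈ W ∧ k ^ i * y * (k ^ i)⁻¹ * y⁻¹ ∈ Q ⊓ Q' := by
        intro i
        induction i with
        | zero => intro y hy; simp [hy]
        | succ i ih =>
          intro y hy
          obtain ⟨h1, h2⟩ := ih y hy
          obtain ⟨h3, h4⟩ := F.kW _ h1
          rw [pow_succ', show k * k ^ i * y * (k * k ^ i)⁻¹ = k * (k ^ i * y * (k ^ i)⁻¹) * k⁻¹ by group]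
          refine ⟨h3, ?_⟩
          have := mul_mem h4 h2
          rwa [show k * (k ^ i * y * (k ^ i)⁻¹) * k⁻¹ * (k ^ i * y * (k ^ i)⁻¹)⁻¹ *
            (k ^ i * y * (k ^ i)⁻¹ * y⁻¹) = k * (k ^ i * y * (k ^ i)⁻¹) * k⁻¹ * y⁻¹ by group] at this
      obtain ⟨i, hi⟩ : ∃ i : ℕ, k ^ i * (m * z * m⁻¹) * (k ^ i)⁻¹ = z := by
        have hz : z ∈ Q ⊓ Q' := ⟨F.four.hz.loc.z_mem, F.four.mem'⟩
        have hmz : m * z * m⁻¹ ∈ Q ⊓ Q' := by
          have hne : m * z * m⁻¹ ≠ 1 := fun e => F.four.hz.loc.z_ne (conj_eq_one_iff.1 e)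
          refine (F.conjW ?_ hne).1 (isConj_iff.2 ⟨m, rfl⟩)
          have := hnW z (F.leW hz)
          rw [hm, inv_inv]; exact this
        obtain ⟨h1, h2⟩ := free_three F.four.card_inf (fun v hv => F.four.inf_sq hv)
          (fun v hv => (F.kV v).1 hv) F.kfree hz F.four.hz.loc.z_ne
        set a := k * z * k⁻¹ with ha
        rcases F.four.mem_inf.1 hmz with e | e | e | e
        · exact absurd (conj_eq_one_iff.1 e) F.four.hz.loc.z_ne
        · exact ⟨0, by simp [e]⟩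
        all_goals
          by_cases hc : m * z * m⁻¹ = a
          · refine ⟨2, ?_⟩
            rw [hc, ha, show k ^ 2 * (k * z * k⁻¹) * (k ^ 2)⁻¹ = k ^ 3 * z * (k ^ 3)⁻¹ by
              simp [pow_succ, mul_assoc]]
            exact h2
          · refine ⟨1, ?_⟩
            have hmc : m * z * m⁻¹ = k * a * k⁻¹ := by
              rw [← h1]
              rcases F.four.mem_inf.1 ((F.kV z).1 hz) with ea | ea | ea | ea
              · exact absurd (conj_eq_one_iff.1 ea) F.four.hz.loc.z_ne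
              · exact absurd (F.kfree z hz ea) F.four.hz.loc.z_ne
              all_goals
                rw [ha] at hc ⊢
                rw [ea] at hc ⊢
                first
                | exact absurd e hc
                | (rw [e, F.four.comm])
                | (rw [e, ← mul_assoc, F.four.comm, mul_assoc, F.four.hz.loc.zz, mul_one])
            rw [hmc, pow_one, ha, show k * (k * (k * z * k⁻¹) * k⁻¹) * k⁻¹ = k ^ 3 * z * (k ^ 3)⁻¹ by
              simp [pow_succ, mul_assoc]]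
            exact h2
      have hq : k ^ i * m ∈ W := by
        refine ⟨mem_cent.2 (mul_inv_eq_iff_eq_mul.1 ?_), mul_mem (pow_mem F.k_mem i) hmX⟩
        calc k ^ i * m * z * (k ^ i * m)⁻¹ = k ^ i * (m * z * m⁻¹) * (k ^ i)⁻¹ := by group
          _ = z := hi
      have hmw : m * w * m⁻¹ ∈ W := by
        rw [hm, inv_inv]; exact hnW w hwW
      have h3 := (hnorm' i _ hmw).2
      have h5 : k ^ i * (m * w * m⁻¹) * (k ^ i)⁻¹ = w := by
        calc k ^ i * (m * w * m⁻¹) * (k ^ i)⁻¹ = (k ^ i * m) * w * (k ^ i * m)⁻¹ := by group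
          _ = w := by rw [F.commW hq hwW, mul_inv_cancel_right]
      rw [h5] at h3
      have := Subgroup.inv_mem _ h3
      rw [show ((w : G) * (m * w * m⁻¹)⁻¹)⁻¹ = m * w * m⁻¹ * (w : G)⁻¹ by group] at this
      rwa [hm, inv_inv] at this
  have hodd : Odd W'.index := by
    rw [show W' = (P : Subgroup ↥X) from hP.symm]
    exact Nat.not_even_iff_odd.1 fun h => P.not_dvd_index h.two_dvd
  have hψ : ∀ (w : ↥X) (hw : w ∈ W'), ψ w = φ ⟨w, hw⟩ := by
    intro w hw
    rw [hψdef, CfsgLib.TwoGroups.transfer_eq_pow_of_controlled φ hw ?_]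
    · obtain ⟨j, hj⟩ := hodd
      have h2 : φ ⟨w, hw⟩ * φ ⟨w, hw⟩ = 1 := by
        rw [← map_mul, show (⟨w, hw⟩ : W') * ⟨w, hw⟩ = 1 from
          Subtype.ext (Subtype.ext (F.sqW _ (mem_subgroupOf.1 hw))), map_one]
      rw [hj, pow_succ, pow_mul, sq, h2, one_pow, one_mul]
    · intro m a h
      rw [← map_pow]
      apply (QuotientGroup.eq_iff_div_mem).2
      refine mem_subgroupOf.2 ?_
      have := hfus a (w ^ m) (pow_mem hw m) h
      rw [Subgroup.coe_div, div_eq_mul_inv]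
      exact this
  let X₁ : Subgroup G := ψ.ker.map X.subtype
  have hX₁ : ∀ x : ↥X, (x : G) ∈ X₁ ↔ ψ x = 1 := fun x => mem_map_iff_mem X.subtype_injective
  have hX₁X : X₁ ≤ X := map_subtype_le _
  have hinter : X₁ ⊓ centralizer ({z} : Set G) = Q ⊓ Q' := by
    ext x
    constructor
    · rintro ⟨hx, hxz⟩
      have hxX := hX₁X hx
      have hw : (⟨x, hxX⟩ : ↥X) ∈ W' := mem_subgroupOf.2 ⟨hxz, hxX⟩
      have := (hX₁ ⟨x, hxX⟩).1 hx
      rw [hψ _ hw] at this
      exact mem_subgroupOf.1 ((QuotientGroup.eq_one_iff _).1 this)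
    · intro hx
      have hw : (⟨x, (F.leW hx).2⟩ : ↥X) ∈ W' := mem_subgroupOf.2 (F.leW hx)
      refine ⟨(hX₁ ⟨x, (F.leW hx).2⟩).2 ?_, (F.leW hx).1⟩
      rw [hψ _ hw]
      exact (QuotientGroup.eq_one_iff _).2 (mem_subgroupOf.2 hx)
  have hsurj : Function.Surjective ψ := by
    intro q
    obtain ⟨w, rfl⟩ := QuotientGroup.mk'_surjective V' q
    have hw : (⟨w, w.2.2⟩ : ↥X) ∈ W' := mem_subgroupOf.2 w.2
    refine ⟨⟨w, w.2.2⟩, (hψ _ hw).trans ?_⟩
    exact congrArg (QuotientGroup.mk' V') (Subtype.ext rfl)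
  have hquot : Nat.card (↥W ⧸ V') = 4 := by
    have := V'.card_mul_index
    rw [Nat.card_congr (subgroupOfEquivOfLe F.leW).toEquiv, F.four.card_inf, F.cardW] at this
    rw [← index_eq_card]; omega
  have hcard : Nat.card ↥X = 4 * Nat.card X₁ := by
    rw [card_map_of_injective X.subtype_injective, ← ψ.ker.card_mul_index, index_ker,
      MonoidHom.range_eq_top.2 hsurj, card_top, hquot, mul_comm]
  refine ⟨X₁, hX₁X, ?_, hinter, ?_, hcard, ?_⟩
  · rintro g hg _ ⟨x, hx, rfl⟩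
    refine Subgroup.mem_map.2 ⟨⟨g, hg⟩ * x * (⟨g, hg⟩ : ↥X)⁻¹, ?_, rfl⟩
    exact (MonoidHom.normal_ker ψ).conj_mem x hx ⟨g, hg⟩
  · refine (hX₁ ⟨k, F.k_mem⟩).2 ?_
    have h3 : ψ ⟨k, F.k_mem⟩ ^ 3 = 1 := by
      rw [← map_pow, show (⟨k, F.k_mem⟩ : ↥X) ^ 3 = 1 from Subtype.ext F.k3, map_one]
    obtain ⟨w, hw⟩ := QuotientGroup.mk'_surjective V' (ψ ⟨k, F.k_mem⟩)
    have h2 : ψ ⟨k, F.k_mem⟩ ^ 2 ^ 1 = 1 := by
      rw [← hw, ← map_pow, pow_one, sq, show w * w = 1 from Subtype.ext (F.sqW w w.2), map_one]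
    exact eq_one_of_pow_odd_two h2 (by decide) h3
  · have hV4 : Nat.card ((Q ⊓ Q').subgroupOf X₁) = 4 := by
      rw [Nat.card_congr (subgroupOfEquivOfLe (hinter.ge.trans inf_le_left)).toEquiv, F.four.card_inf]
    refine ⟨(IsPGroup.of_card (n := 2) (hV4.trans (by norm_num))).toSylow ?_, rfl⟩
    intro hdvd
    have h1 := ((Q ⊓ Q').subgroupOf X₁).card_mul_index
    rw [hV4] at h1
    have h2 := W'.card_mul_index
    rw [Nat.card_congr (subgroupOfEquivOfLe inf_le_right).toEquiv, F.cardW, hcard] at h2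
    obtain ⟨d, hd⟩ := hdvd
    obtain ⟨j, hj⟩ := hodd
    omega

end Frame

/-- The conclusion on the centralizer of `t`. -/
structure CData (z t k : G) (U B : Subgroup G) : Prop where
  dp : IsInternalDirectProduct U B (centralizer ({t} : Set G))
  cardU : Nat.card U = 4
  sqU : ∀ x ∈ U, x * x = 1
  tU : t ∈ U
  iso : Nonempty (↥B ≃* A5)
  kB : k ∈ B
  zB : z ∈ B
  invB : ∀ x ∈ B, orderOf x = 2 → IsConj x z
  invOut : ∀ x ∈ centralizer ({t} : Set G), orderOf x = 2 → x ∉ B → IsConj x t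
  centU : ∀ x ∈ U, x ≠ 1 → centralizer ({x} : Set G) = centralizer ({t} : Set G)

namespace Frame

variable [Finite G] {z u t σ k : G} {Q Q' : Subgroup G} (F : Frame z u t σ k Q Q')
include F

theorem conj_intoW {x : G} (hx : x ∈ centralizer ({t} : Set G)) (hx2 : x * x = 1) :
    ∃ g ∈ centralizer ({t} : Set G), g * x * g⁻¹ ∈ centralizer ({z} : Set G) ⊓ centralizer ({t} : Set G) := by
  haveI : Fact (Nat.Prime 2) := ⟨Nat.prime_two⟩
  obtain ⟨P, hP⟩ := F.sylow
  have hp : IsPGroup 2 (zpowers (⟨x, hx⟩ : centralizer ({t} : Set G))) := fun y => by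
    obtain ⟨n, hn⟩ := y.2
    refine ⟨1, Subtype.ext ?_⟩
    rw [SubgroupClass.coe_pow, pow_one, OneMemClass.coe_one, ← hn]
    show ((⟨x, hx⟩ : centralizer ({t} : Set G)) ^ n) ^ 2 = 1
    rw [← zpow_natCast, ← zpow_mul, mul_comm, zpow_mul, zpow_natCast, sq,
      show (⟨x, hx⟩ : centralizer ({t} : Set G)) * ⟨x, hx⟩ = 1 from Subtype.ext hx2, one_zpow]
  obtain ⟨R, hR⟩ := hp.exists_le_sylow
  obtain ⟨g, hg⟩ := MulAction.exists_smul_eq (↥(centralizer ({t} : Set G))) R P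
  refine ⟨g, g.2, mem_subgroupOf.1 (hP.le ?_ : g * ⟨x, hx⟩ * g⁻¹ ∈ _)⟩
  rw [← hg, Sylow.coe_subgroup_smul]
  exact ⟨_, hR (mem_zpowers _), rfl⟩

set_option maxHeartbeats 1600000 in
/-- The dichotomy for the centralizer of `t`. -/
theorem centT : (Nat.card ↥(centralizer ({t} : Set G)) = 48 ∧
      ∀ x ∈ centralizer ({t} : Set G), x * x = 1 → x ∈ centralizer ({z} : Set G) ⊓ centralizer ({t} : Set G)) ∨
    ∃ U B : Subgroup G, CData z t k U B := by
  classical
  haveI : Fact (Nat.Prime 2) := ⟨Nat.prime_two⟩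
  haveI : Fact (Nat.Prime 3) := ⟨by norm_num⟩
  set X := centralizer ({t} : Set G) with hX
  set W := centralizer ({z} : Set G) ⊓ centralizer ({t} : Set G) with hW
  obtain ⟨X₁, hle, hnorm, hinter, hkX, hcard, P, hP⟩ := F.exists_kernel
  obtain ⟨U, hUW, hU4, htU, hUk, hUV⟩ := F.complementW
  have hVX : Q ⊓ Q' ≤ X₁ := hinter.ge.trans inf_le_left
  have hmemP : ∀ x : X₁, x ∈ (P : Subgroup X₁) ↔ (x : G) ∈ Q ⊓ Q' := fun x => by rw [hP, mem_subgroupOf]
  have hP4 : Nat.card (P : Subgroup X₁) = 4 := by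
    rw [hP, Nat.card_congr (subgroupOfEquivOfLe hVX).toEquiv, F.four.card_inf]
  have hPK : IsKleinFour (P : Subgroup X₁) := by
    refine ⟨hP4, ?_⟩
    haveI : Nontrivial (P : Subgroup X₁) := by
      rw [← Finite.one_lt_card_iff_nontrivial, hP4]; norm_num
    refine Monoid.exponent_eq_prime_iff Nat.prime_two |>.2 fun x hx => orderOf_eq_prime ?_ hx
    rw [sq]
    exact Subtype.ext (Subtype.ext (F.four.inf_sq ((hmemP x.1).1 x.2)))
  have hCP : ∀ x ∈ (P : Subgroup X₁), x ≠ 1 → centralizer ({x} : Set X₁) = P := by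
    intro x hx hx1
    ext y
    rw [mem_cent, hmemP]
    have hxV := (hmemP x).1 hx
    have hx1' : (x : G) ≠ 1 := fun e => hx1 (Subtype.ext e)
    constructor
    · intro h
      have : (y : G) ∈ centralizer ({(x : G)} : Set G) ⊓ X :=
        ⟨mem_cent.2 (congrArg Subtype.val h), hle y.2⟩
      rw [F.cent_eq hxV hx1'] at this
      exact hinter.le ⟨y.2, this.1⟩
    · intro h
      exact Subtype.ext (F.commW (F.leW h) (F.leW hxV))
  have hnc : ¬ HasNormalPComplement 2 X₁ := by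
    rintro ⟨R, N, hN, hNR⟩
    haveI := hN
    have hkN : (⟨k, hkX⟩ : X₁) ∈ N := by
      have hidx : N.index = Nat.card (R : Subgroup X₁) := hNR.symm.index_eq_card
      obtain ⟨m, hm⟩ := IsPGroup.iff_card.1 R.isPGroup'
      have h2 : (QuotientGroup.mk' N ⟨k, hkX⟩) ^ 2 ^ m = 1 := by
        rw [← hm, ← hidx, index_eq_card]; exact pow_card_eq_one'
      have h3 : (QuotientGroup.mk' N ⟨k, hkX⟩) ^ 3 = 1 := by
        rw [← map_pow, show (⟨k, hkX⟩ : X₁) ^ 3 = 1 from Subtype.ext F.k3, map_one]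
      exact (QuotientGroup.eq_one_iff _).1 (eq_one_of_pow_odd_two h2 (by decide) h3)
    have hz : z ∈ Q ⊓ Q' := ⟨F.four.hz.loc.z_mem, F.four.mem'⟩
    set Z : X₁ := ⟨z, hVX hz⟩
    set K : X₁ := ⟨k, hkX⟩
    have hcN : K * Z * K⁻¹ * Z⁻¹ ∈ N := by
      rw [show K * Z * K⁻¹ * Z⁻¹ = K * (Z * K⁻¹ * Z⁻¹) by group]
      exact mul_mem hkN (hN.conj_mem _ (Subgroup.inv_mem _ hkN) _)
    have hcV : ((K * Z * K⁻¹ * Z⁻¹ : X₁) : G) ∈ Q ⊓ Q' :=
      mul_mem ((F.kV z).1 hz) (Subgroup.inv_mem _ hz)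
    have hodd : Odd (Nat.card N) := by
      have := R.card_coprime_index
      rw [hNR.index_eq_card] at this
      obtain ⟨m, hm⟩ := IsPGroup.iff_card.1 R.isPGroup'
      have hm1 : m ≠ 0 := by
        rintro rfl
        have := Sylow.card_eq_multiplicity R
        rw [hm, ← Sylow.card_eq_multiplicity P, hP4] at this
        norm_num at this
      rw [hm] at this
      exact Nat.coprime_two_left.1 (Nat.Coprime.coprime_dvd_left (dvd_pow_self 2 hm1) this)
    have h1 : K * Z * K⁻¹ * Z⁻¹ = 1 := by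
      refine eq_one_of_pow_odd_two (k := 1) ?_ hodd ?_
      · rw [pow_one, sq]; exact Subtype.ext (F.four.inf_sq hcV)
      · have := pow_card_eq_one' (x := (⟨_, hcN⟩ : N))
        exact congrArg Subtype.val this
    exact F.four.hz.loc.z_ne (F.kfree z hz (mul_inv_eq_one.1 (congrArg Subtype.val h1)))
  obtain ⟨hshape, hfus, -, -⟩ := CfsgLib.LocalEvenB.DEight.four_core P hPK hCP hnc
  -- every involution of `X₁` is conjugate to `z`
  have hinv1 : ∀ x ∈ X₁, orderOf x = 2 → IsConj x z := by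
    intro x hx hxo
    obtain ⟨hx2, hx1⟩ := inv_pair hxo
    obtain ⟨g, hg, hgW⟩ := F.conj_intoW (hle hx) hx2
    have hgV : g * x * g⁻¹ ∈ Q ⊓ Q' := hinter.le ⟨hnorm g hg x hx, hgW.1⟩
    exact (isConj_iff.2 ⟨g, rfl⟩).trans
      (F.four.inf_conj hgV fun e => hx1 (conj_eq_one_iff.1 e)).symm
  rcases hshape with ⟨hPn, h12⟩ | ⟨⟨e5⟩⟩
  · left
    refine ⟨by rw [hX, hcard, h12], fun x hx hx2 => ?_⟩
    -- `W` is normal
    obtain ⟨Ps, hPs⟩ := F.sylow
    obtain ⟨g, hg, hgW⟩ := F.conj_intoW hx hx2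
    have hVnorm : ∀ a ∈ X, ∀ v ∈ Q ⊓ Q', a * v * a⁻¹ ∈ Q ⊓ Q' := by
      intro a ha v hv
      by_cases hv1 : v = 1
      · simp [hv1]
      have hyX := hnorm a ha v (hVX hv)
      set y : X₁ := ⟨_, hyX⟩
      have hy2 : y * y = 1 := Subtype.ext (invol_conj a (F.four.inf_sq hv))
      have : y ∈ (P : Subgroup X₁) := by
        haveI := hPn
        have hp : IsPGroup 2 (zpowers y) := by
          have hd : orderOf y ∣ 2 ^ 1 := orderOf_dvd_of_pow_eq_one (by rw [pow_one, sq, hy2])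
          obtain ⟨r, -, hr⟩ := (Nat.dvd_prime_pow Nat.prime_two).1 hd
          exact IsPGroup.of_card (n := r) (by rw [Nat.card_zpowers, hr])
        obtain ⟨R, hR⟩ := hp.exists_le_sylow
        obtain ⟨c, hc⟩ := MulAction.exists_smul_eq X₁ P R
        have := hR (mem_zpowers y)
        rw [← hc, Sylow.smul_eq_of_normal] at this
        exact this
      exact (hmemP y).1 this
    -- an element centralizing the four-group pointwise lies in `W`
    have hCV : ∀ a ∈ X, (∀ v ∈ Q ⊓ Q', a * v = v * a) → a ∈ W := fun a ha h =>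
      ⟨mem_cent.2 (h z ⟨F.four.hz.loc.z_mem, F.four.mem'⟩), ha⟩
    have key : g⁻¹ * (g * x * g⁻¹) * g ∈ W := by
      refine hCV _ (mul_mem (mul_mem (Subgroup.inv_mem _ hg) hgW.2) hg) fun v hv => ?_
      have h1 := F.commW hgW (F.leW (hVnorm g hg v hv))
      calc g⁻¹ * (g * x * g⁻¹) * g * v = g⁻¹ * ((g * x * g⁻¹) * (g * v * g⁻¹)) * g := by group
        _ = g⁻¹ * ((g * v * g⁻¹) * (g * x * g⁻¹)) * g := by rw [h1]
        _ = v * (g⁻¹ * (g * x * g⁻¹) * g) := by group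
    simpa [mul_assoc] using key
  · right
    have hUX : U ≤ X := fun x hx => (hUW hx).2
    have hz : z ∈ Q ⊓ Q' := ⟨F.four.hz.loc.z_mem, F.four.mem'⟩
    have hrel : z * (k * z * k⁻¹) = k * (k * z * k⁻¹) * k⁻¹ :=
      (free_three F.four.card_inf (fun v hv => F.four.inf_sq hv) (fun v hv => (F.kV v).1 hv) F.kfree hz
        F.four.hz.loc.z_ne).1
    have hUc : ∀ w ∈ U, ∀ x ∈ X₁, w * x = x * w := by
      intro w hw
      have hwX := hUX hw
      let α : MulAut X₁ :=
        { toFun := fun x => ⟨w * x * w⁻¹, hnorm w hwX x x.2⟩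
          invFun := fun x => ⟨w⁻¹ * x * w, by simpa using hnorm _ (Subgroup.inv_mem _ hwX) x x.2⟩
          left_inv := fun x => Subtype.ext (by simp [mul_assoc])
          right_inv := fun x => Subtype.ext (by simp [mul_assoc])
          map_mul' := fun a b => Subtype.ext (by simp [mul_assoc]) }
      have hα := five_rigid e5 α (k := ⟨k, hkX⟩) (v := ⟨z, hVX hz⟩) (Subtype.ext F.k3)
        (fun e => F.k_ne (congrArg Subtype.val e)) (Subtype.ext F.four.hz.loc.zz)
        (fun e => F.four.hz.loc.z_ne (congrArg Subtype.val e)) (Subtype.ext hrel)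
        (Subtype.ext (show w * k * w⁻¹ = k by rw [← hUk w hw, mul_inv_cancel_right]))
        (Subtype.ext (show w * z * w⁻¹ = z by rw [F.commW (hUW hw) (F.leW hz), mul_inv_cancel_right]))
      intro x hx
      have : w * x * w⁻¹ = x := congrArg Subtype.val (MulEquiv.congr_fun hα ⟨x, hx⟩)
      exact mul_inv_eq_iff_eq_mul.1 this
    have hdisj : U ⊓ X₁ = ⊥ := (eq_bot_iff_forall _).2 fun x hx =>
      hUV x hx.1 (hinter.le ⟨hx.2, (hUW hx.1).1⟩)
    have hB60 : Nat.card X₁ = 60 := by rw [Nat.card_congr e5.toEquiv, AltFive.card_eq]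
    have hsup : U ⊔ X₁ = X := by
      refine eq_of_le_of_card_ge (sup_le hUX hle) ?_
      let f : U × X₁ → ↥(U ⊔ X₁) := fun p =>
        ⟨p.1 * p.2, mul_mem (le_sup_left (α := Subgroup G) p.1.2) (le_sup_right (α := Subgroup G) p.2.2)⟩
      have hf : Function.Injective f := by
        rintro ⟨a, b⟩ ⟨a', b'⟩ e
        have e' : (a : G) * b = a' * b' := congrArg Subtype.val e
        have h1 : (a' : G)⁻¹ * a = b' * (b : G)⁻¹ := by
          rw [inv_mul_eq_iff_eq_mul, ← mul_assoc, ← e', mul_inv_cancel_right]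
        have h2 : (a' : G)⁻¹ * a = 1 := mem_bot.1 (hdisj ▸ mem_inf.2
          ⟨mul_mem (Subgroup.inv_mem _ a'.2) a.2, h1 ▸ mul_mem b'.2 (Subgroup.inv_mem _ b.2)⟩)
        obtain rfl : a' = a := Subtype.ext (inv_mul_eq_one.1 h2)
        obtain rfl : b = b' := Subtype.ext (mul_left_cancel e')
        rfl
      have := Nat.card_le_card_of_injective f hf
      rw [Nat.card_prod, hU4, hB60] at this
      rw [show Nat.card ↥X = 240 by rw [hcard, hB60]]
      exact this
    have hdich : ∀ x ∈ X, orderOf x = 2 → x ∉ X₁ → IsConj x t := by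
      intro x hx hxo hnot
      obtain ⟨hx2, hx1⟩ := inv_pair hxo
      obtain ⟨g, hg, hgW⟩ := F.conj_intoW hx hx2
      have hne : g * x * g⁻¹ ≠ 1 := fun e => hx1 (conj_eq_one_iff.1 e)
      have hgo : orderOf (g * x * g⁻¹) = 2 := ord_two (invol_conj g hx2) hne
      refine (isConj_iff.2 ⟨g, rfl⟩).trans
        ((F.four.hz.dichotomy F.ord_t F.not_conj hgo).resolve_left fun hc => hnot ?_).symm
      have h1 := hVX ((F.conjW hgW hne).1 hc)
      have h2 := hnorm _ (Subgroup.inv_mem _ hg) _ h1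
      simpa [mul_assoc] using h2
    refine ⟨U, X₁, ⟨⟨hUX, hle, hUc, hdisj, hsup⟩, hU4, fun x hx => F.sqW x (hUW hx), htU, ⟨e5⟩, hkX,
      hVX hz, hinv1, hdich, fun x hx hx1 => ?_⟩⟩
    have hxo : orderOf x = 2 := ord_two (F.sqW x (hUW hx)) hx1
    have hxB : x ∉ X₁ := fun h => hx1 (mem_bot.1 (hdisj ▸ mem_inf.2 ⟨hx, h⟩))
    obtain ⟨g, hg⟩ := isConj_iff.1 (hdich x (hUX hx) hxo hxB).symm
    have hXle : X ≤ centralizer ({x} : Set G) := by
      rw [← hsup]
      refine sup_le (fun a ha => mem_cent.2 (F.commW (hUW ha) (hUW hx))) fun a ha => mem_cent.2 (hUc x hx a ha).symm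
    refine (eq_of_le_of_card_ge hXle (le_of_eq ?_)).symm
    rw [← hg]
    refine Nat.card_congr
      { toFun := fun a => ⟨g⁻¹ * a * g, ?_⟩
        invFun := fun a => ⟨g * a * g⁻¹, ?_⟩
        left_inv := fun a => Subtype.ext (by simp [mul_assoc])
        right_inv := fun a => Subtype.ext (by simp [mul_assoc]) }
    · refine mem_cent.2 ?_
      have h := mem_cent.1 a.2
      calc g⁻¹ * a * g * t = g⁻¹ * (a * (g * t * g⁻¹)) * g := by group
        _ = g⁻¹ * ((g * t * g⁻¹) * a) * g := by rw [h]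
        _ = t * (g⁻¹ * a * g) := by group
    · refine mem_cent.2 ?_
      have h := mem_cent.1 a.2
      calc g * a * g⁻¹ * (g * t * g⁻¹) = g * (a * t) * g⁻¹ := by group
        _ = g * (t * a) * g⁻¹ := by rw [h]
        _ = _ := by group

end Frame

end CfsgLib.Recog.HJType
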