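import Cfsg.Agent.Lib.Recog.JankoTwoType.EType
import Cfsg.Agent.Lib.ClassSizes.AlternatingAut
import Cfsg.Agent.Lib.HallGen.Basic
import Cfsg.Agent.S0228

/-!
Owner: helper29. Groups of Hall–Janko type: the normalizer of the four-group attached to the second
class of involutions.
-/

set_option autoImplicit false
set_option linter.all false

namespace CfsgLib.Recog.HJType

open Subgroup Cfsg CfsgLib.Recog

local notation "A5" => alternatingGroup (Fin 5)

/-- An automorphism of cube one of `A₅` fixing an element of order five is trivial. -/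
theorem five_auto_three {Y : Type*} [Group Y] (e : Y ≃* A5) (α : MulAut Y) {y : Y} (hy : y ^ 5 = 1)
    (hy1 : y ≠ 1) (hα : ∀ w, α (α (α w)) = w) (hfix : α y = y) : ∀ w, α w = w := by
  classical
  let β : Equiv.Perm (Fin 5) ≃* MulAut A5 :=
    MulEquiv.ofBijective MulAut.conjNormal
      (CfsgLib.ClassSizes.AlternatingAut.conjNormal_bijective (by decide) (by decide))
  set γ : MulAut A5 := e.symm.trans (α.trans e) with hγ
  obtain ⟨π, hπ⟩ := β.surjective γ
  have hγ3 : γ * γ * γ = 1 := MulEquiv.ext fun w => by simp [hγ, hα]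
  have hπ3 : π * π * π = 1 := β.injective (by rw [map_mul, map_mul, hπ, hγ3, map_one])
  have hγy : γ (e y) = e y := by simp [hγ, hfix]
  have h5 : (e y) ^ 5 = 1 := by rw [← map_pow, hy, map_one]
  have h1 : e y ≠ 1 := fun h => hy1 ((map_eq_one_iff e e.injective).1 h)
  have hcomm : π * ((e y : A5) : Equiv.Perm (Fin 5)) = ((e y : A5) : Equiv.Perm (Fin 5)) * π := by
    have h := congrArg Subtype.val (show β π (e y) = e y by rw [hπ]; exact hγy)
    change π * ((e y : A5) : Equiv.Perm (Fin 5)) * π⁻¹ = _ at h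
    exact mul_inv_eq_iff_eq_mul.1 h
  have hπ1 := five_perm_three π hπ3 _ h5 h1 hcomm
  rw [hπ1, map_one] at hπ
  intro w
  apply e.injective
  have h2 : γ (e w) = e w := by rw [← hπ]; rfl
  simpa [hγ] using h2

/-- The existence of an element of order three rotating `U` and centralizing `B`. -/
def HasThree {G : Type*} [Group G] (U B : Subgroup G) : Prop :=
  ∃ a : G, a ^ 3 = 1 ∧ (∀ u ∈ U, a * u * a⁻¹ ∈ U) ∧ (∃ u ∈ U, a * u * a⁻¹ ≠ u) ∧ ∀ b ∈ B, a * b = b * a

variable {G : Type*} [Group G]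

theorem HasThree.transport {U B : Subgroup G} (h : HasThree U B) (g : G) :
    HasThree (U.map (MulAut.conj g).toMonoidHom) (B.map (MulAut.conj g).toMonoidHom) := by
  obtain ⟨a, ha, hn, ⟨u, hu, hmv⟩, hb⟩ := h
  refine ⟨g * a * g⁻¹, ?_, ?_, ⟨g * u * g⁻¹, ⟨u, hu, rfl⟩, fun h1 => hmv ?_⟩, ?_⟩
  · rw [conj_pow, ha, mul_one, mul_inv_cancel]
  · rintro _ ⟨w, hw, rfl⟩
    refine ⟨a * w * a⁻¹, hn w hw, ?_⟩
    show g * (a * w * a⁻¹) * g⁻¹ = g * a * g⁻¹ * (g * w * g⁻¹) * (g * a * g⁻¹)⁻¹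
    group
  · rw [show g * a * g⁻¹ * (g * u * g⁻¹) * (g * a * g⁻¹)⁻¹ = g * (a * u * a⁻¹) * g⁻¹ by group] at h1
    exact mul_left_cancel (mul_right_cancel h1)
  · rintro _ ⟨b, hb', rfl⟩
    show g * a * g⁻¹ * (g * b * g⁻¹) = g * b * g⁻¹ * (g * a * g⁻¹)
    calc g * a * g⁻¹ * (g * b * g⁻¹) = g * (a * b) * g⁻¹ := by group
      _ = g * (b * a) * g⁻¹ := by rw [hb b hb']
      _ = _ := by group

namespace CData

variable [Finite G] {z t k : G} {U B : Subgroup G} (D : CData z t k U B)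
include D

theorem t_ne (ht : orderOf t = 2) : t ≠ 1 := (inv_pair ht).2

theorem iso_cent : Nonempty (↥(centralizer ({t} : Set G)) ≃*
    (Multiplicative (ZMod 2) × Multiplicative (ZMod 2)) × A5) := by
  obtain ⟨f, -⟩ := D.exists_prod
  obtain ⟨e⟩ := D.iso
  haveI : Nontrivial U := by rw [← Finite.one_lt_card_iff_nontrivial, D.cardU]; norm_num
  haveI : IsKleinFour U :=
    ⟨D.cardU, (Monoid.exponent_eq_prime_iff Nat.prime_two).2 fun a ha =>
      orderOf_eq_prime (Subtype.ext (by rw [SubgroupClass.coe_pow, sq]; exact D.sqU a a.2)) ha⟩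
  have h4 : Nat.card (Multiplicative (ZMod 2) × Multiplicative (ZMod 2)) = 4 := by
    rw [Nat.card_eq_fintype_card]; rfl
  haveI : Nontrivial (Multiplicative (ZMod 2) × Multiplicative (ZMod 2)) := by
    rw [← Finite.one_lt_card_iff_nontrivial, h4]; norm_num
  haveI : IsKleinFour (Multiplicative (ZMod 2) × Multiplicative (ZMod 2)) :=
    ⟨h4, (Monoid.exponent_eq_prime_iff Nat.prime_two).2 fun a ha =>
      orderOf_eq_prime ((by decide : ∀ a : Multiplicative (ZMod 2) × Multiplicative (ZMod 2), a ^ 2 = 1) a) ha⟩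
  obtain ⟨eU⟩ := IsKleinFour.nonempty_mulEquiv (G₁ := U) (G₂ := Multiplicative (ZMod 2) × Multiplicative (ZMod 2))
  exact ⟨f.symm.trans (eU.prodCongr e)⟩

theorem pCore_map : (pCore 2 ↥(centralizer ({t} : Set G))).map
    (Subgroup.subtype (centralizer ({t} : Set G))) = U := by
  classical
  set C := centralizer ({t} : Set G) with hC
  obtain ⟨f, hf⟩ := D.exists_prod
  obtain ⟨e⟩ := D.iso
  let pr : C →* A5 := e.toMonoidHom.comp ((MonoidHom.snd U B).comp f.symm.toMonoidHom)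
  have hsurj : Function.Surjective pr := fun y => by
    obtain ⟨b, rfl⟩ := e.surjective y
    exact ⟨f (1, b), by simp [pr]⟩
  haveI := CfsgLib.HallGen.pCore_normal' (G := C) 2
  haveI hn : ((pCore 2 C).map pr).Normal := Subgroup.Normal.map ‹_› pr hsurj
  have hp : IsPGroup 2 ((pCore 2 C).map pr) := (CfsgLib.HallGen.isPGroup_pCore 2).map pr
  haveI : IsSimpleGroup A5 := alternatingGroup.isSimpleGroup_five
  have hbot : (pCore 2 C).map pr = ⊥ := by
    rcases hn.eq_bot_or_eq_top with h | h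
    · exact h
    · exfalso
      obtain ⟨m, hm⟩ := IsPGroup.iff_card.1 hp
      rw [h, card_top, AltFive.card_eq] at hm
      have : 3 ∣ 2 ^ m := hm ▸ (by norm_num : (3 : ℕ) ∣ 60)
      exact absurd (Nat.Prime.dvd_of_dvd_pow (by norm_num : Nat.Prime 3) this) (by norm_num)
  have hUn : (U.subgroupOf C).Normal := ⟨fun n hn g => by
    refine mem_subgroupOf.2 ?_
    obtain ⟨a, ha, b, hb, hab⟩ := D.exists_mul g.2
    show (g : G) * (n : G) * (g : G)⁻¹ ∈ U
    have h1 : b * (n : G) = (n : G) * b := (D.dp.2.2.1 _ (mem_subgroupOf.1 hn) b hb).symm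
    rw [hab, show a * b * (n : G) * (a * b)⁻¹ = a * (b * (n : G)) * b⁻¹ * a⁻¹ by group, h1,
      show a * ((n : G) * b) * b⁻¹ * a⁻¹ = a * (n : G) * a⁻¹ by group]
    exact mul_mem (mul_mem ha (mem_subgroupOf.1 hn)) (U.inv_mem ha)⟩
  ext w
  constructor
  · rintro ⟨w, hw, rfl⟩
    have h1 : pr w = 1 := by
      have := mem_map_of_mem pr hw
      rwa [hbot, mem_bot] at this
    have h2 : (f.symm w).2 = 1 := (map_eq_one_iff e e.injective).1 h1
    show (w : G) ∈ U
    rw [← f.apply_symm_apply w, hf, h2, OneMemClass.coe_one, mul_one]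
    exact (f.symm w).1.2
  · intro hw
    refine ⟨⟨w, D.dp.1 hw⟩, ?_, rfl⟩
    have hle : U.subgroupOf C ≤ pCore 2 C := le_sSup ⟨hUn, IsPGroup.of_card (n := 2) (by
      rw [Nat.card_congr (subgroupOfEquivOfLe D.dp.1).toEquiv, D.cardU]; norm_num)⟩
    exact hle (mem_subgroupOf.2 hw)

theorem iso_normalizer (ht : orderOf t = 2) (h3 : HasThree U B) :
    Nonempty (↥(normalizer (U : Set G)) ≃* alternatingGroup (Fin 4) × A5) := by
  classical
  haveI : Fact (Nat.Prime 3) := ⟨by norm_num⟩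
  obtain ⟨hU, hB, hc, hinf, hsup⟩ := D.dp
  obtain ⟨ht2, ht1⟩ := inv_pair ht
  obtain ⟨a, ha3, hn, ⟨u, hu, hmv⟩, hab⟩ := h3
  have ha3' : a * a * a = 1 := by rw [← pow_three', ha3]
  have hfree : ∀ v ∈ U, v ≠ 1 → a * v * a⁻¹ ≠ v := fun v hv hv1 h1 => by
    have hac : a ∈ centralizer ({v} : Set G) := mem_cent.2 (mul_inv_eq_iff_eq_mul.1 h1)
    rw [D.centU v hv hv1] at hac
    obtain ⟨a', ha', b', hb', e1⟩ := D.exists_mul hac
    refine hmv ?_
    have h2 : a' * u = u * a' := by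
      have h1 := D.sqU _ (mul_mem ha' hu)
      calc a' * u = (a' * u)⁻¹ := eq_inv_of_mul_eq_one_left h1
        _ = u * a' := by
          rw [mul_inv_rev, inv_eq_of_mul_eq_one_left (D.sqU _ hu), inv_eq_of_mul_eq_one_left (D.sqU _ ha')]
    rw [e1, show a' * b' * u * (a' * b')⁻¹ = a' * (b' * u) * b'⁻¹ * a'⁻¹ by group, ← hc u hu b' hb',
      show a' * (u * b') * b'⁻¹ * a'⁻¹ = a' * u * a'⁻¹ by group, h2, mul_inv_cancel_right]
  have haN : a ∈ normalizer (U : Set G) := Subgroup.mem_normalizer_fintype hn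
  set t₁ := a * t * a⁻¹ with ht1def
  set t₂ := a * t₁ * a⁻¹ with ht2def
  have ht1U : t₁ ∈ U := hn t D.tU
  have ht2U : t₂ ∈ U := hn t₁ ht1U
  have ht11 : t₁ ≠ 1 := fun h => ht1 (conj_eq_one_iff.1 h)
  have ht21 : t₂ ≠ 1 := fun h => ht11 (conj_eq_one_iff.1 h)
  have hcase : ∀ v ∈ U, v ≠ 1 → v = t ∨ v = t₁ ∨ v = t₂ := by
    intro v hv hv1
    by_contra hno
    push Not at hno
    have hne01 : t₁ ≠ t := hfree t D.tU ht1
    have hne12 : t₂ ≠ t₁ := hfree t₁ ht1U ht11
    have hne02 : t₂ ≠ t := fun h => hne01 (by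
      have h' : a * t₂ * a⁻¹ = t := by
        rw [ht2def, ht1def, show a * (a * (a * t * a⁻¹) * a⁻¹) * a⁻¹ = (a * a * a) * t * (a * a * a)⁻¹ by group,
          ha3', one_mul, inv_one, mul_one]
      rw [h] at h'
      exact h')
    have hs : ({1, t, t₁, t₂, v} : Set G) ⊆ (U : Set G) := by
      rintro y (rfl | rfl | rfl | rfl | rfl)
      exacts [one_mem _, D.tU, ht1U, ht2U, hv]
    have := Set.ncard_le_ncard hs (Set.toFinite _)
    rw [← Nat.card_coe_set_eq (U : Set G), Set.ncard_insert_of_notMem (by simp [ht1.symm, ht11.symm, ht21.symm, hv1.symm]),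
      Set.ncard_insert_of_notMem (by simp [hne01.symm, hne02.symm, hno.1.symm]),
      Set.ncard_insert_of_notMem (by simp [hne12.symm, hno.2.1.symm]),
      Set.ncard_insert_of_notMem (by simp [hno.2.2.symm]), Set.ncard_singleton] at this
    rw [show Nat.card ↥(U : Set G) = 4 from D.cardU] at this
    omega
  -- the group of order twelve
  set A := U ⊔ zpowers a with hA
  have hAN : A ≤ normalizer (U : Set G) := sup_le le_normalizer (zpowers_le.2 haN)
  have hAmem : ∀ {x}, x ∈ A → ∀ b ∈ B, x * b = b * x := by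
    intro x hx b hb
    have hle : A ≤ centralizer ({b} : Set G) := sup_le (fun v hv => mem_cent.2 (hc v hv b hb))
      (zpowers_le.2 (mem_cent.2 (hab b hb)))
    exact mem_cent.1 (hle hx)
  have hAdec : ∀ {y}, y ∈ A → ∃ v ∈ U, ∃ w ∈ zpowers a, v * w = y := by
    intro y hy
    have h1 : y ∈ (↑(U ⊔ zpowers a) : Set G) := hy
    rw [Subgroup.coe_mul_of_right_le_normalizer_left U (zpowers a) (zpowers_le.2 haN)] at h1
    obtain ⟨v, hv, w, hw, e1⟩ := Set.mem_mul.1 h1
    exact ⟨v, hv, w, hw, e1⟩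
  have ha1 : a ≠ 1 := fun h => hmv (by rw [h]; simp)
  have hA12 : Nat.card A = 12 := by
    have hz : Nat.card (zpowers a) = 3 := by rw [Nat.card_zpowers, orderOf_eq_prime ha3 ha1]
    let g : U × zpowers a → A := fun p =>
      ⟨(p.1 : G) * p.2, mul_mem (mem_sup_left p.1.2) (mem_sup_right p.2.2)⟩
    have hgi : Function.Injective g := by
      rintro ⟨⟨v, hv⟩, ⟨w, hw⟩⟩ ⟨⟨v', hv'⟩, ⟨w', hw'⟩⟩ h1
      have h1' : v * w = v' * w' := congrArg Subtype.val h1
      have h2 : v'⁻¹ * v = w' * w⁻¹ := by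
        rw [inv_mul_eq_iff_eq_mul, ← mul_assoc, ← h1', mul_inv_cancel_right]
      have h3 : (v'⁻¹ * v) = 1 := by
        have hm : v'⁻¹ * v ∈ U ⊓ zpowers a := ⟨mul_mem (U.inv_mem hv') hv, h2 ▸ mul_mem hw' (Subgroup.inv_mem _ hw)⟩
        refine eq_one_of_pow_odd_two (k := 1) (n := 3) (by rw [pow_one, sq]; exact D.sqU _ hm.1) (by decide) ?_
        have := pow_card_eq_one' (x := (⟨_, hm.2⟩ : zpowers a))
        rw [hz] at this
        exact congrArg Subtype.val this
      obtain rfl : v' = v := inv_mul_eq_one.1 h3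
      obtain rfl : w = w' := mul_left_cancel h1'
      rfl
    have hgs : Function.Surjective g := by
      rintro ⟨y, hy⟩
      obtain ⟨v, hv, w, hw, e1⟩ := hAdec hy
      exact ⟨(⟨v, hv⟩, ⟨w, hw⟩), Subtype.ext e1⟩
    rw [← Nat.card_congr (Equiv.ofBijective g ⟨hgi, hgs⟩), Nat.card_prod, D.cardU, hz]
  obtain ⟨eA⟩ := Cfsg.Agent.S0228.result (G := A) hA12 (by
    rintro ⟨w, hw⟩ hwo hwc
    rw [Subgroup.orderOf_mk] at hwo
    obtain ⟨hw2, hw1⟩ := inv_pair hwo
    obtain ⟨v, hv, y, hy, e1⟩ := hAdec hw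
    have hwy : y = 1 := by
      obtain ⟨j, rfl⟩ := mem_zpowers_iff.1 hy
      have hU1 : a ^ j * a ^ j ∈ U := by
        have h1 : v * (a ^ j * v * (a ^ j)⁻¹) * (a ^ j * a ^ j) = 1 := by
          rw [← hw2, ← e1]; group
        rw [eq_inv_of_mul_eq_one_right h1]
        exact U.inv_mem (mul_mem hv ((mem_normalizer_iff.1 (zpow_mem haN j) v).1 hv))
      have h2 : a ^ j * a ^ j = 1 := eq_one_of_pow_odd_two (k := 1) (n := 3)
        (by rw [pow_one, sq]; exact D.sqU _ hU1) (by decide) (by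
          rw [← zpow_add, ← zpow_natCast, ← zpow_mul, mul_comm, zpow_mul, zpow_natCast, ha3, one_zpow])
      exact eq_one_of_pow_odd_two (k := 1) (n := 3) (by rw [pow_one, sq]; exact h2) (by decide)
        (by rw [← zpow_natCast, ← zpow_mul, mul_comm, zpow_mul, zpow_natCast, ha3, one_zpow])
    rw [hwy, mul_one] at e1
    subst e1
    refine hfree v hv hw1 ?_
    have h1 := congrArg Subtype.val (mem_center_iff.1 hwc ⟨a, mem_sup_right (mem_zpowers a)⟩)
    exact mul_inv_eq_iff_eq_mul.2 h1)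
  obtain ⟨eB⟩ := D.iso
  let f : A × B →* ↥(normalizer (U : Set G)) :=
    MonoidHom.noncommCoprod (Subgroup.inclusion hAN)
      (Subgroup.inclusion (show B ≤ normalizer (U : Set G) from fun b hb =>
        Subgroup.mem_normalizer_fintype fun v hv => by
          rw [← hc v hv b hb, mul_inv_cancel_right]; exact hv))
      fun x b => Subtype.ext (hAmem x.2 _ b.2)
  have hfi : Function.Injective f := by
    rw [← MonoidHom.ker_eq_bot_iff, eq_bot_iff]
    rintro ⟨⟨x, hx⟩, ⟨b, hb⟩⟩ h1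
    have h1' : x * b = 1 := congrArg Subtype.val h1
    have hb1 : b = 1 := by
      have hbA : b ∈ A := by rw [eq_inv_of_mul_eq_one_right h1']; exact A.inv_mem hx
      obtain ⟨e0⟩ := D.iso
      have hcen : (⟨b, hb⟩ : B) ∈ Subgroup.center B :=
        mem_center_iff.2 fun y => Subtype.ext (hAmem hbA _ y.2).symm
      haveI : IsSimpleGroup A5 := alternatingGroup.isSimpleGroup_five
      have hc1 : e0 ⟨b, hb⟩ ∈ Subgroup.center A5 := mem_center_iff.2 fun y => by
        obtain ⟨y', rfl⟩ := e0.surjective y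
        rw [← map_mul, ← map_mul, mem_center_iff.1 hcen y']
      have hbot : Subgroup.center A5 = ⊥ := by
        refine (Subgroup.Normal.eq_bot_or_eq_top inferInstance).resolve_right fun htop => ?_
        obtain ⟨p, hp, hp1⟩ := five_exists_five
        obtain ⟨q, hq, hq1⟩ := five_exists_invol
        have hcomm : q * p = p * q := mem_center_iff.1 (show p ∈ Subgroup.center A5 by rw [htop]; exact mem_top _) q
        have h5 := five_five_centralizer p hp hp1
        haveI : Fact (Nat.Prime 2) := ⟨Nat.prime_two⟩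
        have hd : orderOf (⟨q, mem_cent.2 hcomm⟩ : centralizer ({p} : Set A5)) ∣ 5 := by
          refine dvd_trans ?_ h5.dvd
          rw [show Nat.card {h : A5 // h * p = p * h} = Nat.card ↥(centralizer ({p} : Set A5)) from
            Nat.card_congr (Equiv.subtypeEquivRight fun y => mem_cent.symm)]
          exact orderOf_dvd_natCard _
        rw [Subgroup.orderOf_mk, orderOf_eq_prime (by rw [sq]; exact hq) hq1] at hd
        norm_num at hd
      rw [hbot, mem_bot, map_eq_one_iff e0 e0.injective] at hc1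
      exact congrArg Subtype.val hc1
    rw [hb1, mul_one] at h1'
    exact mem_bot.2 (Prod.ext (Subtype.ext h1') (Subtype.ext hb1))
  have hfs : Function.Surjective f := by
    rintro ⟨g, hg⟩
    have key : ∃ m ∈ A, m⁻¹ * g ∈ centralizer ({t} : Set G) := by
      have hgU := (mem_normalizer_iff.1 hg t).1 D.tU
      have hg1 : g * t * g⁻¹ ≠ 1 := fun h => ht1 (conj_eq_one_iff.1 h)
      have aA : a ∈ A := mem_sup_right (mem_zpowers a)
      rcases hcase _ hgU hg1 with h | h | h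
      · exact ⟨1, one_mem _, mem_cent.2 (by rw [inv_one, one_mul]; exact mul_inv_eq_iff_eq_mul.1 h)⟩
      · refine ⟨a, aA, mem_cent.2 ?_⟩
        calc a⁻¹ * g * t = a⁻¹ * (g * t * g⁻¹) * g := by group
          _ = _ := by rw [h, ht1def]; group
      · refine ⟨a * a, mul_mem aA aA, mem_cent.2 ?_⟩
        calc (a * a)⁻¹ * g * t = (a * a)⁻¹ * (g * t * g⁻¹) * g := by group
          _ = _ := by rw [h, ht2def, ht1def]; group
    obtain ⟨m, hm, hmc⟩ := key
    obtain ⟨v, hv, b, hb, e1⟩ := D.exists_mul hmc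
    refine ⟨(⟨m * v, mul_mem hm (mem_sup_left hv)⟩, ⟨b, hb⟩), Subtype.ext ?_⟩
    show m * v * b = g
    rw [mul_assoc, ← e1, mul_inv_cancel_left]
  exact ⟨(MulEquiv.ofBijective f ⟨hfi, hfs⟩).symm.trans (eA.prodCongr eB)⟩

end CData

theorem EData.hasThree [Finite G] {z c x k z' e : G} {O U B : Subgroup G} (E : EData z c x k z' e O U B) :
    HasThree U B := by
  classical
  haveI : Fact (Nat.Prime 5) := ⟨by norm_num⟩
  obtain ⟨π, hπ, hker⟩ := E.quotE
  obtain ⟨eB⟩ := E.cd.iso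
  have hUY : ∀ {v}, v ∈ U → v ∈ centralizer ({e} : Set G) := fun hv => mem_cent.2 (E.Ue _ hv)
  have hinj : ∀ v (hv : v ∈ U), π ⟨v, hUY hv⟩ = 1 → v = 1 := fun v hv h1 =>
    sq_eq_one_of_five E.e5 ((hker _).1 h1) (E.cd.sqU v hv)
  obtain ⟨v, hv, hv1⟩ : ∃ v ∈ U, v ≠ 1 := ⟨x, E.cd.tU, fun h => E.fd.c1 (eq_one_of_pow_odd_two (k := 1) (by
    have := E.fd.inv
    rw [h, one_mul, inv_one, mul_one] at this
    rw [pow_one, sq]
    nth_rewrite 1 [this]
    exact inv_mul_cancel c) (by decide) E.fd.c5)⟩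
  obtain ⟨w, hw, hw1, hwv⟩ : ∃ w ∈ U, w ≠ 1 ∧ w ≠ v := by
    by_contra hno
    push Not at hno
    have hs : (U : Set G) ⊆ {1, v} := fun y hy => by
      by_cases h1 : y = 1
      · exact Or.inl h1
      · exact Or.inr (hno y hy h1)
    have := (Set.ncard_le_ncard hs (Set.toFinite _)).trans (Set.ncard_insert_le _ _)
    rw [← Nat.card_coe_set_eq, Set.ncard_singleton] at this
    change Nat.card U ≤ 2 at this
    rw [E.cd.cardU] at this
    omega
  set V := π ⟨v, hUY hv⟩ with hV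
  set W := π ⟨w, hUY hw⟩ with hW
  have sqπ : ∀ y (hy : y ∈ U), π ⟨y, hUY hy⟩ * π ⟨y, hUY hy⟩ = 1 := fun y hy => by
    rw [← map_mul, show (⟨y, hUY hy⟩ : centralizer ({e} : Set G)) * ⟨y, hUY hy⟩ = 1 from
      Subtype.ext (E.cd.sqU y hy), map_one]
  have hVW : V ≠ W := fun h1 => hwv (by
    have h2 : π ⟨v⁻¹ * w, hUY (mul_mem (U.inv_mem hv) hw)⟩ = 1 := by
      rw [show (⟨v⁻¹ * w, hUY (mul_mem (U.inv_mem hv) hw)⟩ : centralizer ({e} : Set G)) =
        ⟨v, hUY hv⟩⁻¹ * ⟨w, hUY hw⟩ from rfl, map_mul, map_inv, ← hV, ← hW, h1, inv_mul_cancel]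
    exact (inv_mul_eq_one.1 (hinj _ (mul_mem (U.inv_mem hv) hw) h2)).symm)
  have hcomm : V * W = W * V := by
    have h1 := sqπ _ (mul_mem hv hw)
    rw [show (⟨v * w, hUY (mul_mem hv hw)⟩ : centralizer ({e} : Set G)) = ⟨v, hUY hv⟩ * ⟨w, hUY hw⟩ from rfl,
      map_mul, ← hV, ← hW] at h1
    calc V * W = (V * W)⁻¹ := eq_inv_of_mul_eq_one_left h1
      _ = W * V := by
        rw [mul_inv_rev, inv_eq_of_mul_eq_one_left (sqπ v hv), inv_eq_of_mul_eq_one_left (sqπ w hw)]
  obtain ⟨y, hy3, hyV, hyW⟩ := five_klein_mover V W (sqπ v hv) (fun h1 => hv1 (hinj v hv h1))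
    (sqπ w hw) (fun h1 => hw1 (hinj w hw h1)) hVW hcomm
  obtain ⟨⟨yl, hyl⟩, hyly⟩ := hπ y
  have h15 : yl ^ 15 = 1 := by
    have h3 : yl ^ 3 ∈ zpowers e := (hker (⟨yl, hyl⟩ ^ 3)).1 (by rw [map_pow, hyly, hy3])
    obtain ⟨j, hj⟩ := mem_zpowers_iff.1 h3
    rw [show (15 : ℕ) = 3 * 5 from rfl, pow_mul, ← hj, ← zpow_natCast, ← zpow_mul, mul_comm, zpow_mul,
      zpow_natCast, E.e5, one_zpow]
  set a := yl ^ 10 with ha
  have haY : a ∈ centralizer ({e} : Set G) := pow_mem hyl 10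
  have hπa : π ⟨a, haY⟩ = y := by
    rw [show (⟨a, haY⟩ : centralizer ({e} : Set G)) = ⟨yl, hyl⟩ ^ 10 from rfl, map_pow, hyly,
      show (10 : ℕ) = 3 * 3 + 1 from rfl, pow_succ, pow_mul, hy3, one_pow, one_mul]
  have ha3 : a ^ 3 = 1 := by
    rw [ha, ← pow_mul, show 10 * 3 = 15 * 2 from rfl, pow_mul, h15, one_pow]
  have heY : e ∈ centralizer ({e} : Set G) := mem_cent.2 rfl
  -- elements over the image of `U`
  have hback : ∀ s (hs : s ∈ centralizer ({e} : Set G)) u (hu : u ∈ U), s * s = 1 →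
      π ⟨s, hs⟩ = π ⟨u, hUY hu⟩ → s = u := by
    intro s hs u hu hs2 h1
    have h2 : u⁻¹ * s ∈ zpowers e := (hker (⟨u, hUY hu⟩⁻¹ * ⟨s, hs⟩)).1 (by rw [map_mul, map_inv, h1, inv_mul_cancel])
    obtain ⟨j, hj⟩ := mem_zpowers_iff.1 h2
    have hse : s = u * e ^ j := by rw [hj, mul_inv_cancel_left]
    have h3 : e ^ j * e ^ j = 1 := by
      have hc : Commute u (e ^ j) := (show Commute u e from E.Ue u hu).zpow_right j
      calc e ^ j * e ^ j = (u * u) * (e ^ j * e ^ j) := by rw [E.cd.sqU u hu, one_mul]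
        _ = u * (u * e ^ j) * e ^ j := by group
        _ = u * (e ^ j * u) * e ^ j := by rw [hc.eq]
        _ = s * s := by rw [hse]; group
        _ = 1 := hs2
    rw [hse, sq_eq_one_of_five E.e5 (zpow_mem (mem_zpowers e) j) h3, mul_one]
  have hav : a * v * a⁻¹ = w := by
    refine hback _ (mul_mem (mul_mem haY (hUY hv)) (Subgroup.inv_mem _ haY)) w hw
      (invol_conj a (E.cd.sqU v hv)) ?_
    rw [← hW, ← hyV, ← hπa, hV, ← map_inv, ← map_mul, ← map_mul]
    rfl
  have haw : a * w * a⁻¹ = v * w := by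
    refine hback _ (mul_mem (mul_mem haY (hUY hw)) (Subgroup.inv_mem _ haY)) (v * w) (mul_mem hv hw)
      (invol_conj a (E.cd.sqU w hw)) ?_
    rw [show (⟨v * w, hUY (mul_mem hv hw)⟩ : centralizer ({e} : Set G)) = ⟨v, hUY hv⟩ * ⟨w, hUY hw⟩ from rfl,
      map_mul, ← hV, ← hW, ← hyW, ← hπa, hW, ← map_inv, ← map_mul, ← map_mul]
    rfl
  have hUcases : ∀ u ∈ U, u = 1 ∨ u = v ∨ u = w ∨ u = v * w := by
    intro u hu
    by_contra hno
    push Not at hno
    have hvw1 : v * w ≠ 1 := fun h => hwv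
      ((eq_inv_of_mul_eq_one_right h).trans (inv_eq_of_mul_eq_one_left (E.cd.sqU v hv)))
    have hs : ({1, v, w, v * w, u} : Set G) ⊆ (U : Set G) := by
      rintro y (rfl | rfl | rfl | rfl | rfl)
      exacts [one_mem _, hv, hw, mul_mem hv hw, hu]
    have := Set.ncard_le_ncard hs (Set.toFinite _)
    rw [← Nat.card_coe_set_eq (U : Set G), Set.ncard_insert_of_notMem (by simp [hv1.symm, hw1.symm, hvw1.symm, hno.1.symm]),
      Set.ncard_insert_of_notMem (by simp [hwv.symm, hw1, hno.2.1.symm]),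
      Set.ncard_insert_of_notMem (by simp [hv1, hno.2.2.1.symm]),
      Set.ncard_insert_of_notMem (by simp [hno.2.2.2.symm]), Set.ncard_singleton] at this
    rw [show Nat.card ↥(U : Set G) = 4 from E.cd.cardU] at this
    omega
  have hnorm : ∀ u ∈ U, a * u * a⁻¹ ∈ U := by
    intro u hu
    rcases hUcases u hu with rfl | rfl | rfl | rfl
    · rw [mul_one, mul_inv_cancel]; exact one_mem _
    · rw [hav]; exact hw
    · rw [haw]; exact mul_mem hv hw
    · rw [show a * (v * w) * a⁻¹ = (a * v * a⁻¹) * (a * w * a⁻¹) by group, hav, haw]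
      exact mul_mem hw (mul_mem hv hw)
  refine ⟨a, ha3, hnorm, ⟨v, hv, by rw [hav]; exact hwv⟩, ?_⟩
  -- `a` centralizes `B`
  have haN : a ∈ normalizer (U : Set G) := Subgroup.mem_normalizer_fintype hnorm
  have hC : ∀ y ∈ centralizer ({x} : Set G), a * y * a⁻¹ ∈ centralizer ({x} : Set G) := by
    intro y hy
    have hx1 : x ≠ 1 := fun h => E.fd.c1 (eq_one_of_pow_odd_two (k := 1) (by
      have := E.fd.inv
      rw [h, one_mul, inv_one, mul_one] at this
      rw [pow_one, sq]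
      nth_rewrite 1 [this]
      exact inv_mul_cancel c) (by decide) E.fd.c5)
    have h1 : a * y * a⁻¹ ∈ centralizer ({a * x * a⁻¹} : Set G) := mem_cent.2 (by
      calc a * y * a⁻¹ * (a * x * a⁻¹) = a * (y * x) * a⁻¹ := by group
        _ = a * (x * y) * a⁻¹ := by rw [mem_cent.1 hy]
        _ = _ := by group)
    rwa [E.cd.centU _ (hnorm x E.cd.tU) (fun h => hx1 (conj_eq_one_iff.1 h))] at h1
  have hgen : ∀ b ∈ B, ∃ p q : G, p ∈ B ∧ q ∈ B ∧ p ^ 15 = 1 ∧ q ^ 15 = 1 ∧ b = p * q := by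
    intro b hb
    obtain ⟨p, q, hp, hq, e1⟩ := five_gen (eB ⟨b, hb⟩)
    refine ⟨eB.symm p, eB.symm q, (eB.symm p).2, (eB.symm q).2, ?_, ?_, ?_⟩
    · rw [← SubgroupClass.coe_pow, ← map_pow, hp, map_one]; rfl
    · rw [← SubgroupClass.coe_pow, ← map_pow, hq, map_one]; rfl
    · rw [← Subgroup.coe_mul, ← map_mul, ← e1, MulEquiv.symm_apply_apply]
  have hBB : ∀ b ∈ B, a * b * a⁻¹ ∈ B := by
    intro b hb
    obtain ⟨p, q, hp, hq, hp15, hq15, rfl⟩ := hgen b hb
    have key : ∀ p ∈ B, p ^ 15 = 1 → a * p * a⁻¹ ∈ B := fun p hp hp15 =>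
      E.cd.mem_B_of_odd (hC p (E.cd.dp.2.1 hp)) (n := 15) (by decide)
        (by rw [conj_pow, hp15, mul_one, mul_inv_cancel])
    rw [show a * (p * q) * a⁻¹ = (a * p * a⁻¹) * (a * q * a⁻¹) by group]
    exact mul_mem (key p hp hp15) (key q hq hq15)
  let α₀ : B →* B :=
    { toFun := fun b => ⟨a * b * a⁻¹, hBB b b.2⟩
      map_one' := Subtype.ext (by simp)
      map_mul' := fun b b' => Subtype.ext (by simp [mul_assoc]) }
  have hα3 : ∀ b, α₀ (α₀ (α₀ b)) = b := fun b => Subtype.ext (by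
    show a * (a * (a * b * a⁻¹) * a⁻¹) * a⁻¹ = (b : G)
    rw [show a * (a * (a * (b : G) * a⁻¹) * a⁻¹) * a⁻¹ = (a * a * a) * b * (a * a * a)⁻¹ by group,
      ← pow_three', ha3, one_mul, inv_one, mul_one])
  have hbij : Function.Bijective α₀ := ⟨fun b b' h => by rw [← hα3 b, ← hα3 b', h], fun b => ⟨α₀ (α₀ b), hα3 b⟩⟩
  have hfix := five_auto_three eB (MulEquiv.ofBijective α₀ hbij) (y := ⟨e, E.eB⟩) (Subtype.ext E.e5)
    (fun h => E.e1 (congrArg Subtype.val h)) hα3
    (Subtype.ext (by show a * e * a⁻¹ = e; rw [mem_cent.1 haY, mul_inv_cancel_right]))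
  intro b hb
  exact mul_inv_eq_iff_eq_mul.1 (congrArg Subtype.val (hfix ⟨b, hb⟩))

variable [Finite G] {z : G} {Q : Subgroup G}

/-- The conclusion on the second class of involutions. -/
theorem Hyp.second_centralizer (h : Hyp z Q) {t : G} (ht : orderOf t = 2) (htz : ¬ IsConj z t) :
    Nonempty (↥(centralizer ({t} : Set G)) ≃*
        (Multiplicative (ZMod 2) × Multiplicative (ZMod 2)) × A5) ∧
      Nonempty (↥(normalizer (((pCore 2 ↥(centralizer ({t} : Set G))).map
        (Subgroup.subtype (centralizer ({t} : Set G))) : Subgroup G) : Set G)) ≃*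
          alternatingGroup (Fin 4) × A5) := by
  obtain ⟨c, x, k, z', e, O, U, B, E⟩ := h.exists_eData
  have hx1 : x ≠ 1 := fun h' => E.fd.c1 (eq_one_of_pow_odd_two (k := 1) (by
    have := E.fd.inv
    rw [h', one_mul, inv_one, mul_one] at this
    rw [pow_one, sq]
    nth_rewrite 1 [this]
    exact inv_mul_cancel c) (by decide) E.fd.c5)
  obtain ⟨g, rfl⟩ := isConj_iff.1 ((h.dichotomy (ord_two E.fd.xx hx1) E.fd.nxz ht).resolve_left htz)
  have D := E.cd.transport g
  refine ⟨D.iso_cent, ?_⟩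
  rw [D.pCore_map]
  exact D.iso_normalizer ht (E.hasThree.transport g)

end CfsgLib.Recog.HJType
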