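import Cfsg.Agent.Lib.Recog.JankoTwoType.Basic

/-!
Owner: helper29. Groups of Hall–Janko type: fusion of involutions.
-/

set_option autoImplicit false
set_option linter.all false

namespace CfsgLib.Recog.HJType

open Subgroup Cfsg CfsgLib.Recog

variable {G : Type*} [Group G]

theorem invol_conj {x : G} (g : G) (hx : x * x = 1) : g * x * g⁻¹ * (g * x * g⁻¹) = 1 := by
  rw [show g * x * g⁻¹ * (g * x * g⁻¹) = g * (x * x) * g⁻¹ by group, hx, mul_one, mul_inv_cancel]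

theorem eq_one_of_pow_odd_two {x : G} {k : ℕ} (h2 : x ^ 2 ^ k = 1) {n : ℕ} (hn : Odd n)
    (h : x ^ n = 1) : x = 1 := by
  have h1 := orderOf_dvd_of_pow_eq_one h2
  have h3 := orderOf_dvd_of_pow_eq_one h
  refine orderOf_eq_one_iff.1 (Nat.eq_one_of_dvd_coprimes ?_ h1 h3)
  exact (Nat.coprime_two_left.2 hn).pow_left k

/-- A group of Hall–Janko type at `z`. -/
structure Hyp (z : G) (Q : Subgroup G) : Prop where
  loc : Local z Q
  fus : ∃ g : G, g * z * g⁻¹ ∈ Q ∧ g * z * g⁻¹ ≠ z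
  cls : ∃ x y : G, orderOf x = 2 ∧ orderOf y = 2 ∧ ¬ IsConj x y

namespace Hyp

variable [Finite G] {z : G} {Q : Subgroup G} (h : Hyp z Q)
include h

theorem move (g : G) : Hyp (g * z * g⁻¹) (Q.map (MulAut.conj g).toMonoidHom) := by
  obtain ⟨k, hk, hk1⟩ := h.fus
  refine ⟨h.loc.conj_local g, ⟨g * k * g⁻¹, ⟨_, hk, ?_⟩, fun e => hk1 ?_⟩, h.cls⟩
  · simp [mul_assoc]
  · calc k * z * k⁻¹ = g⁻¹ * (g * k * g⁻¹ * (g * z * g⁻¹) * (g * k * g⁻¹)⁻¹) * g := by group
      _ = z := by rw [e]; group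

theorem exists_at {x : G} (hx : IsConj z x) : ∃ R : Subgroup G, Hyp x R := by
  obtain ⟨g, rfl⟩ := isConj_iff.1 hx
  exact ⟨_, h.move g⟩

theorem inner {x : G} (hx : x ∈ Q) (hx2 : x * x = 1) (hx1 : x ≠ 1) : IsConj z x := by
  by_cases hxz : x = z
  · rw [hxz]
  obtain ⟨g, hg, hg1⟩ := h.fus
  obtain ⟨c, -, hc⟩ := h.loc.inner_conj hg (invol_conj g h.loc.zz)
    ⟨fun e => h.loc.z_ne (conj_eq_one_iff.1 e), hg1⟩ hx hx2 ⟨hx1, hxz⟩
  exact (isConj_iff.2 ⟨g, rfl⟩).trans (isConj_iff.2 ⟨c, hc⟩)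

theorem card_sylow : ∃ P : Sylow 2 G, (P : Subgroup G) ≤ centralizer ({z} : Set G) ∧
    Nat.card (P : Subgroup G) = 128 := by
  haveI : Fact (Nat.Prime 2) := ⟨Nat.prime_two⟩
  set C := centralizer ({z} : Set G) with hC
  haveI : (Q.subgroupOf C).Normal :=
    ⟨fun q hq c => mem_subgroupOf.2 (h.loc.conj_mem _ c.2 _ (mem_subgroupOf.1 hq))⟩
  obtain ⟨T⟩ : Nonempty (Sylow 2 C) := inferInstance
  have hQp : IsPGroup 2 (Q.subgroupOf C) :=
    IsPGroup.of_card (n := 5) (by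
      rw [Nat.card_congr (subgroupOfEquivOfLe h.loc.le).toEquiv, h.loc.card]; norm_num)
  have hQT : Q.subgroupOf C ≤ T := hQp.le_sylow_of_normal T
  set T' := (T : Subgroup C).map C.subtype with hT'
  obtain ⟨P, hTP⟩ := (show IsPGroup 2 T' from T.isPGroup'.map _).exists_le_sylow
  have hQP : Q ≤ (P : Subgroup G) := fun q hq =>
    hTP ⟨⟨q, h.loc.le hq⟩, hQT (mem_subgroupOf.2 hq), rfl⟩
  have hzP : z ∈ (P : Subgroup G) := hQP h.loc.z_mem
  have hPC : (P : Subgroup G) ≤ C := by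
    haveI : Nontrivial (P : Subgroup G) :=
      ⟨⟨⟨z, hzP⟩, 1, fun e => h.loc.z_ne (congrArg Subtype.val e)⟩⟩
    haveI := P.isPGroup'.center_nontrivial
    obtain ⟨⟨⟨w, hw⟩, hwc⟩, hne⟩ := exists_ne (1 : center (↥(P : Subgroup G)))
    have hcomm : ∀ p ∈ (P : Subgroup G), w * p = p * w := fun p hp =>
      (congrArg Subtype.val (mem_center_iff.1 hwc ⟨p, hp⟩)).symm
    have hwC : w ∈ C := mem_cent.2 (hcomm z hzP)
    rcases h.loc.self_cases hwC (fun q hq => hcomm q (hQP hq)) with e | e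
    · exact absurd (Subtype.ext (Subtype.ext e)) hne
    · intro p hp
      exact mem_cent.2 (e ▸ (hcomm p hp).symm)
  refine ⟨P, hPC, ?_⟩
  have hPeq : T' = (P : Subgroup G) := by
    refine le_antisymm hTP ?_
    have hmax := T.3 (P.isPGroup'.comap_of_injective C.subtype C.subtype_injective)
      (fun t ht => hTP ⟨t, ht, rfl⟩)
    intro p hp
    exact ⟨⟨p, hPC hp⟩, hmax.le hp, rfl⟩
  rw [← hPeq, hT', card_map_of_injective C.subtype_injective, Sylow.card_eq_multiplicity,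
    show Nat.card ↥C = 1920 from h.loc.card_centralizer]
  have e : Nat.factorization 1920 2 = 7 := by
    rw [Nat.factorization_def _ Nat.prime_two, show (1920 : ℕ) = 2 ^ 7 * 15 by norm_num,
      padicValNat.mul (by norm_num) (by norm_num), padicValNat.prime_pow,
      padicValNat.eq_zero_of_not_dvd (by norm_num)]
  rw [e]; norm_num

theorem conj_into {x : G} (hx2 : x * x = 1) : ∃ g : G, g * x * g⁻¹ ∈ centralizer ({z} : Set G) := by
  haveI : Fact (Nat.Prime 2) := ⟨Nat.prime_two⟩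
  obtain ⟨P, hP, -⟩ := h.card_sylow
  have hp : IsPGroup 2 (zpowers x) := fun y => by
    obtain ⟨n, hn⟩ := y.2
    refine ⟨1, Subtype.ext ?_⟩
    rw [SubgroupClass.coe_pow, pow_one, OneMemClass.coe_one, ← hn]
    show (x ^ n) ^ 2 = 1
    rw [← zpow_natCast (x ^ n), ← zpow_mul, mul_comm, zpow_mul, zpow_natCast, sq, hx2, one_zpow]
  obtain ⟨R, hR⟩ := hp.exists_le_sylow
  obtain ⟨g, hg⟩ := MulAction.exists_smul_eq G R P
  exact ⟨g, hP (by rw [← hg, Sylow.coe_subgroup_smul]; exact ⟨x, hR (mem_zpowers x), rfl⟩)⟩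

theorem outer_not_conj {v : G} (hv : v * v = 1) (hvC : v ∈ centralizer ({z} : Set G)) (hvQ : v ∉ Q) :
    ¬ IsConj z v := by
  intro hc
  obtain ⟨x, y, hx, hy, hxy⟩ := h.cls
  have key : ∀ w : G, orderOf w = 2 → IsConj z w := by
    intro w hw
    obtain ⟨hw2, hw1⟩ := inv_pair hw
    obtain ⟨g, hg⟩ := h.conj_into hw2
    refine IsConj.trans ?_ (isConj_iff.2 ⟨g, rfl⟩ : IsConj w (g * w * g⁻¹)).symm
    have hg2 := invol_conj g hw2
    have hg1 : g * w * g⁻¹ ≠ 1 := fun e => hw1 (conj_eq_one_iff.1 e)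
    by_cases hQ : g * w * g⁻¹ ∈ Q
    · exact h.inner hQ hg2 hg1
    · obtain ⟨c, -, he⟩ := h.loc.outer_conj hv hvC hvQ hg2 hg hQ
      exact hc.trans (isConj_iff.2 ⟨c, he⟩)
  exact hxy ((key x hx).symm.trans (key y hy))

/-- An involution commuting with `z` is conjugate to `z` exactly when it lies in `Q`. -/
theorem conj_iff {x : G} (hx2 : x * x = 1) (hx1 : x ≠ 1) (hxC : x ∈ centralizer ({z} : Set G)) :
    IsConj z x ↔ x ∈ Q :=
  ⟨fun hc => by_contra fun hQ => h.outer_not_conj hx2 hxC hQ hc, fun hQ => h.inner hQ hx2 hx1⟩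

theorem exists_outer : ∃ v : G, v * v = 1 ∧ v ∈ centralizer ({z} : Set G) ∧ v ∉ Q := by
  by_contra hcon
  push Not at hcon
  obtain ⟨x, y, hx, hy, hxy⟩ := h.cls
  have key : ∀ w : G, orderOf w = 2 → IsConj z w := by
    intro w hw
    obtain ⟨hw2, hw1⟩ := inv_pair hw
    obtain ⟨g, hg⟩ := h.conj_into hw2
    refine IsConj.trans ?_ (isConj_iff.2 ⟨g, rfl⟩ : IsConj w (g * w * g⁻¹)).symm
    exact h.inner (hcon _ (invol_conj g hw2) hg) (invol_conj g hw2) fun e => hw1 (conj_eq_one_iff.1 e)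
  exact hxy ((key x hx).symm.trans (key y hy))

theorem dichotomy {t x : G} (ht : orderOf t = 2) (htz : ¬ IsConj z t) (hx : orderOf x = 2) :
    IsConj z x ∨ IsConj t x := by
  obtain ⟨hx2, hx1⟩ := inv_pair hx
  obtain ⟨ht2, ht1⟩ := inv_pair ht
  obtain ⟨g, hg⟩ := h.conj_into hx2
  obtain ⟨f, hf⟩ := h.conj_into ht2
  have e : ∀ (k w : G), IsConj w (k * w * k⁻¹) := fun k w => isConj_iff.2 ⟨k, rfl⟩
  by_cases hQ : g * x * g⁻¹ ∈ Q
  · exact Or.inl ((h.inner hQ (invol_conj g hx2) fun e' => hx1 (conj_eq_one_iff.1 e')).trans (e g x).symm)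
  · have hfQ : f * t * f⁻¹ ∉ Q := fun hq =>
      htz ((h.inner hq (invol_conj f ht2) fun e' => ht1 (conj_eq_one_iff.1 e')).trans (e f t).symm)
    obtain ⟨c, -, hc⟩ := h.loc.outer_conj (invol_conj f ht2) hf hfQ (invol_conj g hx2) hg hQ
    exact Or.inr (((e f t).trans (isConj_iff.2 ⟨c, hc⟩)).trans (e g x).symm)

/-- The centralizer in `C(t)` of a conjugate of `z`, for `t` not conjugate to `z`. -/
theorem card_inf_centralizer {t y : G} (ht : orderOf t = 2) (htz : ¬ IsConj z t) (hy : IsConj z y)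
    (hty : t * y = y * t) :
    Nat.card ↥(centralizer ({y} : Set G) ⊓ centralizer ({t} : Set G) : Subgroup G) = 16 := by
  obtain ⟨R, hR⟩ := h.exists_at hy
  obtain ⟨ht2, ht1⟩ := inv_pair ht
  refine hR.loc.card_inf_centralizer_outer ht2 (mem_cent.2 hty) fun htR => htz ?_
  exact hy.trans (hR.inner htR ht2 ht1)

end Hyp

end CfsgLib.Recog.HJType
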