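import Cfsg.Agent.Lib.Recog.JankoTwoType.Order
import Cfsg.Agent.Lib.LocalEvenB.CentralizerDEight
import Cfsg.Agent.Lib.Recog.JankoTwoType.SmallFacts

/-!
Owner: helper29. Groups of Hall–Janko type: the elements of order five.
-/

set_option autoImplicit false
set_option linter.all false

namespace CfsgLib.Recog.HJType

open Subgroup Cfsg CfsgLib.Recog

local notation "A5" => alternatingGroup (Fin 5)

variable {G : Type*} [Group G]

/-- An element of cube one normalizing a group of order five centralizes it. -/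
theorem comm_of_three_five {d f : G} (hd : d ^ 3 = 1) (hf : f ^ 5 = 1)
    (h : d * f * d⁻¹ ∈ zpowers f) : d * f = f * d := by
  obtain ⟨i, hi⟩ := mem_zpowers_iff.1 h
  refine mul_inv_eq_iff_eq_mul.1 ?_
  rw [← hi]
  by_cases hf1 : f = 1
  · simp [hf1]
  haveI : Fact (Nat.Prime 5) := ⟨by norm_num⟩
  have h2 : d * (d * f * d⁻¹) * d⁻¹ = f ^ (i * i) := by rw [← hi, ← conj_zpow, ← hi, ← zpow_mul]
  have h3 : d * (d * (d * f * d⁻¹) * d⁻¹) * d⁻¹ = f ^ (i * (i * i)) := by
    rw [h2, ← conj_zpow, ← hi, ← zpow_mul]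
  have h4 : d * (d * (d * f * d⁻¹) * d⁻¹) * d⁻¹ = f := by
    calc _ = (d * d * d) * f * (d * d * d)⁻¹ := by group
      _ = f := by rw [← pow_three', hd]; group
  rw [h4] at h3
  have h5 : f ^ (i * (i * i) - 1) = 1 := by rw [zpow_sub, zpow_one, ← h3, mul_inv_cancel]
  rw [← orderOf_dvd_iff_zpow_eq_one, orderOf_eq_prime hf hf1] at h5
  have key : (i : ℤ) % 5 = 1 := by
    have h6 : (i * (i * i) - 1) % 5 = 0 := Int.emod_eq_zero_of_dvd h5
    have hi5 : i % 5 = 0 ∨ i % 5 = 1 ∨ i % 5 = 2 ∨ i % 5 = 3 ∨ i % 5 = 4 := by omega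
    rw [Int.sub_emod, Int.mul_emod, Int.mul_emod i i] at h6
    rcases hi5 with e | e | e | e | e <;> rw [e] at h6 <;> first | exact e | norm_num at h6
  rw [← zpow_mod_orderOf, orderOf_eq_prime hf hf1]
  show f ^ (i % 5) = f
  rw [key, zpow_one]

theorem sq_eq_one_of_five {e : G} (he : e ^ 5 = 1) {w : G} (hw : w ∈ zpowers e) (hw2 : w * w = 1) :
    w = 1 := by
  obtain ⟨i, rfl⟩ := mem_zpowers_iff.1 hw
  exact eq_one_of_pow_odd_two (k := 1) (n := 5) (by rw [pow_one, sq, hw2]) (by decide)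
    (by rw [← zpow_natCast, ← zpow_mul, mul_comm, zpow_mul, zpow_natCast, he, one_zpow])

namespace CData

variable [Finite G] {z t k : G} {U B : Subgroup G} (D : CData z t k U B)
include D

theorem le_cent : U ≤ centralizer ({t} : Set G) ∧ B ≤ centralizer ({t} : Set G) := ⟨D.dp.1, D.dp.2.1⟩

theorem exists_prod : ∃ f : ↥U × ↥B ≃* ↥(centralizer ({t} : Set G)),
    ∀ p, (f p : G) = p.1 * p.2 := by
  obtain ⟨hU, hB, hc, hinf, hsup⟩ := D.dp
  let f : U × B →* ↥(centralizer ({t} : Set G)) :=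
    MonoidHom.noncommCoprod (Subgroup.inclusion hU) (Subgroup.inclusion hB)
      fun a b => Subtype.ext (hc _ a.2 _ b.2)
  have hf : Function.Injective f := by
    rintro ⟨a, b⟩ ⟨a', b'⟩ e
    have e' : (a : G) * b = a' * b' := congrArg Subtype.val e
    have h1 : (a' : G)⁻¹ * a = b' * (b : G)⁻¹ := by
      rw [inv_mul_eq_iff_eq_mul, ← mul_assoc, ← e', mul_inv_cancel_right]
    have h2 : (a' : G)⁻¹ * a = 1 := mem_bot.1 (hinf ▸ mem_inf.2
      ⟨mul_mem (Subgroup.inv_mem _ a'.2) a.2, h1 ▸ mul_mem b'.2 (Subgroup.inv_mem _ b.2)⟩)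
    obtain rfl : a' = a := Subtype.ext (inv_mul_eq_one.1 h2)
    obtain rfl : b = b' := Subtype.ext (mul_left_cancel e')
    rfl
  haveI := Fintype.ofFinite (↥U × ↥B)
  have hs : Function.Surjective f := by
    refine (Nat.bijective_iff_injective_and_card f).2 ⟨hf, ?_⟩ |>.2
    rw [Nat.card_prod, ← Cfsg.Agent.S3313.card_directProduct D.dp]
  exact ⟨MulEquiv.ofBijective f ⟨hf, hs⟩, fun p => rfl⟩

theorem exists_mul {x : G} (hx : x ∈ centralizer ({t} : Set G)) : ∃ a ∈ U, ∃ b ∈ B, x = a * b := by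
  obtain ⟨f, hf⟩ := D.exists_prod
  obtain ⟨⟨a, b⟩, e⟩ := f.surjective ⟨x, hx⟩
  exact ⟨a, a.2, b, b.2, by rw [← hf ⟨a, b⟩, e]⟩

theorem mem_B_of_odd {x : G} (hx : x ∈ centralizer ({t} : Set G)) {n : ℕ} (hn : Odd n)
    (hxn : x ^ n = 1) : x ∈ B := by
  obtain ⟨hU, hB, hc, hinf, hsup⟩ := D.dp
  obtain ⟨a, ha, b, hb, rfl⟩ := D.exists_mul hx
  have h1 : a ^ n * b ^ n = 1 := by rw [← (show Commute a b from hc a ha b hb).mul_pow, hxn]
  have h2 : a ^ n ∈ U ⊓ B := ⟨pow_mem ha _, by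
    rw [eq_inv_of_mul_eq_one_left h1]; exact B.inv_mem (pow_mem hb _)⟩
  rw [hinf, mem_bot] at h2
  have h3 : a = 1 := eq_one_of_pow_odd_two (k := 1) (by rw [pow_one, sq]; exact D.sqU a ha) hn h2
  rw [h3, one_mul]
  exact hb

theorem card_odd_subgroup {H : Subgroup G} (hH : H ≤ centralizer ({t} : Set G))
    (hodd : Odd (Nat.card H)) : Nat.card H ∣ 3 ∨ Nat.card H = 5 := by
  classical
  haveI : Fact (Nat.Prime 3) := ⟨by norm_num⟩
  haveI : Fact (Nat.Prime 5) := ⟨by norm_num⟩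
  obtain ⟨e⟩ := D.iso
  have hHB : H ≤ B := fun x hx => D.mem_B_of_odd (hH hx) hodd (by
    have := pow_card_eq_one' (x := (⟨x, hx⟩ : H))
    exact congrArg Subtype.val this)
  have h60 : Nat.card H ∣ 60 := by
    rw [← AltFive.card_eq, ← Nat.card_congr e.toEquiv]; exact card_dvd_of_le hHB
  have hcop : (Nat.card H).Coprime 4 := (Nat.coprime_two_right.2 hodd).pow_right 2
  have h15 : Nat.card H ∣ 15 := hcop.dvd_of_dvd_mul_left (show _ ∣ 4 * 15 from h60)
  have hle := Nat.le_of_dvd (by norm_num) h15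
  by_cases h : Nat.card H = 15
  · exfalso
    obtain ⟨⟨a, haH⟩, ha⟩ := exists_prime_orderOf_dvd_card' (G := H) 3 (by rw [h]; norm_num)
    obtain ⟨⟨b, hbH⟩, hb⟩ := exists_prime_orderOf_dvd_card' (G := H) 5 (by rw [h]; norm_num)
    rw [Subgroup.orderOf_mk] at ha hb
    have ha3 : a ^ 3 = 1 := by rw [← ha]; exact pow_orderOf_eq_one a
    have hb5 : b ^ 5 = 1 := by rw [← hb]; exact pow_orderOf_eq_one b
    set S := (zpowers b).subgroupOf H with hS
    have hSn : S.Normal := by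
      refine Subgroup.normal_of_index_eq_minFac_card ?_
      have h5 : Nat.card S = 5 := by
        rw [hS, Nat.card_congr (subgroupOfEquivOfLe (zpowers_le.2 hbH)).toEquiv, Nat.card_zpowers, hb]
      have := S.card_mul_index
      rw [h5, h] at this
      rw [h, show Nat.minFac 15 = 3 by norm_num]
      omega
    have hmem : a * b * a⁻¹ ∈ zpowers b :=
      mem_subgroupOf.1 (hSn.conj_mem ⟨b, hbH⟩ (mem_subgroupOf.2 (mem_zpowers b)) ⟨a, haH⟩)
    have hcomm := comm_of_three_five ha3 hb5 hmem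
    have h1 := five_three_centralizer (e ⟨a, hHB haH⟩) (e ⟨b, hHB hbH⟩)
      (by rw [← map_pow, show (⟨a, hHB haH⟩ : B) ^ 3 = 1 from Subtype.ext ha3, map_one])
      (fun h1 => by
        rw [MulEquiv.map_eq_one_iff] at h1
        rw [show a = 1 from congrArg Subtype.val h1, orderOf_one] at ha
        norm_num at ha)
      (by rw [← map_mul, ← map_mul]; exact congrArg e (Subtype.ext hcomm.symm))
    rw [← map_pow, MulEquiv.map_eq_one_iff] at h1
    have := orderOf_dvd_of_pow_eq_one (show b ^ 3 = 1 from congrArg Subtype.val h1)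
    rw [hb] at this
    norm_num at this
  · interval_cases hn : Nat.card H <;> simp_all

end CData

theorem FiveData.swap {z c x : G} {O : Subgroup G} (hzz : z * z = 1) (fd : FiveData z c x O) :
    FiveData z c (z * x) O := by
  have h1 : z * (z * x) = x := by rw [← mul_assoc, hzz, one_mul]
  exact
    { fd with
      xx := by
        rw [show z * x * (z * x) = z * (x * z) * x by group, ← fd.zx,
          show z * (z * x) * x = (z * z) * (x * x) by group, hzz, fd.xx, one_mul]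
      zx := by rw [mul_assoc, ← fd.zx]
      inv := by
        rw [show z * x * c * (z * x)⁻¹ = z * (x * c * x⁻¹) * z⁻¹ by group, fd.inv,
          show z * c⁻¹ * z⁻¹ = (z * c * z⁻¹)⁻¹ by group, ← fd.cz, mul_inv_cancel_right]
      nxz := fd.nxz'
      nxz' := by rw [h1]; exact fd.nxz
      bound := by rw [h1, mul_right_comm]; exact fd.bound }

namespace FiveData

variable [Finite G] {z c x : G} {O : Subgroup G} (fd : FiveData z c x O)
include fd

theorem conj_z {o : G} (ho : o ∈ O) : z * o * z⁻¹ ∈ O :=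
  ((mem_normalizer_iff.1 (fd.normO z (by
    refine Subgroup.mem_normalizer_fintype fun y hy => ?_
    obtain ⟨j, rfl⟩ := mem_zpowers_iff.1 hy
    rw [((show Commute z c from fd.cz.symm).zpow_right j).eq, mul_inv_cancel_right]
    exact hy))) o).1 ho

theorem fix_eq : O ⊓ centralizer ({z} : Set G) = zpowers c := by
  haveI : Fact (Nat.Prime 5) := ⟨by norm_num⟩
  have hle : zpowers c ≤ O ⊓ centralizer ({z} : Set G) :=
    zpowers_le.2 (mem_inf.2 ⟨fd.cO, mem_cent.2 fd.cz⟩)
  refine (Subgroup.eq_of_le_of_card_ge hle ?_).symm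
  rw [fd.fixz, Nat.card_zpowers, orderOf_eq_prime fd.c5 fd.c1]

theorem comm_c {o : G} (ho : o ∈ O) : o * c = c * o := mem_cent.1 (fd.le ho)

/-- An element of `O` fixed by `x` or by `z * x` is inverted by `z`. -/
theorem z_inverts (hz2 : z * z = 1) {o : G} (ho : o ∈ O) (hox : o * x = x * o)
    (hc : ∀ p ∈ O, p * x = x * p → o * p = p * o) : z * o * z⁻¹ = o⁻¹ := by
  have hzo := fd.conj_z ho
  have hzox : z * o * z⁻¹ * x = x * (z * o * z⁻¹) := by
    have hzi : z⁻¹ * x = x * z⁻¹ := by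
      rw [eq_mul_inv_iff_mul_eq, mul_assoc, ← fd.zx, inv_mul_cancel_left]
    calc z * o * z⁻¹ * x = z * o * (z⁻¹ * x) := by group
      _ = z * o * (x * z⁻¹) := by rw [hzi]
      _ = z * (o * x) * z⁻¹ := by group
      _ = z * (x * o) * z⁻¹ := by rw [hox]
      _ = z * x * (o * z⁻¹) := by group
      _ = x * z * (o * z⁻¹) := by rw [fd.zx]
      _ = _ := by group
  have hcomm := hc _ hzo hzox
  set w := o * (z * o * z⁻¹) with hw
  have hwO : w ∈ O := mul_mem ho hzo
  have hzz : z * (z * o * z⁻¹) * z⁻¹ = o := by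
    rw [show z * (z * o * z⁻¹) * z⁻¹ = (z * z) * o * (z * z)⁻¹ by group, hz2, one_mul, inv_one, mul_one]
  have hwz : z * w * z⁻¹ = w := by
    rw [hw, show z * (o * (z * o * z⁻¹)) * z⁻¹ = (z * o * z⁻¹) * (z * (z * o * z⁻¹) * z⁻¹) by group,
      hzz]
    exact hcomm.symm
  have hwc : w ∈ zpowers c := by
    rw [← fd.fix_eq, mem_inf]
    exact ⟨hwO, mem_cent.2 (mul_inv_eq_iff_eq_mul.1 hwz).symm⟩
  obtain ⟨j, hj⟩ := mem_zpowers_iff.1 hwc
  have h1 : x * w * x⁻¹ = w := by
    rw [hw, show x * (o * (z * o * z⁻¹)) = o * (z * o * z⁻¹) * x by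
      rw [← mul_assoc, ← hox, mul_assoc, ← hzox, ← mul_assoc], mul_inv_cancel_right]
  rw [← hj, ← conj_zpow, fd.inv, inv_zpow] at h1
  have h2 : c ^ j * c ^ j = 1 := by nth_rewrite 1 [← h1]; exact inv_mul_cancel _
  have h3 : w = 1 := by
    rw [← hj]; exact sq_eq_one_of_five fd.c5 (zpow_mem (mem_zpowers c) j) h2
  exact eq_inv_of_mul_eq_one_right h3

end FiveData

/-- The data on a subgroup of order twenty-five with two types of subgroups of order five. -/
structure EData (z c x k z' e : G) (O U B : Subgroup G) : Prop where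
  fd : FiveData z c x O
  cd : CData z' x k U B
  conj_z' : IsConj z z'
  cardO : Nat.card O = 25
  e5 : e ^ 5 = 1
  e1 : e ≠ 1
  eO : e ∈ O
  eB : e ∈ B
  ze : z * e * z⁻¹ = e⁻¹
  Ue : ∀ a ∈ U, a * e = e * a
  cardE : Nat.card ↥(centralizer ({e} : Set G)) = 300
  quotE : ∃ π : ↥(centralizer ({e} : Set G)) →* A5, Function.Surjective π ∧
    ∀ y, π y = 1 ↔ (y : G) ∈ zpowers e

variable [Finite G] {z : G} {Q : Subgroup G}

theorem Hyp.five_sq_dvd (h : Hyp z Q) {c x : G} {O : Subgroup G} (fd : FiveData z c x O) :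
    25 ∣ Nat.card O := by
  haveI : Fact (Nat.Prime 5) := ⟨by norm_num⟩
  have hp : IsPGroup 5 (zpowers c) := IsPGroup.of_card (n := 1)
    (by rw [Nat.card_zpowers, orderOf_eq_prime fd.c5 fd.c1, pow_one])
  obtain ⟨S, hS⟩ := hp.exists_le_sylow
  have hS25 : Nat.card (S : Subgroup G) = 5 ^ 2 := by
    rw [Sylow.card_eq_multiplicity S, h.card_group, show (604800 : ℕ) = 5 ^ 2 * 24192 by norm_num,
      Nat.factorization_mul (by norm_num) (by norm_num), Finsupp.add_apply,
      Nat.Prime.factorization_pow (by norm_num), Finsupp.single_eq_same,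
      Nat.factorization_eq_zero_of_not_dvd (by norm_num : ¬ (5 ∣ 24192))]
  haveI := IsPGroup.isMulCommutative_of_card_eq_prime_sq hS25
  have hle : (S : Subgroup G) ≤ centralizer ({c} : Set G) := fun y hy => mem_cent.2
    (congrArg Subtype.val (mul_comm' (⟨y, hy⟩ : (S : Subgroup G)) ⟨c, hS (mem_zpowers c)⟩))
  have hd := card_dvd_of_le hle
  rw [hS25, fd.cardY] at hd
  exact (by norm_num : Nat.Coprime (5 ^ 2) 2).dvd_of_dvd_mul_left hd

theorem Hyp.fixed_card (h : Hyp z Q) {c x : G} {O : Subgroup G} (fd : FiveData z c x O) :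
    Nat.card ↥(O ⊓ centralizer ({x} : Set G) : Subgroup G) ∣ 3 ∨
      Nat.card ↥(O ⊓ centralizer ({x} : Set G) : Subgroup G) = 5 := by
  have hx1 : x ≠ 1 := fun e => fd.c1 (eq_one_of_pow_odd_two (k := 1) (by
    have := fd.inv
    rw [e, one_mul, inv_one, mul_one] at this
    rw [pow_one, sq]
    nth_rewrite 1 [this]
    exact inv_mul_cancel c) (by decide) fd.c5)
  obtain ⟨z', k, U, B, -, D⟩ := h.exists_cdata (ord_two fd.xx hx1) fd.nxz
  exact D.card_odd_subgroup inf_le_right (Odd.of_dvd_nat fd.odd (card_dvd_of_le inf_le_left))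

/-- One of the two outer involutions fixes a subgroup of order five. -/
theorem Hyp.exists_oriented (h : Hyp z Q) : ∃ (c x : G) (O : Subgroup G), FiveData z c x O ∧
    Nat.card ↥(O ⊓ centralizer ({x} : Set G) : Subgroup G) = 5 := by
  obtain ⟨c, x, O, fd⟩ := h.exists_fiveData
  rcases h.fixed_card fd with ha | ha
  · rcases h.fixed_card (fd.swap h.loc.zz) with hb | hb
    · exfalso
      have h45 : Nat.card O ∣ 45 := fd.bound.trans (mul_dvd_mul (mul_dvd_mul (dvd_refl 5) ha) hb)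
      have := (h.five_sq_dvd fd).trans h45
      norm_num at this
    · exact ⟨c, z * x, O, fd.swap h.loc.zz, hb⟩
  · exact ⟨c, x, O, fd, ha⟩

/-- The centralizer of a five-element with a four-group. -/
theorem CData.quot_five {z t k : G} {U B : Subgroup G} (D : CData z t k U B) {e c : G} (he5 : e ^ 5 = 1)
    (he1 : e ≠ 1) (heB : e ∈ B) (hc5 : c ^ 5 = 1) (hce : c * e = e * c) (hcnot : c ∉ zpowers e) :
    Nat.card ↥(centralizer ({e} : Set G)) = 300 ∧
      ∃ π : ↥(centralizer ({e} : Set G)) →* A5, Function.Surjective π ∧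
        ∀ y, π y = 1 ↔ (y : G) ∈ zpowers e := by
  classical
  haveI : Fact (Nat.Prime 5) := ⟨by norm_num⟩
  haveI : Fact (Nat.Prime 2) := ⟨Nat.prime_two⟩
  obtain ⟨eB⟩ := D.iso
  obtain ⟨hU, hB, hc, hinf, hsup⟩ := D.dp
  set Y := centralizer ({e} : Set G) with hY
  have hUY : U ≤ Y := fun a ha => mem_cent.2 (hc a ha e heB)
  set N : Subgroup Y := (zpowers e).subgroupOf Y with hN
  haveI hNn : N.Normal := ⟨fun n hn g => by
    refine mem_subgroupOf.2 ?_
    obtain ⟨j, hj⟩ := mem_zpowers_iff.1 (mem_subgroupOf.1 hn)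
    show (g : G) * (n : G) * (g : G)⁻¹ ∈ zpowers e
    rw [← hj, ((show Commute (g : G) e from mem_cent.1 g.2).zpow_right j).eq, mul_inv_cancel_right]
    exact zpow_mem (mem_zpowers e) j⟩
  let q := QuotientGroup.mk' N
  have hq1 : ∀ y : Y, q y = 1 ↔ (y : G) ∈ zpowers e := fun y => by
    rw [show q y = 1 ↔ y ∈ N from QuotientGroup.eq_one_iff y, hN, mem_subgroupOf]
  -- the image of `U`
  set Ub : Subgroup (Y ⧸ N) := (U.subgroupOf Y).map q with hUb
  have hinj : ∀ a ∈ U.subgroupOf Y, ∀ b ∈ U.subgroupOf Y, q a = q b → a = b := by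
    intro a ha b hb hab
    have hm : ((a⁻¹ * b : Y) : G) ∈ zpowers e := (hq1 _).1 (by rw [map_mul, map_inv, hab, inv_mul_cancel])
    have h2 := sq_eq_one_of_five he5 hm (D.sqU _ (mul_mem (U.inv_mem (mem_subgroupOf.1 ha)) (mem_subgroupOf.1 hb)))
    exact inv_mul_eq_one.1 (Subtype.ext h2)
  have hUb4 : Nat.card Ub = 4 := by
    rw [← D.cardU, ← Nat.card_congr (subgroupOfEquivOfLe hUY).toEquiv]
    refine (Nat.card_congr (Equiv.ofBijective (fun a : U.subgroupOf Y => (⟨q a, mem_map_of_mem _ a.2⟩ : Ub))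
      ⟨fun a b hab => Subtype.ext (hinj _ a.2 _ b.2 (congrArg Subtype.val hab)), ?_⟩)).symm
    rintro ⟨_, a, ha, rfl⟩
    exact ⟨⟨a, ha⟩, rfl⟩
  have hUsq : ∀ a ∈ Ub, a * a = 1 := by
    rintro _ ⟨a, ha, rfl⟩
    rw [← map_mul, show a * a = 1 from Subtype.ext (D.sqU _ (mem_subgroupOf.1 ha)), map_one]
  have hCU : ∀ a ∈ Ub, a ≠ 1 → centralizer ({a} : Set (Y ⧸ N)) = Ub := by
    intro a ha ha1
    refine le_antisymm ?_ ?_
    swap
    · intro b hb
      refine mem_cent.2 ?_
      have h1 := hUsq _ (mul_mem hb ha)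
      calc b * a = (b * a)⁻¹ := eq_inv_of_mul_eq_one_left h1
        _ = a * b := by
          rw [mul_inv_rev, inv_eq_of_mul_eq_one_left (hUsq _ hb), inv_eq_of_mul_eq_one_left (hUsq _ ha)]
    obtain ⟨u, hu, rfl⟩ := ha
    intro b hb
    obtain ⟨y, rfl⟩ := QuotientGroup.mk'_surjective N b
    have huU : (u : G) ∈ U := mem_subgroupOf.1 hu
    have hu1 : (u : G) ≠ 1 := fun h1 => ha1 (by rw [show u = 1 from Subtype.ext h1, map_one])
    set w := (u : G) * ((y : G) * u * (y : G)⁻¹) with hw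
    have hwe : w ∈ zpowers e := by
      refine (hq1 (u * (y * u * y⁻¹))).1 ?_
      rw [map_mul, map_mul, map_mul, map_inv, show q y * q u = q u * q y from mem_cent.1 hb,
        mul_inv_cancel_right]
      exact hUsq _ (mem_map_of_mem _ hu)
    have huu := D.sqU _ huU
    have huy : (u : G) * w = w * u := by
      obtain ⟨j, hj⟩ := mem_zpowers_iff.1 hwe
      rw [← hj]
      exact ((show Commute (u : G) e from hc _ huU e heB).zpow_right j).eq
    have hww : w * w = 1 := by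
      calc w * w = w * u * ((y : G) * u * (y : G)⁻¹) := by rw [hw]; group
        _ = u * w * ((y : G) * u * (y : G)⁻¹) := by rw [huy]
        _ = (u * u : G) * ((y : G) * (u * u : G) * (y : G)⁻¹) := by rw [hw]; group
        _ = 1 := by rw [huu]; group
    have hw1 := sq_eq_one_of_five he5 hwe hww
    have hy : (y : G) ∈ centralizer ({t} : Set G) := by
      rw [← D.centU _ huU hu1]
      refine mem_cent.2 (mul_inv_eq_iff_eq_mul.1 ?_)
      rw [← inv_eq_of_mul_eq_one_right hw1, inv_eq_of_mul_eq_one_left huu]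
    obtain ⟨a, ha, b, hb', hab⟩ := D.exists_mul hy
    have hbe : b * e = e * b := by
      have h1 := mem_cent.1 y.2
      rw [hab] at h1
      have h2 : a * (b * e) = a * (e * b) := by
        rw [← mul_assoc, h1, ← mul_assoc, ← mul_assoc, hc a ha e heB]
      exact mul_left_cancel h2
    have hbz : b ∈ zpowers e := by
      have hcard := five_five_centralizer (eB ⟨e, heB⟩)
        (by rw [← map_pow, show (⟨e, heB⟩ : B) ^ 5 = 1 from Subtype.ext he5, map_one])
        (fun h1 => he1 (by rw [MulEquiv.map_eq_one_iff] at h1; exact congrArg Subtype.val h1))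
      set Ce := centralizer ({eB ⟨e, heB⟩} : Set A5) with hCe
      have hC5 : Nat.card Ce = 5 := by
        refine Eq.trans ?_ hcard
        exact Nat.card_congr (Equiv.subtypeEquivRight fun y => mem_cent)
      have hle : zpowers (eB ⟨e, heB⟩) = Ce := by
        refine Subgroup.eq_of_le_of_card_ge (zpowers_le.2 (mem_cent.2 rfl)) ?_
        rw [hC5, Nat.card_zpowers, MulEquiv.orderOf_eq, Subgroup.orderOf_mk, orderOf_eq_prime he5 he1]
      have hbC : eB ⟨b, hb'⟩ ∈ Ce := mem_cent.2 (by rw [← map_mul, ← map_mul]; exact congrArg eB (Subtype.ext hbe))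
      rw [← hle] at hbC
      obtain ⟨j, hj⟩ := mem_zpowers_iff.1 hbC
      rw [← map_zpow] at hj
      exact mem_zpowers_iff.2 ⟨j, congrArg Subtype.val (eB.injective hj)⟩
    refine ⟨⟨a, hUY ha⟩, mem_subgroupOf.2 ha, ?_⟩
    refine inv_mul_eq_one.1 ?_
    rw [← map_inv, ← map_mul, hq1]
    show a⁻¹ * (y : G) ∈ zpowers e
    rw [hab, inv_mul_cancel_left]
    exact hbz
  have hp : IsPGroup 2 Ub := IsPGroup.of_card (n := 2) (by rw [hUb4]; norm_num)
  obtain ⟨S, hS⟩ := hp.exists_le_sylow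
  have hne : ∃ a ∈ Ub, a ≠ 1 := by
    by_contra hno
    push Not at hno
    have : Ub = ⊥ := (eq_bot_iff_forall _).2 hno
    rw [this, card_bot] at hUb4
    norm_num at hUb4
  have hSU : (S : Subgroup (Y ⧸ N)) = Ub := by
    refine le_antisymm ?_ hS
    obtain ⟨a, ha, ha1⟩ := hne
    haveI : Nontrivial (S : Subgroup (Y ⧸ N)) := ⟨⟨⟨a, hS ha⟩, 1, fun h1 => ha1 (congrArg Subtype.val h1)⟩⟩
    haveI := S.2.center_nontrivial
    obtain ⟨⟨⟨w, hw⟩, hwc⟩, hw1⟩ := exists_ne (1 : Subgroup.center (↥(S : Subgroup (Y ⧸ N))))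
    have hcomm : ∀ p ∈ (S : Subgroup (Y ⧸ N)), p * w = w * p := fun p hp =>
      congrArg Subtype.val (mem_center_iff.1 hwc ⟨p, hp⟩)
    have hwU : w ∈ Ub := by rw [← hCU a ha ha1]; exact mem_cent.2 (hcomm a (hS ha)).symm
    intro p hp'
    rw [← hCU w hwU (fun h1 => hw1 (Subtype.ext (Subtype.ext h1)))]
    exact mem_cent.2 (hcomm p hp')
  have hK : IsKleinFour (S : Subgroup (Y ⧸ N)) := by
    rw [hSU]
    refine ⟨hUb4, ?_⟩
    haveI : Nontrivial Ub := by rw [← Finite.one_lt_card_iff_nontrivial, hUb4]; norm_num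
    exact (Monoid.exponent_eq_prime_iff Nat.prime_two).2 fun a ha =>
      orderOf_eq_prime (Subtype.ext (by rw [SubgroupClass.coe_pow, sq]; exact hUsq a a.2)) ha
  set cb : Y ⧸ N := q ⟨c, mem_cent.2 hce⟩ with hcb
  have hcb5 : cb ^ 5 = 1 := by
    rw [hcb, ← map_pow, show (⟨c, mem_cent.2 hce⟩ : Y) ^ 5 = 1 from Subtype.ext hc5, map_one]
  have hcb1 : cb ≠ 1 := fun h1 => hcnot ((hq1 _).1 h1)
  have h5 : 5 ∣ Nat.card (Y ⧸ N) := orderOf_eq_prime hcb5 hcb1 ▸ orderOf_dvd_natCard cb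
  have hCS : ∀ a ∈ (S : Subgroup (Y ⧸ N)), a ≠ 1 → centralizer ({a} : Set (Y ⧸ N)) = S := by
    rw [hSU]; exact hCU
  have hnc : ¬ HasNormalPComplement 2 (Y ⧸ N) := by
    rintro ⟨R, M, hM, hMR⟩
    obtain ⟨a, ha, ha1⟩ := hne
    obtain ⟨b, hb, hb1, hba⟩ : ∃ b ∈ Ub, b ≠ 1 ∧ b ≠ a := by
      by_contra hno
      push Not at hno
      have hs : (Ub : Set (Y ⧸ N)) ⊆ {1, a} := fun b hb => by
        by_cases h1 : b = 1
        · exact Or.inl h1
        · exact Or.inr (hno b hb h1)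
      have := (Set.ncard_le_ncard hs (Set.toFinite _)).trans (Set.ncard_insert_le _ _)
      rw [← Nat.card_coe_set_eq, Set.ncard_singleton] at this
      change Nat.card Ub ≤ 2 at this
      omega
    have hp4 : ∀ w ∈ Ub, w ≠ 1 → IsPGroup 2 ↥(centralizer ({w} : Set (Y ⧸ N))) := fun w hw hw1 => by
      rw [hCU w hw hw1]; exact hp
    have hab1 : a * b ≠ 1 := fun h1 => hba
      ((eq_inv_of_mul_eq_one_right h1).trans (inv_eq_of_mul_eq_one_left (hUsq a ha)))
    have hbot : oddCore (Y ⧸ N) = ⊥ := CfsgLib.LocalEvenB.DEight.oddCore_eq_bot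
      (ord_two (hUsq a ha) ha1) (ord_two (hUsq b hb) hb1)
      ((mem_cent.1 ((hCU b hb hb1).ge ha))) (Ne.symm hba) (hp4 a ha ha1) (hp4 b hb hb1)
      (hp4 _ (mul_mem ha hb) hab1)
    have hodd : Odd (Nat.card M) := by
      have := R.card_coprime_index
      rw [hMR.index_eq_card] at this
      rw [Sylow.card_eq_multiplicity R, ← Sylow.card_eq_multiplicity S,
        show Nat.card ↥(S : Subgroup (Y ⧸ N)) = 4 from hK.card_four] at this
      exact Nat.coprime_two_left.1 (Nat.Coprime.coprime_dvd_left (by norm_num) this)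
    have hM1 := CfsgLib.ZStar.le_oddCore hM hodd
    rw [hbot, le_bot_iff] at hM1
    have hidx := hMR.symm.index_eq_card
    rw [hM1, index_bot, Sylow.card_eq_multiplicity R, ← Sylow.card_eq_multiplicity S,
      show Nat.card ↥(S : Subgroup (Y ⧸ N)) = 4 from hK.card_four] at hidx
    rw [hidx] at h5
    norm_num at h5
  obtain ⟨hshape, -⟩ := CfsgLib.LocalEvenB.DEight.four_core S hK hCS hnc
  rcases hshape with ⟨-, h12⟩ | ⟨⟨ψ⟩⟩
  · rw [h12] at h5; norm_num at h5
  refine ⟨?_, ψ.toMonoidHom.comp q, ψ.surjective.comp (QuotientGroup.mk'_surjective N), fun y => ?_⟩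
  · have hN5 : Nat.card N = 5 := by
      rw [hN, Nat.card_congr (subgroupOfEquivOfLe (zpowers_le.2 (mem_cent.2 rfl))).toEquiv,
        Nat.card_zpowers, orderOf_eq_prime he5 he1]
    rw [card_eq_card_quotient_mul_card_subgroup N, hN5, Nat.card_congr ψ.toEquiv, AltFive.card_eq]
  · show ψ (q y) = 1 ↔ _
    rw [MulEquiv.map_eq_one_iff, hq1]

theorem Hyp.exists_eData (h : Hyp z Q) :
    ∃ (c x k z' e : G) (O U B : Subgroup G), EData z c x k z' e O U B := by
  classical
  haveI : Fact (Nat.Prime 5) := ⟨by norm_num⟩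
  haveI : Fact (Nat.Prime 3) := ⟨by norm_num⟩
  obtain ⟨c, x, O, fd, hfix⟩ := h.exists_oriented
  set Ox := O ⊓ centralizer ({x} : Set G) with hOx
  haveI : IsCyclic Ox := isCyclic_of_prime_card hfix
  obtain ⟨⟨e, heOx⟩, he⟩ := exists_prime_orderOf_dvd_card' (G := Ox) 5 (dvd_of_eq hfix.symm)
  rw [Subgroup.orderOf_mk] at he
  have he5 : e ^ 5 = 1 := by rw [← he]; exact pow_orderOf_eq_one e
  have he1 : e ≠ 1 := fun e1 => by rw [e1, orderOf_one] at he; norm_num at he
  obtain ⟨heO, hex⟩ := mem_inf.1 heOx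
  have hze : z * e * z⁻¹ = e⁻¹ := by
    refine fd.z_inverts h.loc.zz heO (mem_cent.1 hex) fun p hp hpx => ?_
    exact congrArg Subtype.val (IsMulCommutative.is_comm.comm (⟨e, heOx⟩ : Ox) ⟨p, mem_inf.2 ⟨hp, mem_cent.2 hpx⟩⟩)
  have hx1 : x ≠ 1 := fun e => fd.c1 (eq_one_of_pow_odd_two (k := 1) (by
    have := fd.inv
    rw [e, one_mul, inv_one, mul_one] at this
    rw [pow_one, sq]
    nth_rewrite 1 [this]
    exact inv_mul_cancel c) (by decide) fd.c5)
  obtain ⟨z', k, U, B, hz', D⟩ := h.exists_cdata (ord_two fd.xx hx1) fd.nxz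
  have heB : e ∈ B := D.mem_B_of_odd hex (by decide) he5
  have hcnot : c ∉ zpowers e := fun hmem => by
    obtain ⟨j, hj⟩ := mem_zpowers_iff.1 hmem
    have h1 : x * c * x⁻¹ = c := by
      rw [← hj, ← conj_zpow, ← mem_cent.1 hex, mul_inv_cancel_right]
    rw [fd.inv] at h1
    exact fd.c1 (sq_eq_one_of_five fd.c5 (mem_zpowers c) (by nth_rewrite 1 [← h1]; exact inv_mul_cancel c))
  obtain ⟨hcardE, hquot⟩ := D.quot_five he5 he1 heB fd.c5 (fd.comm_c heO).symm hcnot
  refine ⟨c, x, k, z', e, O, U, B, fd, D, hz', ?_, he5, he1, heO, heB, hze,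
    fun a ha => D.dp.2.2.1 a ha e heB, hcardE, hquot⟩
  have h25 := h.five_sq_dvd fd
  rcases h.fixed_card (fd.swap h.loc.zz) with hb | hb
  · -- the fixed points of `z * x`
    have h75 : Nat.card O ∣ 75 := by
      refine fd.bound.trans ?_
      rw [← hOx, hfix]
      exact mul_dvd_mul_left 25 hb
    obtain ⟨m, hm⟩ := h25
    rw [hm] at h75 ⊢
    have hm3 : m ∣ 3 := Nat.dvd_of_mul_dvd_mul_left (by norm_num) (show 25 * m ∣ 25 * 3 from h75)
    rcases (Nat.dvd_prime (by norm_num : Nat.Prime 3)).1 hm3 with rfl | rfl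
    · rfl
    exfalso
    have hb3 : Nat.card ↥(O ⊓ centralizer ({z * x} : Set G) : Subgroup G) = 3 := by
      rcases (Nat.dvd_prime (by norm_num : Nat.Prime 3)).1 hb with e1 | e1
      · exfalso
        have := fd.bound
        rw [hm, ← hOx, hfix, e1] at this
        norm_num at this
      · exact e1
    haveI : IsCyclic ↥(O ⊓ centralizer ({z * x} : Set G) : Subgroup G) := isCyclic_of_prime_card hb3
    obtain ⟨⟨d, hdm⟩, hd⟩ := exists_prime_orderOf_dvd_card'
      (G := ↥(O ⊓ centralizer ({z * x} : Set G) : Subgroup G)) 3 (dvd_of_eq hb3.symm)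
    rw [Subgroup.orderOf_mk] at hd
    have hd3 : d ^ 3 = 1 := by rw [← hd]; exact pow_orderOf_eq_one d
    obtain ⟨hdO, hdx⟩ := mem_inf.1 hdm
    set N : Subgroup O := (zpowers c).subgroupOf O with hN
    haveI : N.Normal := ⟨fun n hn g => by
      refine mem_subgroupOf.2 ?_
      obtain ⟨j, hj⟩ := mem_zpowers_iff.1 (mem_subgroupOf.1 hn)
      show (g : G) * (n : G) * (g : G)⁻¹ ∈ zpowers c
      rw [← hj, ((show Commute (g : G) c from fd.comm_c g.2).zpow_right j).eq, mul_inv_cancel_right]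
      exact zpow_mem (mem_zpowers c) j⟩
    set q := QuotientGroup.mk' N
    have hq15 : Nat.card (O ⧸ N) = 15 := by
      have h1 := card_eq_card_quotient_mul_card_subgroup N
      rw [show Nat.card N = 5 by
        rw [hN, Nat.card_congr (subgroupOfEquivOfLe (zpowers_le.2 fd.cO)).toEquiv, Nat.card_zpowers,
          orderOf_eq_prime fd.c5 fd.c1], hm] at h1
      omega
    set eb := q ⟨e, heO⟩ with heb
    have heb5 : eb ^ 5 = 1 := by
      rw [heb, ← map_pow, show (⟨e, heO⟩ : O) ^ 5 = 1 from Subtype.ext he5, map_one]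
    have heb1 : eb ≠ 1 := fun h1 => by
      have hm1 : e ∈ zpowers c := mem_subgroupOf.1 ((QuotientGroup.eq_one_iff _).1 h1)
      obtain ⟨j, hj⟩ := mem_zpowers_iff.1 hm1
      have h1 : z * e * z⁻¹ = e := by
        rw [← hj, ((show Commute z c from fd.cz.symm).zpow_right j).eq, mul_inv_cancel_right]
      rw [hze] at h1
      exact he1 (sq_eq_one_of_five he5 (mem_zpowers e) (by nth_rewrite 1 [← h1]; exact inv_mul_cancel e))
    haveI : (zpowers eb).Normal := by
      refine Subgroup.normal_of_index_eq_minFac_card ?_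
      have := (zpowers eb).card_mul_index
      rw [Nat.card_zpowers, orderOf_eq_prime heb5 heb1, hq15] at this
      rw [hq15, show Nat.minFac 15 = 3 by norm_num]
      omega
    have hcomm := comm_of_three_five (d := q ⟨d, hdO⟩)
      (by rw [← map_pow, show (⟨d, hdO⟩ : O) ^ 3 = 1 from Subtype.ext hd3, map_one]) heb5
      (Subgroup.Normal.conj_mem ‹_› eb (mem_zpowers eb) _)
    obtain ⟨w, hw⟩ : ∃ w : G, w = (e : G)⁻¹ * (d * e * d⁻¹) := ⟨_, rfl⟩
    have hwc : w ∈ zpowers c := by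
      have : q (⟨e, heO⟩⁻¹ * (⟨d, hdO⟩ * ⟨e, heO⟩ * ⟨d, hdO⟩⁻¹)) = 1 := by
        rw [map_mul, map_mul, map_mul, map_inv, map_inv, hcomm, mul_inv_cancel_right, inv_mul_cancel]
      rw [hw]
      exact mem_subgroupOf.1 ((QuotientGroup.eq_one_iff _).1 this)
    have hwd : d * w = w * d := by
      obtain ⟨j, hj⟩ := mem_zpowers_iff.1 hwc
      rw [← hj]; exact ((show Commute d c from fd.comm_c hdO).zpow_right j).eq
    have hde : d * e * d⁻¹ = e * w := by rw [hw]; group
    have h3 : d * (d * (d * e * d⁻¹) * d⁻¹) * d⁻¹ = e * w * w * w := by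
      have hc' : d * w * d⁻¹ = w := by rw [hwd, mul_inv_cancel_right]
      have step : ∀ y, d * (y * w) * d⁻¹ = d * y * d⁻¹ * w := fun y => by
        rw [show d * (y * w) * d⁻¹ = d * y * d⁻¹ * (d * w * d⁻¹) by group, hc']
      rw [hde, step, hde, step, step, hde]
    rw [show d * (d * (d * e * d⁻¹) * d⁻¹) * d⁻¹ = (d * d * d) * e * (d * d * d)⁻¹ by group,
      ← pow_three', hd3, one_mul, inv_one, mul_one] at h3
    have hw3 : w ^ 3 = 1 := by
      have h4 : w * w * w = 1 := mul_left_cancel (a := e) (by rw [mul_one, ← mul_assoc, ← mul_assoc, ← h3])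
      rw [pow_three', h4]
    have hw5 : w ^ 5 = 1 := by
      obtain ⟨j, hj⟩ := mem_zpowers_iff.1 hwc
      rw [← hj, ← zpow_natCast, ← zpow_mul, mul_comm, zpow_mul, zpow_natCast, fd.c5, one_zpow]
    have hw1 : w = 1 := by
      calc w = (w ^ 3) ^ 2 * (w ^ 5)⁻¹ := by group
        _ = 1 := by rw [hw3, hw5]; simp
    rw [hw1, mul_one] at hde
    -- `d` and `c` have commuting images in the alternating group
    obtain ⟨π, -, hker⟩ := hquot
    have hdY : d ∈ centralizer ({e} : Set G) := mem_cent.2 (mul_inv_eq_iff_eq_mul.1 hde)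
    have hcY : c ∈ centralizer ({e} : Set G) := mem_cent.2 (fd.comm_c heO).symm
    have hπd : π ⟨d, hdY⟩ ≠ 1 := fun h1 => by
      obtain ⟨j, hj⟩ := mem_zpowers_iff.1 ((hker _).1 h1)
      have h5' : d ^ 5 = 1 := by
        rw [show d = e ^ j from hj.symm, ← zpow_natCast, ← zpow_mul, mul_comm, zpow_mul, zpow_natCast,
          he5, one_zpow]
      have := Nat.dvd_gcd (orderOf_dvd_of_pow_eq_one hd3) (orderOf_dvd_of_pow_eq_one h5')
      rw [hd] at this
      norm_num at this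
    have hπc : π ⟨c, hcY⟩ ^ 3 = 1 := five_three_centralizer _ _
      (by rw [← map_pow, show (⟨d, hdY⟩ : centralizer ({e} : Set G)) ^ 3 = 1 from Subtype.ext hd3, map_one])
      hπd (by rw [← map_mul, ← map_mul]; exact congrArg π (Subtype.ext (fd.comm_c hdO).symm))
    rw [← map_pow, hker] at hπc
    apply hcnot
    have : c ^ 3 ∈ zpowers e := hπc
    have h6 := pow_mem this 2
    rwa [← pow_mul, show c ^ (3 * 2) = c ^ 5 * c by group, fd.c5, one_mul] at h6
  · -- both fix five points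
    have hd : Nat.card O ∣ 125 := by
      refine fd.bound.trans ?_
      rw [← hOx, hfix, hb]
    have hG : Nat.card O ∣ 604800 := h.card_group ▸ card_subgroup_dvd_card O
    have h25' : Nat.card O ∣ 25 := (Nat.dvd_gcd hd hG).trans (by norm_num)
    exact Nat.dvd_antisymm h25' h25

end CfsgLib.Recog.HJType
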