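import Cfsg.Agent.Lib.Recog.JankoTwoType.EType

/-!
Owner: helper29. Groups of Hall–Janko type: the Sylow subgroup for the prime five.
-/

set_option autoImplicit false
set_option linter.all false

namespace CfsgLib.Recog.HJType

open Subgroup Cfsg CfsgLib.Recog

local notation "A5" => alternatingGroup (Fin 5)

theorem five_normalizer_card (a : A5) (ha : a ^ 5 = 1) (ha1 : a ≠ 1) :
    Nat.card ↥(normalizer (zpowers a : Set A5)) = 10 := by
  rw [← five_five_normalizer a ha ha1]
  refine Nat.card_congr (Equiv.subtypeEquivRight fun h => ?_)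
  constructor
  · intro hh
    by_contra hn
    push Not at hn
    have h2 := five_five_auto a h ha hn.1 hn.2
    obtain ⟨j, hj⟩ := mem_zpowers_iff.1 ((mem_normalizer_iff.1 hh a).1 (mem_zpowers a))
    haveI : Fact (Nat.Prime 5) := ⟨by norm_num⟩
    rw [← zpow_mod_orderOf, orderOf_eq_prime ha ha1] at hj
    have h01 : j % 5 = 0 ∨ j % 5 = 1 ∨ j % 5 = 2 ∨ j % 5 = 3 ∨ j % 5 = 4 := by omega
    change a ^ (j % 5) = h * a * h⁻¹ at hj
    rcases h01 with e | e | e | e | e <;> rw [e] at hj
    · rw [zpow_zero] at hj; exact ha1 (conj_eq_one_iff.1 hj.symm)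
    · rw [zpow_one] at hj; exact hn.1 hj.symm
    · exact h2.1 hj.symm
    · exact h2.2 hj.symm
    · refine hn.2 ?_
      rw [← hj, show (4 : ℤ) = -1 + 5 by norm_num, zpow_add, zpow_neg_one, zpow_ofNat, ha, mul_one]
  · intro hh
    refine Subgroup.mem_normalizer_fintype fun y hy => ?_
    obtain ⟨j, rfl⟩ := mem_zpowers_iff.1 hy
    show h * a ^ j * h⁻¹ ∈ zpowers a
    rw [← conj_zpow]
    rcases hh with e | e <;> rw [e]
    exacts [zpow_mem (mem_zpowers a) j, zpow_mem (Subgroup.inv_mem _ (mem_zpowers a)) j]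

variable {G : Type*} [Group G] [Finite G]

theorem Hyp.card_sylow_five {z : G} {Q : Subgroup G} (h : Hyp z Q) (P : Sylow 5 G) :
    Nat.card (P : Subgroup G) = 25 := by
  haveI : Fact (Nat.Prime 5) := ⟨by norm_num⟩
  rw [Sylow.card_eq_multiplicity P, h.card_group, show (604800 : ℕ) = 5 ^ 2 * 24192 by norm_num,
    Nat.factorization_mul (by norm_num) (by norm_num), Finsupp.add_apply,
    Nat.Prime.factorization_pow (by norm_num), Finsupp.single_eq_same,
    Nat.factorization_eq_zero_of_not_dvd (by norm_num : ¬ (5 ∣ 24192))]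
  norm_num

/-- The lines of a group of order twenty-five are at most six. -/
theorem card_lines_le {O : Subgroup G} (hO : Nat.card O = 25) :
    Nat.card {L : Subgroup G // L ≤ O ∧ Nat.card L = 5} ≤ 6 := by
  classical
  haveI : Fact (Nat.Prime 5) := ⟨by norm_num⟩
  set T := {L : Subgroup G // L ≤ O ∧ Nat.card L = 5}
  haveI := Fintype.ofFinite T
  let f : (Σ L : T, {w : G // w ∈ L.1 ∧ w ≠ 1}) → {w : G // w ∈ O ∧ w ≠ 1} :=
    fun p => ⟨p.2.1, p.1.2.1 p.2.2.1, p.2.2.2⟩
  have hspan : ∀ (L : T) (w : G), w ∈ L.1 → w ≠ 1 → zpowers w = L.1 := by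
    intro L w hw hw1
    have hd := Subgroup.orderOf_dvd_natCard L.1 hw
    rw [L.2.2] at hd
    refine Subgroup.eq_of_le_of_card_ge (zpowers_le.2 hw) ?_
    rw [L.2.2, Nat.card_zpowers]
    rcases (Nat.dvd_prime (by norm_num : Nat.Prime 5)).1 hd with e | e
    · exact absurd (orderOf_eq_one_iff.1 e) hw1
    · rw [e]
  have hf : Function.Injective f := by
    rintro ⟨L, w, hw, hw1⟩ ⟨L', w', hw', hw1'⟩ e
    have e' : w = w' := congrArg Subtype.val e
    subst e'
    obtain rfl : L = L' := Subtype.ext ((hspan L w hw hw1).symm.trans (hspan L' w hw' hw1'))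
    rfl
  have hcard : ∀ H : Subgroup G, Nat.card {w : G // w ∈ H ∧ w ≠ 1} = Nat.card H - 1 := by
    intro H
    have e1 : Nat.card {w : G // w ∈ H ∧ w ≠ 1} = ((H : Set G) \ {1}).ncard := by
      rw [← Nat.card_coe_set_eq]; rfl
    rw [e1, Set.ncard_sdiff (by simp), Set.ncard_singleton, ← Nat.card_coe_set_eq]
    rfl
  have h := Nat.card_le_card_of_injective f hf
  rw [hcard O, hO, Nat.card_sigma, Finset.sum_const_nat (m := 4) fun L _ => by rw [hcard L.1, L.2.2],
    Finset.card_univ, ← Nat.card_eq_fintype_card] at h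
  omega

/-- The orbit of a line under a group normalizing `O`. -/
theorem exists_orbit {O L : Subgroup G} (hL : L ≤ O) (hL5 : Nat.card L = 5) :
    ∃ f : ↥(normalizer (O : Set G)) ⧸ (normalizer (L : Set G)).subgroupOf (normalizer (O : Set G)) →
      {L : Subgroup G // L ≤ O ∧ Nat.card L = 5}, Function.Injective f ∧
      ∀ q, ∃ g : G, (f q).1 = L.map (MulAut.conj g).toMonoidHom := by
  classical
  set N := normalizer (O : Set G) with hN
  have key : ∀ n m : N, L.map (MulAut.conj (n : G)).toMonoidHom = L.map (MulAut.conj (m : G)).toMonoidHom ↔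
      n⁻¹ * m ∈ (normalizer (L : Set G)).subgroupOf N := by
    intro n m
    rw [mem_subgroupOf, Subgroup.coe_mul, Subgroup.coe_inv]
    constructor
    · intro e
      refine Subgroup.mem_normalizer_fintype fun y hy => ?_
      have : (m : G) * y * (m : G)⁻¹ ∈ L.map (MulAut.conj (m : G)).toMonoidHom := ⟨y, hy, rfl⟩
      rw [← e] at this
      obtain ⟨w, hw, he⟩ := this
      have he' : (n : G) * w * (n : G)⁻¹ = (m : G) * y * (m : G)⁻¹ := he
      show (n : G)⁻¹ * m * y * ((n : G)⁻¹ * m)⁻¹ ∈ L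
      rw [show (n : G)⁻¹ * m * y * ((n : G)⁻¹ * m)⁻¹ = (n : G)⁻¹ * ((m : G) * y * (m : G)⁻¹) * n by group,
        ← he', show (n : G)⁻¹ * ((n : G) * w * (n : G)⁻¹) * n = w by group]
      exact hw
    · intro h
      refine (Subgroup.eq_of_le_of_card_ge ?_ (le_of_eq ?_)).symm
      · rintro _ ⟨y, hy, rfl⟩
        refine ⟨(n : G)⁻¹ * m * y * ((n : G)⁻¹ * m)⁻¹, (mem_normalizer_iff.1 h y).1 hy, ?_⟩
        show (n : G) * ((n : G)⁻¹ * m * y * ((n : G)⁻¹ * m)⁻¹) * (n : G)⁻¹ = (m : G) * y * (m : G)⁻¹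
        group
      · rw [card_map_of_injective (MulAut.conj (n : G)).injective,
          card_map_of_injective (MulAut.conj (m : G)).injective]
  let f : N ⧸ (normalizer (L : Set G)).subgroupOf N → {L : Subgroup G // L ≤ O ∧ Nat.card L = 5} :=
    Quotient.lift (fun n : N => ⟨L.map (MulAut.conj (n : G)).toMonoidHom, by
      rintro _ ⟨y, hy, rfl⟩
      exact (mem_normalizer_iff.1 n.2 y).1 (hL hy),
      by rw [card_map_of_injective (MulAut.conj (n : G)).injective, hL5]⟩)
      (fun n m h => Subtype.ext ((key n m).2 (QuotientGroup.leftRel_apply.1 h)))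
  refine ⟨f, ?_, ?_⟩
  · intro a b e
    induction a using QuotientGroup.induction_on with
    | H n => induction b using QuotientGroup.induction_on with
      | H m => exact QuotientGroup.eq.2 ((key n m).1 (congrArg Subtype.val e))
  · intro q
    induction q using QuotientGroup.induction_on with
    | H n => exact ⟨n, rfl⟩

namespace EData

variable {z c x k z' e : G} {O U B : Subgroup G} (E : EData z c x k z' e O U B)
include E

theorem comm_O {a b : G} (ha : a ∈ O) (hb : b ∈ O) : a * b = b * a := by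
  haveI : Fact (Nat.Prime 5) := ⟨by norm_num⟩
  haveI := IsPGroup.isMulCommutative_of_card_eq_prime_sq (p := 5) (G := O) (by rw [E.cardO]; norm_num)
  exact congrArg Subtype.val (IsMulCommutative.is_comm.comm (⟨a, ha⟩ : O) ⟨b, hb⟩)

theorem e_not_c : e ∉ zpowers c := fun hmem => by
  obtain ⟨j, hj⟩ := mem_zpowers_iff.1 hmem
  have h1 : z * e * z⁻¹ = e := by
    rw [← hj, ((show Commute z c from E.fd.cz.symm).zpow_right j).eq, mul_inv_cancel_right]
  rw [E.ze] at h1
  exact E.e1 (sq_eq_one_of_five E.e5 (mem_zpowers e) (by nth_rewrite 1 [← h1]; exact inv_mul_cancel e))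

theorem cardC : Nat.card ↥(centralizer ({c} : Set G)) = 50 := by rw [E.fd.cardY, E.cardO]

theorem cent_O : centralizer (O : Set G) = O := by
  haveI : Fact (Nat.Prime 5) := ⟨by norm_num⟩
  refine le_antisymm ?_ fun a ha => mem_centralizer_iff.2 fun b hb => E.comm_O hb ha
  have hle : O ≤ centralizer (O : Set G) := fun a ha => mem_centralizer_iff.2 fun b hb => E.comm_O hb ha
  have hle2 : centralizer (O : Set G) ≤ centralizer ({c} : Set G) :=
    centralizer_le (Set.singleton_subset_iff.2 E.fd.cO)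
  by_contra hne
  have h50 := card_dvd_of_le hle2
  rw [E.cardC] at h50
  have h25 := card_dvd_of_le hle
  rw [E.cardO] at h25
  have hlt : 25 < Nat.card ↥(centralizer (O : Set G)) := by
    rw [← E.cardO]
    rcases (card_le_of_le hle).lt_or_eq with h | h
    · exact h
    · exact absurd (Subgroup.eq_of_le_of_card_ge hle h.ge).ge hne
  have heq : centralizer (O : Set G) = centralizer ({c} : Set G) := by
    refine Subgroup.eq_of_le_of_card_ge hle2 ?_
    rw [E.cardC]
    obtain ⟨m, hm⟩ := h25
    have := Nat.le_of_dvd (by norm_num) h50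
    omega
  have hz : z ∈ centralizer (O : Set G) := heq ▸ mem_cent.2 E.fd.cz.symm
  have h1 : z * e * z⁻¹ = e := by rw [← mem_centralizer_iff.1 hz e E.eO, mul_inv_cancel_right]
  rw [E.ze] at h1
  exact E.e1 (sq_eq_one_of_five E.e5 (mem_zpowers e) (by nth_rewrite 1 [← h1]; exact inv_mul_cancel e))

theorem card_e : Nat.card ↥(zpowers e) = 5 := by
  haveI : Fact (Nat.Prime 5) := ⟨by norm_num⟩
  rw [Nat.card_zpowers, orderOf_eq_prime E.e5 E.e1]

theorem card_c : Nat.card ↥(zpowers c) = 5 := by
  haveI : Fact (Nat.Prime 5) := ⟨by norm_num⟩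
  rw [Nat.card_zpowers, orderOf_eq_prime E.fd.c5 E.fd.c1]

theorem not_conj_lines (g : G) : (zpowers c).map (MulAut.conj g).toMonoidHom ≠ zpowers e := by
  intro h
  have hmap : (centralizer ((zpowers c : Subgroup G) : Set G)).map (MulAut.conj g).toMonoidHom =
      centralizer ((zpowers e : Subgroup G) : Set G) := by
    rw [← h]
    ext a
    constructor
    · rintro ⟨b, hb, rfl⟩
      refine mem_centralizer_iff.2 ?_
      rintro _ ⟨y, hy, rfl⟩
      show g * y * g⁻¹ * (g * b * g⁻¹) = g * b * g⁻¹ * (g * y * g⁻¹)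
      calc g * y * g⁻¹ * (g * b * g⁻¹) = g * (y * b) * g⁻¹ := by group
        _ = g * (b * y) * g⁻¹ := by rw [mem_centralizer_iff.1 hb y hy]
        _ = _ := by group
    · intro ha
      refine ⟨g⁻¹ * a * g, mem_centralizer_iff.2 fun y hy => ?_, by simp [mul_assoc]⟩
      have h1 : g * y * g⁻¹ * a = a * (g * y * g⁻¹) := mem_centralizer_iff.1 ha _ ⟨y, hy, rfl⟩
      calc y * (g⁻¹ * a * g) = g⁻¹ * (g * y * g⁻¹ * a) * g := by group
        _ = g⁻¹ * (a * (g * y * g⁻¹)) * g := by rw [h1]
        _ = _ := by group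
  have hz : ∀ w : G, centralizer ((zpowers w : Subgroup G) : Set G) = centralizer ({w} : Set G) := fun w => by
    rw [zpowers_eq_closure, centralizer_closure]
  have := congrArg (fun H : Subgroup G => Nat.card H) hmap
  rw [card_map_of_injective (MulAut.conj g).injective, hz, hz, E.cardC, E.cardE] at this
  norm_num at this

theorem norm_c_le : normalizer (zpowers c : Set G) ≤ normalizer (O : Set G) := E.fd.normO

theorem inf_norm_e : Nat.card ↥(normalizer (O : Set G) ⊓ normalizer (zpowers e : Set G) : Subgroup G) ∣ 200 := by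
  classical
  haveI : Fact (Nat.Prime 5) := ⟨by norm_num⟩
  set H := normalizer (O : Set G) ⊓ normalizer (zpowers e : Set G) with hH
  let φ : H →* MulAut (zpowers e) := (normalizerMonoidHom (zpowers e)).comp (Subgroup.inclusion inf_le_right)
  have hr : Nat.card φ.range ∣ 4 := by
    haveI : IsCyclic (zpowers e) := inferInstance
    refine (Subgroup.card_subgroup_dvd_card φ.range).trans (dvd_of_eq ?_)
    rw [IsCyclic.card_mulAut, E.card_e]
    decide
  obtain ⟨π, hπ, hker⟩ := E.quotE
  have hk : ∀ a : φ.ker, ((a : H) : G) ∈ (centralizer ({e} : Set G)) := fun a => by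
    have h1 : Subgroup.inclusion inf_le_right (a : H) ∈ (normalizerMonoidHom (zpowers e)).ker := a.2
    rw [normalizerMonoidHom_ker, mem_subgroupOf] at h1
    exact mem_cent.2 (mem_centralizer_iff.1 h1 e (mem_zpowers e)).symm
  let ψ : φ.ker →* A5 := π.comp
    { toFun := fun a => ⟨((a : H) : G), hk a⟩, map_one' := rfl, map_mul' := fun _ _ => rfl }
  have hcY : c ∈ (centralizer ({e} : Set G)) := mem_cent.2 (E.fd.comm_c E.eO).symm
  set cb := π ⟨c, hcY⟩ with hcb
  have hcb5 : cb ^ 5 = 1 := by
    rw [hcb, ← map_pow, show (⟨c, hcY⟩ : (centralizer ({e} : Set G))) ^ 5 = 1 from Subtype.ext E.fd.c5, map_one]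
  have hcnot : c ∉ zpowers e := fun hm => E.e_not_c (by
    have : zpowers c = zpowers e := Subgroup.eq_of_le_of_card_ge (zpowers_le.2 hm) (by rw [E.card_c, E.card_e])
    rw [this]; exact mem_zpowers e)
  have hcb1 : cb ≠ 1 := fun h1 => hcnot ((hker ⟨c, hcY⟩).1 h1)
  have hψr : Nat.card ψ.range ∣ 10 := by
    rw [← five_normalizer_card cb hcb5 hcb1]
    refine card_dvd_of_le ?_
    rintro _ ⟨a, rfl⟩
    have hOY : O ≤ (centralizer ({e} : Set G)) := fun w hw => mem_cent.2 (E.comm_O hw E.eO)
    let r : O →* A5 := π.comp (Subgroup.inclusion hOY)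
    have hrange : r.range = zpowers cb := by
      have hcr : zpowers cb ≤ r.range :=
        zpowers_le.2 (MonoidHom.mem_range.2 ⟨⟨c, E.fd.cO⟩, rfl⟩)
      refine (Subgroup.eq_of_le_of_card_ge hcr ?_).symm
      have hkr : 5 ≤ Nat.card r.ker := by
        refine E.card_e.ge.trans ?_
        refine Nat.card_le_card_of_injective (fun w : zpowers e =>
          (⟨⟨w.1, zpowers_le.2 E.eO w.2⟩, (hker _).2 w.2⟩ : r.ker)) fun v w h1 => ?_
        exact Subtype.ext (congrArg (fun t : r.ker => ((t : O) : G)) h1)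
      have h25 := r.ker.card_mul_index
      rw [index_ker, E.cardO] at h25
      rw [Nat.card_zpowers, orderOf_eq_prime hcb5 hcb1]
      by_contra hlt
      have := Nat.mul_le_mul hkr (show 6 ≤ Nat.card r.range by omega)
      omega
    refine Subgroup.mem_normalizer_fintype fun y hy => ?_
    change y ∈ zpowers cb at hy
    rw [← hrange] at hy
    obtain ⟨w, rfl⟩ := hy
    show _ ∈ zpowers cb
    rw [← hrange]
    refine ⟨⟨_, (mem_normalizer_iff.1 (mem_inf.1 (a : H).2).1 (w : G)).1 w.2⟩, ?_⟩
    show π _ = π _ * π _ * (π _)⁻¹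
    rw [← map_inv, ← map_mul, ← map_mul]
    rfl
  have hψk : Nat.card ψ.ker ∣ 5 := by
    refine dvd_trans ?_ E.card_e.dvd
    let g : ψ.ker →* zpowers e :=
      { toFun := fun a => ⟨(((a : φ.ker) : H) : G), (hker ⟨_, hk a.1⟩).1 a.2⟩, map_one' := rfl, map_mul' := fun _ _ => rfl }
    exact card_dvd_of_injective g fun a b h1 =>
      Subtype.ext (Subtype.ext (Subtype.ext (congrArg (fun t : zpowers e => (t : G)) h1 :)))
  have h50 : Nat.card φ.ker ∣ 50 := by
    rw [← ψ.ker.card_mul_index, index_ker]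
    exact mul_dvd_mul hψk hψr
  rw [← φ.ker.card_mul_index, index_ker]
  exact mul_dvd_mul h50 hr

end EData

variable {z : G} {Q : Subgroup G}

/-- The structure of the Sylow subgroup for the prime five, with the centralizers of the two lines. -/
theorem Hyp.five_full (h : Hyp z Q) (P : Sylow 5 G) :
    centralizer ((P : Subgroup G) : Set G) = P ∧ Nat.card P = 25 ∧
      Nat.card ↥(normalizer ((P : Subgroup G) : Set G)) = 300 ∧
      ∃ X Y : Subgroup G, Nat.card X = 5 ∧ Nat.card Y = 5 ∧
        (Nat.card ↥(centralizer (X : Set G)) = 50 ∧ Nat.card ↥(centralizer (Y : Set G)) = 300) ∧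
        (∀ g : G, X.map (MulAut.conj g).toMonoidHom ≠ Y) ∧
        ∀ W : Subgroup G, Nat.card W = 5 → ∃ g : G,
          W.map (MulAut.conj g).toMonoidHom = X ∨ W.map (MulAut.conj g).toMonoidHom = Y := by
  classical
  haveI : Fact (Nat.Prime 5) := ⟨by norm_num⟩
  obtain ⟨c, x, k, z', e, O, U, B, E⟩ := h.exists_eData
  obtain ⟨P₀, hP₀⟩ := (IsPGroup.of_card (n := 2) (by rw [E.cardO]; norm_num) : IsPGroup 5 O).exists_le_sylow
  have hP₀O : (P₀ : Subgroup G) = O :=
    (Subgroup.eq_of_le_of_card_ge hP₀ (by rw [E.cardO, h.card_sylow_five])).symm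
  obtain ⟨g, hg⟩ := MulAction.exists_smul_eq G P₀ P
  have hPmap : (P : Subgroup G) = O.map (MulAut.conj g).toMonoidHom := by
    rw [← hg, Sylow.coe_subgroup_smul, ← hP₀O]
    rfl
  -- the normalizer
  have hcO : zpowers c ≤ O := zpowers_le.2 E.fd.cO
  have heO : zpowers e ≤ O := zpowers_le.2 E.eO
  obtain ⟨fc, hfc, hfc'⟩ := exists_orbit hcO E.card_c
  obtain ⟨fe, hfe, hfe'⟩ := exists_orbit heO E.card_e
  have hlines := card_lines_le E.cardO
  have hKc100 : Nat.card ((normalizer (zpowers c : Set G)).subgroupOf (normalizer (O : Set G))) = 100 := by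
    rw [Nat.card_congr (subgroupOfEquivOfLe E.norm_c_le).toEquiv, E.fd.cardN, E.cardO]
  have hN100 := ((normalizer (zpowers c : Set G)).subgroupOf (normalizer (O : Set G))).card_mul_index
  rw [hKc100, index_eq_card] at hN100
  have hk6 : Nat.card ((normalizer (O : Set G)) ⧸ ((normalizer (zpowers c : Set G)).subgroupOf (normalizer (O : Set G)))) ≤ 6 := (Nat.card_le_card_of_injective fc hfc).trans hlines
  have hk0 : 0 < Nat.card ((normalizer (O : Set G)) ⧸ ((normalizer (zpowers c : Set G)).subgroupOf (normalizer (O : Set G)))) := Nat.card_pos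
  have hn5 : Nat.card (Sylow 5 G) ≡ 1 [MOD 5] := card_sylow_modEq_one 5 G
  have hidx := (normalizer (O : Set G)).card_mul_index
  have hS : Nat.card (Sylow 5 G) = (normalizer (O : Set G)).index := by
    rw [P₀.card_eq_index_normalizer, ← hP₀O]
    rfl
  rw [← hS, h.card_group, ← hN100] at hidx
  have hk3 : Nat.card ((normalizer (O : Set G)) ⧸ ((normalizer (zpowers c : Set G)).subgroupOf (normalizer (O : Set G)))) = 3 := by
    unfold Nat.ModEq at hn5
    generalize Nat.card ((normalizer (O : Set G)) ⧸ ((normalizer (zpowers c : Set G)).subgroupOf (normalizer (O : Set G)))) = m at *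
    interval_cases m <;> omega
  have hN300 : Nat.card (normalizer (O : Set G)) = 300 := by rw [← hN100, hk3]
  have hnormP : Nat.card ↥(normalizer ((P : Subgroup G) : Set G)) = 300 := by
    have h1 := (normalizer ((P : Subgroup G) : Set G)).card_mul_index
    rw [show (normalizer ((P : Subgroup G) : Set G)).index = Nat.card (Sylow 5 G) from
      P.card_eq_index_normalizer.symm] at h1
    have h2 := (normalizer (O : Set G)).card_mul_index
    rw [← hS, ← h1] at h2
    rw [← hN300]
    exact (Nat.eq_of_mul_eq_mul_right Nat.card_pos h2).symm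
  -- the other orbit
  have hKe : Nat.card ((normalizer (zpowers e : Set G)).subgroupOf (normalizer (O : Set G))) ∣ 100 := by
    have h1 : Nat.card ((normalizer (zpowers e : Set G)).subgroupOf (normalizer (O : Set G))) ∣ 300 := hN300 ▸ card_subgroup_dvd_card ((normalizer (zpowers e : Set G)).subgroupOf (normalizer (O : Set G)))
    have h2 : Nat.card ((normalizer (zpowers e : Set G)).subgroupOf (normalizer (O : Set G))) ∣ 200 := by
      rw [← inf_subgroupOf_left, Nat.card_congr (subgroupOfEquivOfLe inf_le_left).toEquiv]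
      exact E.inf_norm_e
    exact (Nat.dvd_gcd h1 h2).trans (dvd_of_eq (by norm_num))
  have hke3 : 3 ≤ Nat.card ((normalizer (O : Set G)) ⧸ ((normalizer (zpowers e : Set G)).subgroupOf (normalizer (O : Set G)))) := by
    have h1 := ((normalizer (zpowers e : Set G)).subgroupOf (normalizer (O : Set G))).card_mul_index
    rw [index_eq_card, hN300] at h1
    have := Nat.le_of_dvd (by norm_num) hKe
    by_contra hlt
    have := Nat.mul_le_mul this (show Nat.card ((normalizer (O : Set G)) ⧸ ((normalizer (zpowers e : Set G)).subgroupOf (normalizer (O : Set G)))) ≤ 2 by omega)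
    omega
  have hsurj : Function.Surjective (Sum.elim fc fe) := by
    have hinj : Function.Injective (Sum.elim fc fe) := hfc.sumElim hfe fun a b hab => by
      obtain ⟨g₁, h₁⟩ := hfc' a
      obtain ⟨g₂, h₂⟩ := hfe' b
      refine E.not_conj_lines (g₂⁻¹ * g₁) ?_
      rw [hab, h₂] at h₁
      calc (zpowers c).map (MulAut.conj (g₂⁻¹ * g₁)).toMonoidHom
          = ((zpowers c).map (MulAut.conj g₁).toMonoidHom).map (MulAut.conj g₂⁻¹).toMonoidHom := by
            rw [Subgroup.map_map]; congr 1; ext y; simp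
        _ = ((zpowers e).map (MulAut.conj g₂).toMonoidHom).map (MulAut.conj g₂⁻¹).toMonoidHom := by rw [h₁]
        _ = zpowers e := by
            rw [Subgroup.map_map]
            have : (MulAut.conj g₂⁻¹).toMonoidHom.comp (MulAut.conj g₂).toMonoidHom = MonoidHom.id G := by
              ext y; simp [mul_assoc]
            rw [this, Subgroup.map_id]
    refine ((Nat.bijective_iff_injective_and_card _).2 ⟨hinj, ?_⟩).2
    have hle := Nat.card_le_card_of_injective _ hinj
    rw [Nat.card_sum] at hle ⊢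
    omega
  refine ⟨?_, h.card_sylow_five P, hnormP, zpowers c, zpowers e, E.card_c, E.card_e, ⟨?_, ?_⟩, E.not_conj_lines, ?_⟩
  · rw [hPmap]
    ext a
    constructor
    · intro ha
      refine ⟨g⁻¹ * a * g, ?_, by simp [mul_assoc]⟩
      show g⁻¹ * a * g ∈ O
      rw [← E.cent_O]
      refine mem_centralizer_iff.2 fun y hy => ?_
      have h1 : g * y * g⁻¹ * a = a * (g * y * g⁻¹) := mem_centralizer_iff.1 ha _ ⟨y, hy, rfl⟩
      calc y * (g⁻¹ * a * g) = g⁻¹ * (g * y * g⁻¹ * a) * g := by group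
        _ = g⁻¹ * (a * (g * y * g⁻¹)) * g := by rw [h1]
        _ = _ := by group
    · rintro ⟨b, hb, rfl⟩
      refine mem_centralizer_iff.2 ?_
      rintro _ ⟨y, hy, rfl⟩
      show (MulAut.conj g) y * (MulAut.conj g) b = (MulAut.conj g) b * (MulAut.conj g) y
      rw [← map_mul, ← map_mul, E.comm_O hy hb]
  · rw [zpowers_eq_closure, centralizer_closure]; exact E.cardC
  · rw [zpowers_eq_closure, centralizer_closure]; exact E.cardE
  · intro W hW
    obtain ⟨R, hR⟩ := (IsPGroup.of_card (n := 1) (by rw [hW, pow_one]) : IsPGroup 5 W).exists_le_sylow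
    obtain ⟨g₁, hg₁⟩ := MulAction.exists_smul_eq G R P₀
    have hle : W.map (MulAut.conj g₁).toMonoidHom ≤ O := by
      rw [← hP₀O, ← hg₁, Sylow.coe_subgroup_smul]
      exact map_mono hR
    obtain ⟨q, hq⟩ := hsurj ⟨_, hle, by rw [card_map_of_injective (MulAut.conj g₁).injective, hW]⟩
    have back : ∀ (L : Subgroup G) (g₂ : G),
        W.map (MulAut.conj g₁).toMonoidHom = L.map (MulAut.conj g₂).toMonoidHom →
        W.map (MulAut.conj (g₂⁻¹ * g₁)).toMonoidHom = L := by
      intro L g₂ h1
      have h2 := congrArg (fun H : Subgroup G => H.map (MulAut.conj g₂⁻¹).toMonoidHom) h1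
      simp only [Subgroup.map_map] at h2
      have e1 : (MulAut.conj g₂⁻¹).toMonoidHom.comp (MulAut.conj g₂).toMonoidHom = MonoidHom.id G := by
        ext y; simp [mul_assoc]
      have e2 : (MulAut.conj g₂⁻¹).toMonoidHom.comp (MulAut.conj g₁).toMonoidHom =
          (MulAut.conj (g₂⁻¹ * g₁)).toMonoidHom := by ext y; simp
      rwa [e1, e2, Subgroup.map_id] at h2
    rcases q with q | q
    · obtain ⟨g₂, h₂⟩ := hfc' q
      exact ⟨_, Or.inl (back _ g₂ ((congrArg Subtype.val hq).symm.trans h₂))⟩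
    · obtain ⟨g₂, h₂⟩ := hfe' q
      exact ⟨_, Or.inr (back _ g₂ ((congrArg Subtype.val hq).symm.trans h₂))⟩

/-- The structure of the Sylow subgroup for the prime five. -/
theorem Hyp.five_structure (h : Hyp z Q) (P : Sylow 5 G) :
    centralizer ((P : Subgroup G) : Set G) = P ∧ Nat.card P = 25 ∧
      Nat.card ↥(normalizer ((P : Subgroup G) : Set G)) = 300 ∧
      ∃ X Y : Subgroup G, Nat.card X = 5 ∧ Nat.card Y = 5 ∧
        (∀ g : G, X.map (MulAut.conj g).toMonoidHom ≠ Y) ∧
        ∀ W : Subgroup G, Nat.card W = 5 → ∃ g : G,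
          W.map (MulAut.conj g).toMonoidHom = X ∨ W.map (MulAut.conj g).toMonoidHom = Y := by
  obtain ⟨h1, h2, h3, X, Y, hX, hY, -, h4, h5⟩ := h.five_full P
  exact ⟨h1, h2, h3, X, Y, hX, hY, h4, h5⟩

end CfsgLib.Recog.HJType
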