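import Cfsg.Agent.Lib.Components.FourGroupFixed

/-!
Owner: helper29. A group of odd order acted on by a four-group is no larger than the product of the
three fixed point subgroups.
-/

set_option autoImplicit false
set_option linter.all false

namespace CfsgLib.Recog.HJType

open Subgroup
open scoped commutatorElement Pointwise

variable {G : Type*} [Group G] [Finite G]

theorem four_bound_pgroup {q : ℕ} [Fact q.Prime] {z x : G} (hz : z * z = 1) (hx : x * x = 1)
    (hzx : z * x = x * z) (Q : Subgroup G) (hQ : IsPGroup q Q) (hcop : (Nat.card Q).Coprime 2)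
    (hzQ : z ∈ normalizer (Q : Set G)) (hxQ : x ∈ normalizer (Q : Set G)) :
    Nat.card Q ≤ Nat.card ↥(Q ⊓ centralizer ({z} : Set G) : Subgroup G) *
      Nat.card ↥(Q ⊓ centralizer ({x} : Set G) : Subgroup G) *
      Nat.card ↥(Q ⊓ centralizer ({z * x} : Set G) : Subgroup G) := by
  classical
  induction hn : Nat.card Q using Nat.strong_induction_on generalizing Q with
  | _ n ih =>
    subst hn
    rcases eq_or_ne Q ⊥ with rfl | hne
    · rw [card_bot]
      exact Nat.one_le_iff_ne_zero.2 (Nat.pos_iff_ne_zero.1 (Nat.mul_pos (Nat.mul_pos Nat.card_pos Nat.card_pos) Nat.card_pos))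
    set u := z * x with hu
    have huu : u * u = 1 := by
      calc u * u = z * (x * z) * x := by rw [hu]; group
        _ = z * (z * x) * x := by rw [← hzx]
        _ = (z * z) * (x * x) := by group
        _ = 1 := by rw [hz, hx, one_mul]
    have huQ : u ∈ normalizer (Q : Set G) := mul_mem hzQ hxQ
    haveI := hQ.isNilpotent
    set M := ⁅Q, Q⁆ with hM
    have hMle : M ≤ Q := commutator_le_self Q
    have hlt : M < Q := by
      refine lt_of_le_of_ne hMle fun he => hne ?_
      by_contra hne'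
      haveI : Nontrivial Q := Q.nontrivial_iff_ne_bot.mpr hne'
      haveI : Group.IsPerfect Q := Subgroup.isPerfect_iff.mpr he
      exact Group.IsPerfect.not_isSolvable Q inferInstance
    have hNM : normalizer (Q : Set G) ≤ normalizer (M : Set G) := by
      intro g hg
      refine CfsgLib.Components.mem_normalizer_of_smul_eq_self ?_
      rw [hM, CfsgLib.Components.conj_smul_eq_map, Subgroup.map_commutator,
        ← CfsgLib.Components.conj_smul_eq_map, CfsgLib.Components.smul_eq_self_of_mem_normalizer hg]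
    have hMcop : (Nat.card M).Coprime 2 := hcop.coprime_dvd_left (card_dvd_of_le hMle)
    have hIH := ih _ (Set.ncard_lt_ncard hlt (Set.toFinite _)) M (hQ.to_le hMle) hMcop (hNM hzQ) (hNM hxQ) rfl
    haveI hMn : (M.subgroupOf Q).Normal := normal_subgroupOf_iff_le_normalizer hMle |>.2
      (le_normalizer.trans hNM)
    let π := QuotientGroup.mk' (M.subgroupOf Q)
    have hπ : ∀ a b : Q, π a * π b = π b * π a := fun a b => by
      rw [← map_mul, ← map_mul]
      refine QuotientGroup.eq.2 (mem_subgroupOf.2 ?_)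
      have h := commutator_mem_commutator (inv_mem b.2) (inv_mem a.2)
      show ((a : G) * b)⁻¹ * ((b : G) * a) ∈ M
      rw [show ((a : G) * b)⁻¹ * ((b : G) * a) = ⁅(b : G)⁻¹, (a : G)⁻¹⁆ by
        rw [commutatorElement_def]; group]
      exact h
    have hconj : ∀ {w : G}, w ∈ normalizer (Q : Set G) → ∀ a : Q, w * (a : G) * w⁻¹ ∈ Q :=
      fun hw a => (mem_normalizer_iff.1 hw _).1 a.2
    let φ : ∀ {w : G}, w ∈ normalizer (Q : Set G) → (↥Q →* ↥Q ⧸ M.subgroupOf Q) := fun {w} hw =>
      MonoidHom.mk' (fun a => π a * π ⟨w * a * w⁻¹, hconj hw a⟩) (fun a b => by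
        have e : (⟨w * ((a * b : Q) : G) * w⁻¹, hconj hw (a * b)⟩ : Q) =
            ⟨w * a * w⁻¹, hconj hw a⟩ * ⟨w * b * w⁻¹, hconj hw b⟩ := Subtype.ext (by simp [mul_assoc])
        rw [e, map_mul, map_mul, mul_assoc (π a), ← mul_assoc (π b), hπ b, mul_assoc, ← mul_assoc (π a)])
    let res : ∀ (w : G), (↥((Q ⊓ centralizer ({w} : Set G)).subgroupOf Q) →* ↥Q ⧸ M.subgroupOf Q) :=
      fun w => π.comp (Subgroup.subtype _)
    have hres : ∀ {w : G} (hww : w * w = 1) (hw : w ∈ normalizer (Q : Set G)),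
        (φ hw).range ≤ (res w).range ∧
        Nat.card (res w).range * Nat.card ↥(M ⊓ centralizer ({w} : Set G) : Subgroup G) =
          Nat.card ↥(Q ⊓ centralizer ({w} : Set G) : Subgroup G) := by
      intro w hww hw
      refine ⟨?_, ?_⟩
      · rintro _ ⟨a, rfl⟩
        obtain ⟨m, hm, hc⟩ := CfsgLib.Components.exists_fixed_in_coset (le_refl M) hMcop hww (hNM hw) hw a.2
        have hmem : (a : G) * (w * a * w⁻¹) * m ∈ Q := mul_mem (mul_mem a.2 (hconj hw a)) (hMle hm)
        refine ⟨⟨⟨_, hmem⟩, mem_subgroupOf.2 ⟨hmem, hc⟩⟩, ?_⟩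
        show π (a * ⟨w * a * w⁻¹, hconj hw a⟩ * ⟨m, hMle hm⟩) = π a * π ⟨w * a * w⁻¹, hconj hw a⟩
        rw [map_mul, map_mul, show π ⟨m, hMle hm⟩ = 1 from
          (QuotientGroup.eq_one_iff _).2 (mem_subgroupOf.2 hm), mul_one]
      · have hk : Nat.card (res w).ker = Nat.card ↥(M ⊓ centralizer ({w} : Set G) : Subgroup G) := by
          refine Nat.card_congr
            { toFun := fun a => ⟨((a : ↥((Q ⊓ centralizer ({w} : Set G)).subgroupOf Q)) : Q),
                mem_subgroupOf.1 ((QuotientGroup.eq_one_iff _).1 a.2), (mem_subgroupOf.1 a.1.2).2⟩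
              invFun := fun b => ⟨⟨⟨b, hMle b.2.1⟩, mem_subgroupOf.2 ⟨hMle b.2.1, b.2.2⟩⟩,
                (QuotientGroup.eq_one_iff _).2 (mem_subgroupOf.2 b.2.1)⟩
              left_inv := fun a => rfl
              right_inv := fun b => rfl }
        have := (res w).ker.card_mul_index
        rw [index_ker, hk, Nat.card_congr (subgroupOfEquivOfLe inf_le_left).toEquiv] at this
        rw [← this, mul_comm]
    obtain ⟨r1, c1⟩ := hres hz hzQ
    obtain ⟨r2, c2⟩ := hres hx hxQ
    obtain ⟨r3, c3⟩ := hres huu huQ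
    let Φ := (φ hzQ).prod ((φ hxQ).prod (φ huQ))
    have hker : Φ.ker ≤ M.subgroupOf Q := by
      intro a ha
      rw [MonoidHom.mem_ker] at ha
      have h1 : π a * π ⟨z * a * z⁻¹, hconj hzQ a⟩ = 1 := congrArg Prod.fst ha
      have h2 : π a * π ⟨x * a * x⁻¹, hconj hxQ a⟩ = 1 := congrArg (fun p => p.2.1) ha
      have h3 : π a * π ⟨u * a * u⁻¹, hconj huQ a⟩ = 1 := congrArg (fun p => p.2.2) ha
      -- the conjugate by `u` is the conjugate by `z` of the conjugate by `x`
      set a' : Q := ⟨x * a * x⁻¹, hconj hxQ a⟩ with ha'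
      have hmem : a * a' ∈ M.subgroupOf Q := (QuotientGroup.eq_one_iff _).1 (by rw [← h2]; exact map_mul π a a')
      have h4 : π ⟨z * a * z⁻¹, hconj hzQ a⟩ * π ⟨u * a * u⁻¹, hconj huQ a⟩ = 1 := by
        rw [← map_mul]
        refine (QuotientGroup.eq_one_iff _).2 (mem_subgroupOf.2 ?_)
        show z * (a : G) * z⁻¹ * (u * a * u⁻¹) ∈ M
        rw [show z * (a : G) * z⁻¹ * (u * a * u⁻¹) = z * ((a : G) * (x * a * x⁻¹)) * z⁻¹ by rw [hu]; group]
        exact (mem_normalizer_iff.1 (hNM hzQ) _).1 (mem_subgroupOf.1 hmem)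
      have e1 : π ⟨z * a * z⁻¹, hconj hzQ a⟩ = (π a)⁻¹ := eq_inv_of_mul_eq_one_right h1
      have e3 : π ⟨u * a * u⁻¹, hconj huQ a⟩ = (π a)⁻¹ := eq_inv_of_mul_eq_one_right h3
      rw [e1, e3, ← mul_inv_rev, inv_eq_one] at h4
      have hd1 : orderOf (π a) ∣ 2 := orderOf_dvd_of_pow_eq_one (by rw [pow_two, h4])
      have hd2 : orderOf (π a) ∣ Nat.card Q :=
        (orderOf_map_dvd π a).trans (orderOf_dvd_natCard a)
      exact (QuotientGroup.eq_one_iff _).1
        (orderOf_eq_one_iff.1 (Nat.eq_one_of_dvd_coprimes hcop hd2 hd1))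
    have hrange : Φ.range ≤ (res z).range.prod ((res x).range.prod (res u).range) := by
      rintro _ ⟨a, rfl⟩
      exact ⟨r1 ⟨a, rfl⟩, r2 ⟨a, rfl⟩, r3 ⟨a, rfl⟩⟩
    have hprod : ∀ {A B : Type _} [Group A] [Group B] (S : Subgroup A) (T : Subgroup B),
        Nat.card ↥(S.prod T) = Nat.card S * Nat.card T := fun S T => by
      rw [Nat.card_congr (Subgroup.prodEquiv S T).toEquiv, Nat.card_prod]
    have hle := card_le_of_le hrange
    rw [hprod, hprod] at hle
    have hkle : Nat.card Φ.ker ≤ Nat.card M := by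
      rw [← Nat.card_congr (subgroupOfEquivOfLe hMle).toEquiv]; exact card_le_of_le hker
    calc Nat.card Q = Nat.card Φ.ker * Nat.card Φ.range := by rw [← index_ker, Φ.ker.card_mul_index]
      _ ≤ (Nat.card ↥(M ⊓ centralizer ({z} : Set G) : Subgroup G) *
            Nat.card ↥(M ⊓ centralizer ({x} : Set G) : Subgroup G) *
            Nat.card ↥(M ⊓ centralizer ({u} : Set G) : Subgroup G)) *
          (Nat.card (res z).range * (Nat.card (res x).range * Nat.card (res u).range)) :=
        Nat.mul_le_mul (hkle.trans hIH) hle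
      _ = _ := by rw [← c1, ← c2, ← c3]; ring

theorem four_bound {z x : G} (hz : z * z = 1) (hx : x * x = 1) (hzx : z * x = x * z) (W : Subgroup G)
    (hW : (Nat.card W).Coprime 2) (hzW : z ∈ normalizer (W : Set G)) (hxW : x ∈ normalizer (W : Set G)) :
    Nat.card W ∣ Nat.card ↥(W ⊓ centralizer ({z} : Set G) : Subgroup G) *
      Nat.card ↥(W ⊓ centralizer ({x} : Set G) : Subgroup G) *
      Nat.card ↥(W ⊓ centralizer ({z * x} : Set G) : Subgroup G) := by
  classical
  haveI : Fact (Nat.Prime 2) := ⟨Nat.prime_two⟩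
  set A := Subgroup.closure ({z, x} : Set G) with hA
  haveI hAc : IsMulCommutative A := Subgroup.isMulCommutative_closure (by
    rintro a (rfl | rfl) b (rfl | rfl)
    exacts [rfl, hzx, hzx.symm, rfl])
  have hAp : IsPGroup 2 A := fun w => ⟨1, by
    have h : ∀ w ∈ A, w * w = 1 := by
      intro w hw
      induction hw using Subgroup.closure_induction with
      | mem w hw => rcases hw with rfl | rfl <;> assumption
      | one => exact one_mul 1
      | mul a b ha hb h h' =>
        have hab : a * b = b * a := congrArg Subtype.val (mul_comm' (⟨a, ha⟩ : A) ⟨b, hb⟩)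
        calc a * b * (a * b) = a * (b * a) * b := by group
          _ = a * (a * b) * b := by rw [hab]
          _ = (a * a) * (b * b) := by group
          _ = 1 := by rw [h, h', one_mul]
      | inv a _ h => rw [← mul_inv_rev, h, inv_one]
    exact Subtype.ext (by rw [pow_one, pow_two]; exact h w w.2)⟩
  have hAW : A ≤ normalizer (W : Set G) := by
    rw [hA, Subgroup.closure_le]
    rintro w (rfl | rfl) <;> assumption
  obtain ⟨j, hj⟩ := hAp.exists_card_eq
  have hcop : (Nat.card A).Coprime (Nat.card W) := hj ▸ hW.symm.pow_left j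
  refine (Nat.dvd_iff_prime_pow_dvd_dvd _ _).mpr fun q k hq hk => ?_
  haveI : Fact q.Prime := ⟨hq⟩
  obtain ⟨P, hP⟩ := CfsgLib.Core.exists_invariant_sylow hAW hcop
    (Or.inl (Group.isSolvable_of_comm fun a b => mul_comm' a b)) q
  set S := (P : Subgroup W).map W.subtype with hS
  have hSW : S ≤ W := map_subtype_le _
  have hSp : IsPGroup q S := P.2.map _
  have hb := four_bound_pgroup hz hx hzx S hSp (hW.coprime_dvd_left (card_dvd_of_le hSW))
    (hP (subset_closure (Or.inl rfl))) (hP (subset_closure (Or.inr rfl)))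
  obtain ⟨n, hn⟩ := hSp.exists_card_eq
  obtain ⟨a, ha⟩ := (hSp.to_le (inf_le_left : S ⊓ centralizer ({z} : Set G) ≤ S)).exists_card_eq
  obtain ⟨b, hb'⟩ := (hSp.to_le (inf_le_left : S ⊓ centralizer ({x} : Set G) ≤ S)).exists_card_eq
  obtain ⟨c, hc⟩ := (hSp.to_le (inf_le_left : S ⊓ centralizer ({z * x} : Set G) ≤ S)).exists_card_eq
  rw [hn, ha, hb', hc, ← pow_add, ← pow_add, Nat.pow_le_pow_iff_right hq.one_lt] at hb
  have hkn : k ≤ n := by
    have h1 : Nat.card S = q ^ (Nat.card W).factorization q := by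
      rw [hS, card_map_of_injective W.subtype_injective, P.card_eq_multiplicity]
    rw [hn] at h1
    have h2 : n = (Nat.card W).factorization q := Nat.pow_right_injective hq.two_le h1
    rw [h2]
    exact (hq.pow_dvd_iff_le_factorization Nat.card_pos.ne').mp hk
  refine dvd_trans (pow_dvd_pow q (hkn.trans hb)) ?_
  rw [pow_add, pow_add, ← ha, ← hb', ← hc]
  exact mul_dvd_mul (mul_dvd_mul (card_dvd_of_le (inf_le_inf_right _ hSW))
    (card_dvd_of_le (inf_le_inf_right _ hSW))) (card_dvd_of_le (inf_le_inf_right _ hSW))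

end CfsgLib.Recog.HJType
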