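import Cfsg.Agent.Lib.Recog.JankoTwoType.Four
import Cfsg.Agent.Lib.Recog.JankoTwoType.FourBound
import Cfsg.Agent.Lib.TwoGroups.KleinSylow

/-!
Owner: helper29. Groups of Hall–Janko type: an element of order five of the centralizer of `z`.
-/

set_option autoImplicit false
set_option linter.all false

namespace CfsgLib.Recog.HJType

open Subgroup Cfsg CfsgLib.Recog

local notation "A5" => alternatingGroup (Fin 5)

variable {G : Type*} [Group G]

/-- Data on the centralizer of an element `c` of order five of `C(z)`, inverted by `x`. -/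
structure FiveData (z c x : G) (O : Subgroup G) : Prop where
  c5 : c ^ 5 = 1
  c1 : c ≠ 1
  cz : c * z = z * c
  xx : x * x = 1
  zx : z * x = x * z
  inv : x * c * x⁻¹ = c⁻¹
  nxz : ¬ IsConj z x
  nxz' : ¬ IsConj z (z * x)
  le : O ≤ centralizer ({c} : Set G)
  odd : Odd (Nat.card O)
  cO : c ∈ O
  cardY : Nat.card ↥(centralizer ({c} : Set G)) = 2 * Nat.card O
  normO : ∀ n ∈ normalizer (zpowers c : Set G), n ∈ normalizer (O : Set G)
  cardN : Nat.card ↥(normalizer (zpowers c : Set G)) = 4 * Nat.card O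
  fixz : Nat.card ↥(O ⊓ centralizer ({z} : Set G) : Subgroup G) = 5
  bound : Nat.card O ∣ 5 * Nat.card ↥(O ⊓ centralizer ({x} : Set G) : Subgroup G) *
    Nat.card ↥(O ⊓ centralizer ({z * x} : Set G) : Subgroup G)
  cases5 : ∀ n ∈ normalizer (zpowers c : Set G), n * c * n⁻¹ = c ∨ n * c * n⁻¹ = c⁻¹
  centZ : Nat.card ↥(centralizer ({c} : Set G) ⊓ centralizer ({z} : Set G) : Subgroup G) = 10
  sylow2 : ∀ y ∈ centralizer ({c} : Set G), y * y = 1 → y ≠ 1 → IsConj z y

variable [Finite G] {z : G} {Q : Subgroup G}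

theorem Local.invol_of_sq (h : Local z Q) {v x : G} (hv : v * v = 1)
    (hvC : v ∈ centralizer ({z} : Set G)) (hvQ : v ∉ Q) (hx : v⁻¹ * x ∈ Q)
    (hxx : x * x = 1 ∨ x * x = z) : x * x = 1 := by
  set α := h.act ⟨v, hvC⟩ with hα
  set q : Q := ⟨v⁻¹ * x, hx⟩ with hq
  have hvi : v⁻¹ = v := inv_eq_of_mul_eq_one_left hv
  have hαq : ((α q : Q) : G) * q = x * x := by
    show v * (v⁻¹ * x) * v⁻¹ * (v⁻¹ * x) = x * x
    rw [hvi, show v * (v * x) * v * (v * x) = (v * v) * x * (v * v) * x by group, hv]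
    simp
  have hmem : q ∈ MinusThirtyTwo.modFix α := by
    rw [MinusThirtyTwo.mem_modFix]
    have hc : α q * q ∈ center Q := by
      rcases hxx with e | e
      · rw [show α q * q = 1 from Subtype.ext (by rw [Subgroup.coe_mul, hαq, e]; rfl)]
        exact one_mem _
      · rw [show α q * q = ⟨z, h.z_mem⟩ from Subtype.ext (by rw [Subgroup.coe_mul, hαq, e])]
        exact h.zq_center
    have h2 := mul_mem hc (Subgroup.inv_mem _ (CfsgLib.PGroups.ExtraspecialOut.mul_self_mem h.extra q))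
    rwa [show α q * q * (q * q)⁻¹ = α q * q⁻¹ by group] at h2
  have hα2 : ∀ y, α (α y) = y := fun y => by
    rw [← MulAut.mul_apply, hα, h.act_invol (a := ⟨v, hvC⟩) (Or.inl hv), MulAut.one_apply]
  have hinv := (MinusThirtyTwo.inverts_and_card h.extra h.zq_center h.zq_ne h.card hα2
    (h.modFix_le hv hvC hvQ)).1 q hmem
  rw [← hαq, hinv, ← Subgroup.coe_mul, inv_mul_cancel]
  rfl

theorem Hyp.exists_fiveData (h : Hyp z Q) : ∃ (c x : G) (O : Subgroup G), FiveData z c x O := by
  classical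
  haveI : Fact (Nat.Prime 2) := ⟨Nat.prime_two⟩
  haveI : Fact (Nat.Prime 5) := ⟨by norm_num⟩
  obtain ⟨v, hv, hvC, hvQ⟩ := h.exists_outer
  obtain ⟨⟨c, hcC⟩, ⟨x, hxC⟩, hc5', hcQ, hinv', hxx', hvx⟩ := h.loc.exists_five_of_invol hv hvC hvQ
  have hc5 : c ^ 5 = 1 := congrArg Subtype.val hc5'
  have hinv : x * c * x⁻¹ = c⁻¹ := congrArg Subtype.val hinv'
  have hxx : x * x = 1 := h.loc.invol_of_sq hv hvC hvQ hvx hxx'
  have hxQ : x ∉ Q := fun e => hvQ (by
    have := mul_mem e (Q.inv_mem hvx)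
    simpa using this)
  have hzz := h.loc.zz
  have hzQ := h.loc.z_mem
  have hc1 : c ≠ 1 := fun e => hcQ (by show c ∈ Q; rw [e]; exact one_mem _)
  have hcz : c * z = z * c := mem_cent.1 hcC
  have hzx : z * x = x * z := (mem_cent.1 hxC).symm
  have hzxQ : z * x ∉ Q := fun e => hxQ ((Q.mul_mem_cancel_left hzQ).1 e)
  have hzx2 : z * x * (z * x) = 1 := by
    rw [show z * x * (z * x) = z * (x * z) * x by group, ← hzx,
      show z * (z * x) * x = (z * z) * (x * x) by group, hzz, hxx, one_mul]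
  set Y := centralizer ({c} : Set G) with hY
  set C := centralizer ({z} : Set G) with hC
  obtain ⟨π, hπ, hker⟩ := h.loc.quot
  set a := π ⟨c, hcC⟩ with ha
  have ha5 : a ^ 5 = 1 := by rw [ha, ← map_pow, hc5', map_one]
  have ha1 : a ≠ 1 := fun e => hcQ ((hker _).1 e)
  have hzY : z ∈ Y := mem_cent.2 hcz.symm
  have hcY : c ∈ Y := mem_cent.2 rfl
  -- the intersection with `C`
  have hYC : Nat.card ↥(Y ⊓ C : Subgroup G) = 10 := by
    let f : ↥(Y ⊓ C : Subgroup G) →* A5 := π.comp (Subgroup.inclusion inf_le_right)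
    have hk : Nat.card f.ker = 2 := by
      rw [← h.loc.extra.2]
      refine Nat.card_congr
        { toFun := fun w => ⟨⟨(w : ↥(Y ⊓ C : Subgroup G)), (hker _).1 w.2⟩, ?_⟩
          invFun := fun q => ⟨⟨((q : Q) : G), ?_, h.loc.le (q : Q).2⟩, (hker _).2 (q : Q).2⟩
          left_inv := fun w => rfl
          right_inv := fun q => rfl }
      · refine MinusThirtyTwo.mem_center_of_fix h.loc.extra h.loc.zq_center h.loc.zq_ne h.loc.card
          (β := h.loc.act ⟨c, hcC⟩) (by rw [← h.loc.act_pow, hc5', h.loc.act_one]) ?_ ?_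
        · intro e
          rcases (h.loc.act_eq_one_iff _).1 e with e | e
          · exact hc1 e
          · exact hcQ (by show c ∈ Q; rw [show c = z from e]; exact hzQ)
        · refine Subtype.ext ?_
          show c * ((w : ↥(Y ⊓ C : Subgroup G)) : G) * c⁻¹ = _
          rw [← mem_cent.1 (w : ↥(Y ⊓ C : Subgroup G)).2.1, mul_inv_cancel_right]
      · rcases MinusThirtyTwo.center_cases h.loc.extra h.loc.zq_center h.loc.zq_ne q.2 with e | e <;> rw [e]
        exacts [one_mem _, hzY]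
    have hr : f.range = (centralizer ({a} : Set A5)) ⊓ f.range := by
      refine (inf_eq_right.2 ?_).symm
      rintro _ ⟨y, rfl⟩
      refine mem_cent.2 ?_
      show π ⟨y, y.2.2⟩ * π ⟨c, hcC⟩ = π ⟨c, hcC⟩ * π ⟨y, y.2.2⟩
      rw [← map_mul, ← map_mul]
      exact congrArg π (Subtype.ext (mem_cent.1 y.2.1))
    have h5 : Nat.card f.range = 5 := by
      have hle : Nat.card f.range ≤ 5 := by
        rw [hr]
        refine le_of_le_of_eq ?_ (five_five_centralizer a ha5 ha1)
        refine (card_le_of_le inf_le_left).trans_eq (Nat.card_congr (Equiv.subtypeEquivRight fun y => ?_))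
        exact mem_cent
      have hmem : a ∈ f.range := ⟨⟨c, hcY, hcC⟩, rfl⟩
      have h2 := Subgroup.orderOf_dvd_natCard _ hmem
      rw [orderOf_eq_prime ha5 ha1] at h2
      have : 0 < Nat.card f.range := Nat.card_pos
      obtain ⟨d, hd⟩ := h2
      omega
    rw [← f.ker.card_mul_index, index_ker, hk, h5]
  -- the Sylow 2-subgroup
  have hp2 : IsPGroup 2 (zpowers (⟨z, hzY⟩ : Y)) := IsPGroup.of_card (n := 1)
    (by rw [Nat.card_zpowers, Subgroup.orderOf_mk, h.loc.hz, pow_one])
  obtain ⟨R, hR⟩ := hp2.exists_le_sylow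
  have hz1 : (⟨z, hzY⟩ : Y) ≠ 1 := fun e => h.loc.z_ne (congrArg Subtype.val e)
  have hsmall : ∀ w : Y, (w : G) * z = z * w → (∃ m : ℕ, w ^ 2 ^ m = 1) →
      w ∈ zpowers (⟨z, hzY⟩ : Y) := by
    rintro w hwz ⟨m, hm⟩
    have hmem : (w : G) ∈ Y ⊓ C := ⟨w.2, mem_cent.2 hwz⟩
    haveI : Fact (Nat.Prime 5) := ⟨by norm_num⟩
    have hwm : (w : G) ^ 2 ^ m = 1 := by
      rw [← SubgroupClass.coe_pow, hm]; rfl
    -- `w ^ 2 = 1`
    have h10 : (w : G) ^ 10 = 1 := by
      have := pow_card_eq_one' (x := (⟨(w : G), hmem⟩ : ↥(Y ⊓ C : Subgroup G)))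
      rw [hYC] at this
      exact congrArg Subtype.val this
    have h2 : (w : G) ^ 2 = 1 := eq_one_of_pow_odd_two (k := m) (n := 5)
      (by rw [← pow_mul, mul_comm, pow_mul, hwm, one_pow]) (by decide)
      (by rw [← pow_mul]; exact h10)
    by_contra hne
    have hw1 : (w : G) ≠ 1 := fun e => hne (by
      rw [show w = 1 from Subtype.ext e]; exact one_mem _)
    -- two involutions in a group of order ten commuting with each other
    have hsub : IsPGroup 2 (closure ({(w : G), z} : Set G)) := by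
      haveI : IsMulCommutative (closure ({(w : G), z} : Set G)) := Subgroup.isMulCommutative_closure (by
        rintro a (rfl | rfl) b (rfl | rfl)
        exacts [rfl, hwz, hwz.symm, rfl])
      intro y
      refine ⟨1, Subtype.ext ?_⟩
      rw [SubgroupClass.coe_pow, pow_one]
      have key : ∀ y ∈ closure ({(w : G), z} : Set G), y * y = 1 := by
        intro y hy
        induction hy using Subgroup.closure_induction with
        | mem y hy => rcases hy with rfl | rfl; exacts [by rw [← sq]; exact h2, hzz]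
        | one => exact one_mul 1
        | mul a b ha hb h1 h1' =>
          have hab : a * b = b * a := congrArg Subtype.val (mul_comm' (⟨a, ha⟩ : closure ({(w : G), z} : Set G)) ⟨b, hb⟩)
          calc a * b * (a * b) = a * (b * a) * b := by group
            _ = a * (a * b) * b := by rw [hab]
            _ = (a * a) * (b * b) := by group
            _ = 1 := by rw [h1, h1', one_mul]
        | inv a _ h1 => rw [← mul_inv_rev, h1, inv_one]
      rw [pow_two]; exact key y y.2
    obtain ⟨j, hj⟩ := hsub.exists_card_eq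
    have hle : closure ({(w : G), z} : Set G) ≤ Y ⊓ C :=
      (closure_le _).2 (by rintro y (rfl | rfl); exacts [hmem, ⟨hzY, mem_cent.2 rfl⟩])
    have hd := card_dvd_of_le hle
    rw [hYC, hj] at hd
    have hne3 : (3 : ℕ) ≤ 2 ^ j := by
      rw [← hj]
      have hs : ({1, z, (w : G)} : Set G) ⊆ (closure ({(w : G), z} : Set G) : Set G) := by
        rintro y (rfl | rfl | rfl)
        exacts [one_mem _, subset_closure (by simp), subset_closure (by simp)]
      have := Set.ncard_le_ncard hs (Set.toFinite _)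
      have hwz' : z ≠ (w : G) := fun e => hne (by
        rw [show w = ⟨z, hzY⟩ from Subtype.ext e.symm]; exact mem_zpowers _)
      rw [Set.ncard_insert_of_notMem (by simp [h.loc.z_ne.symm, hw1.symm]),
        Set.ncard_insert_of_notMem (by simp [hwz']), Set.ncard_singleton, ← Nat.card_coe_set_eq] at this
      exact this
    have : 4 ∣ 2 ^ j := by
      rcases j with _ | _ | j
      · norm_num at hne3
      · norm_num at hne3
      · exact ⟨2 ^ j, by ring⟩
    have := this.trans hd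
    norm_num at this
  have hRz : (R : Subgroup Y) = zpowers (⟨z, hzY⟩ : Y) := by
    refine le_antisymm ?_ hR
    have hzR : (⟨z, hzY⟩ : Y) ∈ (R : Subgroup Y) := hR (mem_zpowers _)
    haveI : Nontrivial (R : Subgroup Y) := ⟨⟨⟨_, hzR⟩, 1, fun e => hz1 (congrArg Subtype.val e)⟩⟩
    haveI := R.isPGroup'.center_nontrivial
    obtain ⟨⟨⟨w, hw⟩, hwc⟩, hne⟩ := exists_ne (1 : center (↥(R : Subgroup Y)))
    have hcomm : ∀ p ∈ (R : Subgroup Y), w * p = p * w := fun p hp =>
      (congrArg Subtype.val (mem_center_iff.1 hwc ⟨p, hp⟩)).symm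
    obtain ⟨m, hm⟩ := exists_pow_two R.isPGroup' hw
    have hwmem := hsmall w (congrArg Subtype.val (hcomm _ hzR)) ⟨m, hm⟩
    have hwz : w = ⟨z, hzY⟩ := by
      obtain ⟨n, hn⟩ := mem_zpowers_iff.1 hwmem
      rcases Int.even_or_odd' n with ⟨l, rfl | rfl⟩
      · exfalso
        apply hne
        refine Subtype.ext (Subtype.ext ?_)
        show w = 1
        rw [← hn, zpow_mul, zpow_ofNat, sq, show (⟨z, hzY⟩ : Y) * ⟨z, hzY⟩ = 1 from Subtype.ext hzz, one_zpow]
      · rw [← hn, zpow_add, zpow_mul, zpow_ofNat, sq, show (⟨z, hzY⟩ : Y) * ⟨z, hzY⟩ = 1 from Subtype.ext hzz,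
          one_zpow, one_mul, zpow_one]
    intro p hp
    obtain ⟨m', hm'⟩ := exists_pow_two R.isPGroup' hp
    have := (hcomm p hp).symm
    rw [hwz] at this
    exact hsmall p (congrArg Subtype.val this) ⟨m', hm'⟩
  have hcardR : Nat.card (R : Subgroup Y) = 2 := by
    rw [hRz, Nat.card_zpowers, Subgroup.orderOf_mk, h.loc.hz]
  have hRmem : ∀ p ∈ (R : Subgroup Y), p = 1 ∨ p = ⟨z, hzY⟩ := by
    intro p hp
    rw [hRz] at hp
    obtain ⟨n, hn⟩ := mem_zpowers_iff.1 hp
    rcases Int.even_or_odd' n with ⟨l, rfl | rfl⟩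
    · exact Or.inl (by rw [← hn, zpow_mul, zpow_ofNat, sq, show (⟨z, hzY⟩ : Y) * ⟨z, hzY⟩ = 1 from Subtype.ext hzz, one_zpow])
    · exact Or.inr (by rw [← hn, zpow_add, zpow_mul, zpow_ofNat, sq, show (⟨z, hzY⟩ : Y) * ⟨z, hzY⟩ = 1 from Subtype.ext hzz,
        one_zpow, one_mul, zpow_one])
  obtain ⟨R', N, hN, hNR⟩ := CfsgLib.TwoGroups.hasNormalPComplement_of_normalizer_le R (by
    intro g hg
    refine mem_centralizer_iff.2 fun p hp => ?_
    rcases hRmem p hp with e | e
    · simp [e]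
    · have h1 := (mem_normalizer_iff.1 hg p).1 hp
      rcases hRmem _ h1 with e' | e'
      · exact absurd (conj_eq_one_iff.1 e') (e ▸ hz1)
      · rw [← e] at e'
        exact (mul_inv_eq_iff_eq_mul.1 e').symm)
  haveI := hN
  have hcardR' : Nat.card (R' : Subgroup Y) = 2 := by
    rw [Sylow.card_eq_multiplicity R', ← Sylow.card_eq_multiplicity R, hcardR]
  have hNidx : N.index = 2 := by rw [hNR.symm.index_eq_card, hcardR']
  have hNodd : Odd (Nat.card N) := by
    have := R'.card_coprime_index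
    rw [hcardR', hNR.index_eq_card] at this
    exact Nat.coprime_two_left.1 this
  set O := N.map Y.subtype with hO
  have hOY : O ≤ Y := map_subtype_le _
  have hOcard : Nat.card O = Nat.card N := card_map_of_injective Y.subtype_injective
  have hYcard : Nat.card Y = 2 * Nat.card O := by
    rw [hOcard, ← N.card_mul_index, hNidx, mul_comm]
  have hOodd : Odd (Nat.card O) := hOcard ▸ hNodd
  have hOmem : ∀ y ∈ Y, ∀ n : ℕ, Odd n → y ^ n = 1 → y ∈ O := by
    intro y hy n hn e
    refine ⟨⟨y, hy⟩, ?_, rfl⟩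
    have h2 : (QuotientGroup.mk' N ⟨y, hy⟩) ^ 2 ^ 1 = 1 := by
      rw [pow_one, ← hNidx, index_eq_card]; exact pow_card_eq_one'
    have hn' : (QuotientGroup.mk' N ⟨y, hy⟩) ^ n = 1 := by
      rw [← map_pow, show (⟨y, hy⟩ : Y) ^ n = 1 from Subtype.ext e, map_one]
    exact (QuotientGroup.eq_one_iff _).1 (eq_one_of_pow_odd_two h2 hn hn')
  have hcO : c ∈ O := hOmem c hcY 5 (by decide) hc5
  have hNY : ∀ n ∈ normalizer (zpowers c : Set G), ∀ y ∈ Y, n * y * n⁻¹ ∈ Y := by
    intro n hn y hy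
    obtain ⟨j, hj⟩ := mem_zpowers_iff.1 ((mem_normalizer_iff.1 (Subgroup.inv_mem _ hn) c).1 (mem_zpowers c))
    rw [inv_inv] at hj
    have hyc : Commute y (c ^ j) := (show Commute y c from mem_cent.1 hy).zpow_right j
    refine mem_cent.2 ?_
    calc n * y * n⁻¹ * c = n * (y * (n⁻¹ * c * n)) * n⁻¹ := by group
      _ = n * (y * c ^ j) * n⁻¹ := by rw [hj]
      _ = n * (c ^ j * y) * n⁻¹ := by rw [hyc.eq]
      _ = n * (n⁻¹ * c * n * y) * n⁻¹ := by rw [hj]
      _ = c * (n * y * n⁻¹) := by group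
  have hnormO : ∀ n ∈ normalizer (zpowers c : Set G), n ∈ normalizer (O : Set G) := by
    intro n hn
    refine Subgroup.mem_normalizer_fintype fun y hy => ?_
    refine hOmem _ (hNY n hn y (hOY hy)) (Nat.card O) hOodd ?_
    have := pow_card_eq_one' (x := (⟨y, hy⟩ : O))
    rw [conj_pow, show y ^ Nat.card O = 1 from congrArg Subtype.val this, mul_one, mul_inv_cancel]
  -- the normalizer
  have hxN : x ∈ normalizer (zpowers c : Set G) := by
    refine Subgroup.mem_normalizer_fintype fun y hy => ?_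
    obtain ⟨j, rfl⟩ := mem_zpowers_iff.1 hy
    rw [← conj_zpow, hinv]
    exact zpow_mem (Subgroup.inv_mem _ (mem_zpowers c)) j
  have hcases : ∀ n ∈ normalizer (zpowers c : Set G), n * c * n⁻¹ = c ∨ n * c * n⁻¹ = c⁻¹ := by
    intro n hn
    -- move `n` into `C`
    have hzn : n * z * n⁻¹ ∈ Y := hNY n hn z hzY
    have hp : IsPGroup 2 (zpowers (⟨_, hzn⟩ : Y)) := IsPGroup.of_card (n := 1)
      (by rw [Nat.card_zpowers, Subgroup.orderOf_mk,
        show orderOf (n * z * n⁻¹) = 2 from ord_two (invol_conj n hzz) (fun e => h.loc.z_ne (conj_eq_one_iff.1 e)),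
        pow_one])
    obtain ⟨R₂, hR₂⟩ := hp.exists_le_sylow
    obtain ⟨o, ho⟩ := MulAction.exists_smul_eq Y R₂ R
    have hmem : o * ⟨_, hzn⟩ * o⁻¹ ∈ (R : Subgroup Y) := by
      rw [← ho, Sylow.coe_subgroup_smul]
      exact ⟨_, hR₂ (mem_zpowers _), rfl⟩
    have he : (o : G) * (n * z * n⁻¹) * (o : G)⁻¹ = z := by
      rcases hRmem _ hmem with e | e
      · exact absurd (conj_eq_one_iff.1 (conj_eq_one_iff.1 (congrArg Subtype.val e))) h.loc.z_ne
      · exact congrArg Subtype.val e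
    set m := (o : G) * n with hm
    have hmC : m ∈ C := mem_cent.2 (mul_inv_eq_iff_eq_mul.1 (by
      calc m * z * m⁻¹ = (o : G) * (n * z * n⁻¹) * (o : G)⁻¹ := by rw [hm]; group
        _ = z := he))
    have hmc : m * c * m⁻¹ = n * c * n⁻¹ := by
      obtain ⟨j, hj⟩ := mem_zpowers_iff.1 ((mem_normalizer_iff.1 hn c).1 (mem_zpowers c))
      have hoc : Commute (o : G) (c ^ j) := (show Commute (o : G) c from mem_cent.1 o.2).zpow_right j
      rw [hm, show (o : G) * n * c * ((o : G) * n)⁻¹ = (o : G) * (n * c * n⁻¹) * (o : G)⁻¹ by group, ← hj,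
        hoc.eq, mul_inv_cancel_right]
    rw [← hmc]
    have hmemc : m * c * m⁻¹ ∈ zpowers c := hmc ▸ (mem_normalizer_iff.1 hn c).1 (mem_zpowers c)
    obtain ⟨j, hj⟩ := mem_zpowers_iff.1 hmemc
    have hj5 : c ^ j = c ^ (j % 5).toNat := by
      rw [← zpow_natCast c (j % 5).toNat, Int.toNat_of_nonneg (Int.emod_nonneg _ (by norm_num))]
      conv_lhs => rw [← Int.emod_add_mul_ediv j 5, zpow_add, zpow_mul, zpow_ofNat, hc5, one_zpow, mul_one]
    have hlt : (j % 5).toNat < 5 := by
      have := Int.emod_lt_of_pos j (show (0 : ℤ) < 5 by norm_num)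
      omega
    rw [hj5] at hj
    set e := (j % 5).toNat with he'
    have hπj : π ⟨m, hmC⟩ * a * (π ⟨m, hmC⟩)⁻¹ = a ^ e := by
      rw [ha, ← map_inv, ← map_mul, ← map_mul, ← map_pow]
      exact congrArg π (Subtype.ext (by simpa using hj.symm))
    interval_cases e
    · exact absurd (conj_eq_one_iff.1 (by rw [← hj, pow_zero])) hc1
    · exact Or.inl (by rw [← hj, pow_one])
    · by_cases h1 : π ⟨m, hmC⟩ * a * (π ⟨m, hmC⟩)⁻¹ = a
      · rw [h1, pow_two, left_eq_mul] at hπj; exact absurd hπj ha1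
      by_cases h2 : π ⟨m, hmC⟩ * a * (π ⟨m, hmC⟩)⁻¹ = a⁻¹
      · exfalso
        rw [h2, inv_eq_iff_mul_eq_one] at hπj
        exact ha1 (eq_one_of_pow_odd_two (k := 0) (by
          rw [pow_zero, pow_one]
          calc a = a * a ^ 2 * (a ^ 2)⁻¹ := by group
            _ = 1 := by
              rw [hπj, one_mul, inv_eq_one]
              exact eq_one_of_pow_odd_two (k := 0) (n := 5) (by
                rw [pow_zero, pow_one]
                calc a ^ 2 = (a * a ^ 2) ^ 4 * ((a ^ 5) ^ 2)⁻¹ := by group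
                  _ = 1 := by rw [hπj, ha5]; simp) (by decide)
                (by rw [← pow_mul, show 2 * 5 = 5 * 2 from rfl, pow_mul, ha5, one_pow]))
          (n := 5) (by decide) ha5)
      exact absurd hπj (five_five_auto a _ ha5 h1 h2).1
    · by_cases h1 : π ⟨m, hmC⟩ * a * (π ⟨m, hmC⟩)⁻¹ = a
      · rw [h1] at hπj
        exfalso
        have h2' : a * a = 1 := mul_left_cancel (a := a) (by rw [mul_one, ← mul_assoc, ← pow_three', ← hπj])
        exact ha1 (eq_one_of_pow_odd_two (k := 1) (by rw [pow_one, sq]; exact h2') (by decide) ha5)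
      by_cases h2 : π ⟨m, hmC⟩ * a * (π ⟨m, hmC⟩)⁻¹ = a⁻¹
      · exfalso
        rw [h2, inv_eq_iff_mul_eq_one, ← pow_succ'] at hπj
        exact ha1 (eq_one_of_pow_odd_two (k := 2) hπj (by decide) ha5)
      exact absurd hπj (five_five_auto a _ ha5 h1 h2).2
    · exact Or.inr (by rw [← hj]; exact eq_inv_of_mul_eq_one_left (by rw [← pow_succ]; exact hc5))
  have hYN : Y ≤ normalizer (zpowers c : Set G) := fun y hy => by
    refine Subgroup.mem_normalizer_fintype fun w hw => ?_
    obtain ⟨j, rfl⟩ := mem_zpowers_iff.1 hw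
    rw [((show Commute y c from mem_cent.1 hy).zpow_right j).eq, mul_inv_cancel_right]
    exact hw
  have hNcard : Nat.card ↥(normalizer (zpowers c : Set G)) = 4 * Nat.card O := by
    set NC := normalizer (zpowers c : Set G) with hNC
    set S := Y.subgroupOf NC with hS
    have hxnot : (⟨x, hxN⟩ : NC) ∉ S := fun e => by
      have h1 : x * c * x⁻¹ = c := mul_inv_eq_iff_eq_mul.2 (mem_cent.1 (mem_subgroupOf.1 e))
      rw [hinv] at h1
      exact hc1 (eq_one_of_pow_odd_two (k := 1) (by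
        rw [pow_one, sq]
        calc c * c = c⁻¹ * c := by rw [h1]
          _ = 1 := inv_mul_cancel c) (by decide) hc5)
    have hidx : S.index = 2 := by
      rw [index_eq_two_iff]
      refine ⟨⟨x, hxN⟩, fun b => ?_⟩
      have hb : ∀ w : NC, w ∈ S ↔ (w : G) * c * (w : G)⁻¹ = c := fun w => by
        rw [hS, mem_subgroupOf, hY, mem_cent, mul_inv_eq_iff_eq_mul]
      rcases hcases b b.2 with e | e
      · refine Or.inr ⟨(hb b).2 e, fun hmem => ?_⟩
        have := (hb _).1 hmem
        rw [Subgroup.coe_mul, show ((b : G) * x) * c * ((b : G) * x)⁻¹ = (b : G) * (x * c * x⁻¹) * (b : G)⁻¹ by group,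
          hinv, show (b : G) * c⁻¹ * (b : G)⁻¹ = ((b : G) * c * (b : G)⁻¹)⁻¹ by group, e] at this
        exact hxnot ((hb _).2 (by show x * c * x⁻¹ = c; rw [hinv]; exact this))
      · refine Or.inl ⟨(hb _).2 ?_, fun hmem => ?_⟩
        · show ((b : G) * x) * c * ((b : G) * x)⁻¹ = c
          rw [show ((b : G) * x) * c * ((b : G) * x)⁻¹ = (b : G) * (x * c * x⁻¹) * (b : G)⁻¹ by group,
            hinv, show (b : G) * c⁻¹ * (b : G)⁻¹ = ((b : G) * c * (b : G)⁻¹)⁻¹ by group, e, inv_inv]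
        · have := (hb _).1 hmem
          rw [e] at this
          exact hxnot ((hb _).2 (by show x * c * x⁻¹ = c; rw [hinv]; exact this))
    have := S.card_mul_index
    rw [hidx, Nat.card_congr (subgroupOfEquivOfLe hYN).toEquiv, hYcard] at this
    omega
  -- the fixed points
  have hfixz : Nat.card ↥(O ⊓ C : Subgroup G) = 5 := by
    have hd : Nat.card ↥(O ⊓ C : Subgroup G) ∣ 10 := hYC ▸ card_dvd_of_le (inf_le_inf_right _ hOY)
    have ho : Odd (Nat.card ↥(O ⊓ C : Subgroup G)) := Odd.of_dvd_nat hOodd (card_dvd_of_le inf_le_left)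
    have h5 := Subgroup.orderOf_dvd_natCard (O ⊓ C) (show c ∈ O ⊓ C from ⟨hcO, hcC⟩)
    rw [orderOf_eq_prime hc5 hc1] at h5
    obtain ⟨d, hd'⟩ := h5
    obtain ⟨e, he⟩ := ho
    have := Nat.le_of_dvd (by norm_num) hd
    rw [hd'] at hd this he ⊢
    have : d ≤ 2 := by omega
    interval_cases d <;> omega
  have hzN : z ∈ normalizer (zpowers c : Set G) := hYN hzY
  refine ⟨c, x, O, hc5, hc1, hcz, hxx, hzx, hinv, h.outer_not_conj hxx hxC hxQ,
    h.outer_not_conj hzx2 (mul_mem (mem_cent.2 rfl) hxC) hzxQ, hOY, hOodd, hcO, hYcard, hnormO, hNcard,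
    hfixz, ?_, hcases, hYC, ?_⟩
  · have := four_bound hzz hxx hzx O (Nat.coprime_two_right.2 hOodd) (hnormO z hzN) (hnormO x hxN)
    rwa [hfixz] at this
  · intro y hy hy2 hy1
    have hp : IsPGroup 2 (zpowers (⟨y, hy⟩ : Y)) := IsPGroup.of_card (n := 1)
      (by rw [Nat.card_zpowers, Subgroup.orderOf_mk, ord_two hy2 hy1, pow_one])
    obtain ⟨R₂, hR₂⟩ := hp.exists_le_sylow
    obtain ⟨o, ho⟩ := MulAction.exists_smul_eq Y R₂ R
    have hmem : o * ⟨y, hy⟩ * o⁻¹ ∈ (R : Subgroup Y) := by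
      rw [← ho, Sylow.coe_subgroup_smul]
      exact ⟨_, hR₂ (mem_zpowers _), rfl⟩
    rcases hRmem _ hmem with e | e
    · exact absurd (conj_eq_one_iff.1 (congrArg Subtype.val e)) hy1
    · exact (isConj_iff.2 ⟨(o : G), congrArg Subtype.val e⟩).symm

end CfsgLib.Recog.HJType
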