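import Cfsg.Agent.Lib.Recog.JankoTwoType.CentT
import Cfsg.Agent.Lib.Recog.JankoTwoType.FiveC
import Cfsg.Agent.Lib.Signalizer.OrderFormula
import Cfsg.Agent.S3313

/-!
Owner: helper29. Groups of Hall–Janko type: the order of the group.
-/

set_option autoImplicit false
set_option linter.all false

namespace CfsgLib.Recog.HJType

open Subgroup Cfsg CfsgLib.Recog CfsgLib.Signalizer

local notation "A5" => alternatingGroup (Fin 5)

variable {G : Type*} [Group G] [Finite G] {z : G} {Q : Subgroup G}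

theorem Local.card_outer (h : Local z Q) {v : G} (hv : v * v = 1)
    (hvC : v ∈ centralizer ({z} : Set G)) (hvQ : v ∉ Q) :
    Nat.card {w : ↥(centralizer ({z} : Set G)) // w * w = 1 ∧ (w : G) ∉ Q} = 120 := by
  classical
  set C := centralizer ({z} : Set G) with hC
  set K := (centralizer ({v} : Set G)).subgroupOf C with hK
  let S := {w : ↥C // w * w = 1 ∧ (w : G) ∉ Q}
  let f : C ⧸ K → S := Quotient.lift (fun c => ⟨c * ⟨v, hvC⟩ * c⁻¹,
      invol_conj c (Subtype.ext hv), fun e => hvQ (by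
        have := h.conj_mem _ (Subgroup.inv_mem _ c.2) _ e
        simpa [mul_assoc] using this)⟩)
    (fun a b hab => Subtype.ext (Subtype.ext (by
      have hc : ((a⁻¹ * b : C) : G) * v = v * ((a⁻¹ * b : C) : G) :=
        mem_cent.1 (mem_subgroupOf.1 (QuotientGroup.leftRel_apply.1 hab))
      simp only [Subgroup.coe_mul, InvMemClass.coe_inv] at hc
      show (a : G) * v * (a : G)⁻¹ = b * v * (b : G)⁻¹
      calc (a : G) * v * (a : G)⁻¹ = a * (v * ((a : G)⁻¹ * b)) * (b : G)⁻¹ := by group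
        _ = a * ((a : G)⁻¹ * b * v) * (b : G)⁻¹ := by rw [← hc]
        _ = _ := by group)))
  have hf : Function.Bijective f := by
    constructor
    · rintro ⟨a⟩ ⟨b⟩ hab
      refine QuotientGroup.eq.2 (mem_subgroupOf.2 (mem_cent.2 ?_))
      have e : (a : G) * v * (a : G)⁻¹ = b * v * (b : G)⁻¹ := congrArg (fun s : S => ((s.1 : ↥C) : G)) hab
      show (a : G)⁻¹ * b * v = v * ((a : G)⁻¹ * b)
      calc (a : G)⁻¹ * b * v = (a : G)⁻¹ * (b * v * (b : G)⁻¹) * b := by group
        _ = _ := by rw [← e]; group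
    · rintro ⟨w, hw, hwQ⟩
      obtain ⟨c, hc, e⟩ := h.outer_conj hv hvC hvQ (congrArg Subtype.val hw) w.2 hwQ
      exact ⟨QuotientGroup.mk (⟨c, hc⟩ : C), Subtype.ext (Subtype.ext e)⟩
  have hcK : Nat.card K = 16 := by
    rw [← h.card_inf_centralizer_outer hv hvC hvQ, hK, ← inf_subgroupOf_left,
      Nat.card_congr (subgroupOfEquivOfLe inf_le_left).toEquiv]
  have := K.card_mul_index
  rw [index_eq_card, Nat.card_congr (Equiv.ofBijective f hf), hcK,
    show Nat.card ↥C = 1920 from h.card_centralizer] at this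
  show Nat.card S = 120
  omega

theorem Local.mem_zpowers_mul (h : Local z Q) {u : Q} {v : ↥(centralizer ({z} : Set G))}
    (hv : v * v = 1) (hu : u * u = 1) (hne : h.act v u ≠ u) : z ∈ zpowers ((u : G) * v) := by
  set u' := h.act v u with hu'def
  have hvv : (v : G) * v = 1 := congrArg Subtype.val hv
  have hsq : ((u : G) * v) ^ 2 = ((u * u' : Q) : G) := by
    rw [pow_two, Subgroup.coe_mul, hu'def, h.act_apply, inv_eq_of_mul_eq_one_left hvv]
    group
  have hu'2 : u' * u' = 1 := by rw [hu'def, ← map_mul, hu, map_one]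
  have hne1 : u * u' ≠ 1 := fun e =>
    hne ((eq_inv_of_mul_eq_one_right e).trans (inv_eq_of_mul_eq_one_left hu))
  have huc : u ∉ center Q := fun e => hne (MinusThirtyTwo.map_center h.extra h.zq_center h.zq_ne _ e)
  have hu'c : u' ∉ center Q := fun e => by
    have h2 := MinusThirtyTwo.map_center h.extra h.zq_center h.zq_ne (h.act v) e
    rw [hu'def, ← MulAut.mul_apply, h.act_invol (Or.inl hvv), MulAut.one_apply] at h2
    exact hne h2.symm
  rcases MinusThirtyTwo.center_cases h.extra h.zq_center h.zq_ne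
    (CfsgLib.PGroups.ExtraspecialOut.mul_self_mem h.extra (u * u')) with h1 | hz
  · have hcomm : u * u' = u' * u := by
      calc u * u' = (u * u')⁻¹ := eq_inv_of_mul_eq_one_right h1
        _ = u' * u := by
          rw [mul_inv_rev, inv_eq_of_mul_eq_one_left hu, inv_eq_of_mul_eq_one_left hu'2]
    rcases h.minus.2 u u' hu hu'2 hcomm with e | e | e
    · exact absurd e huc
    · exact absurd e hu'c
    · rw [inv_eq_of_mul_eq_one_left hu] at e
      have hz := (MinusThirtyTwo.center_cases h.extra h.zq_center h.zq_ne e).resolve_left hne1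
      have hz' : ((u * u' : Q) : G) = z := congrArg Subtype.val hz
      have key : ((u * u' : Q) : G) ∈ zpowers ((u : G) * v) := by rw [← hsq]; exact pow_mem (mem_zpowers _) 2
      rwa [hz'] at key
  · have hz' : ((u * u' * (u * u') : Q) : G) = z := congrArg Subtype.val hz
    have key : ((u * u' * (u * u') : Q) : G) ∈ zpowers ((u : G) * v) := by
      rw [Subgroup.coe_mul, ← hsq, ← pow_add]; exact pow_mem (mem_zpowers _) _
    rwa [hz'] at key

theorem Hyp.card_pairs_z (h : Hyp z Q) {t : G} (ht : orderOf t = 2) (hzt : ¬ IsConj z t) :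
    Nat.card (ClassPairs z t z) = 960 := by
  classical
  set C := centralizer ({z} : Set G) with hC
  haveI : (Q.subgroupOf C).Normal :=
    ⟨fun q hq c => mem_subgroupOf.2 (h.loc.conj_mem _ c.2 _ (mem_subgroupOf.1 hq))⟩
  have hmapQ : (Q.subgroupOf C).map C.subtype = Q := by
    rw [subgroupOf_map_subtype, inf_eq_left.2 h.loc.le]
  have hQz : ∀ x ∈ (Q.subgroupOf C).map C.subtype, orderOf x = 2 → IsConj x z := fun x hx hxo => by
    rw [hmapQ] at hx
    exact (h.inner hx (inv_pair hxo).1 (inv_pair hxo).2).symm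
  have hCz : ∀ x ∈ C, orderOf x = 2 → x ∉ (Q.subgroupOf C).map C.subtype → IsConj x t := fun x hx hxo hn => by
    rw [hmapQ] at hn
    exact ((h.dichotomy ht hzt hxo).resolve_left
      (h.outer_not_conj (inv_pair hxo).1 hx hn)).symm
  rw [← Cfsg.Agent.S3313.card_classPairs_z h.loc.hz ht hzt C hC (Q.subgroupOf C) hQz hCz
    (by rw [hmapQ]; exact h.loc.z_mem) ?_]
  · obtain ⟨v₀, hv₀, hv₀C, hv₀Q⟩ := h.exists_outer
    haveI := Fintype.ofFinite {v : C // v * v = 1 ∧ v ∉ Q.subgroupOf C}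
    rw [Nat.card_sigma, Finset.sum_const_nat (m := 8) fun v _ => ?_, Finset.card_univ,
      ← Nat.card_eq_fintype_card,
      show Nat.card {v : C // v * v = 1 ∧ v ∉ Q.subgroupOf C} = 120 from h.loc.card_outer hv₀ hv₀C hv₀Q]
    have hvv : (v.1 : G) * v.1 = 1 := congrArg Subtype.val v.2.1
    have hvQ : (v.1 : G) ∉ Q := fun e => v.2.2 (mem_subgroupOf.2 e)
    have hα2 : ∀ q, h.loc.act v.1 (h.loc.act v.1 q) = q := fun q => by
      rw [← MulAut.mul_apply, h.loc.act_invol (Or.inl hvv), MulAut.one_apply]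
    rw [← MinusThirtyTwo.card_moved h.loc.extra h.loc.zq_center h.loc.zq_ne h.loc.card hα2
      (h.loc.modFix_le hvv v.1.2 hvQ) h.loc.minus]
    refine Nat.card_congr (Equiv.subtypeEquiv (subgroupOfEquivOfLe h.loc.le).toEquiv fun q => ?_)
    constructor
    · rintro ⟨h1, h2⟩
      refine ⟨Subtype.ext (congrArg (fun y : Q.subgroupOf C => ((y : C) : G)) h1), fun e => h2 (Subtype.ext (Subtype.ext ?_))⟩
      simpa [subgroupOfEquivOfLe] using congrArg Subtype.val e
    · rintro ⟨h1, h2⟩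
      have h1' : ((q : C) : G) * ((q : C) : G) = 1 := by
        have := congrArg Subtype.val h1
        exact this
      refine ⟨Subtype.ext (Subtype.ext h1'), fun e => h2 (Subtype.ext ?_)⟩
      simpa [subgroupOfEquivOfLe] using congrArg (fun y : Q.subgroupOf C => ((y : C) : G)) e
  · intro u v hv hu hne
    refine h.loc.mem_zpowers_mul (u := ⟨((u : C) : G), mem_subgroupOf.1 u.2⟩) hv
      (Subtype.ext (congrArg (fun y : Q.subgroupOf C => ((y : C) : G)) hu)) fun e => hne ?_
    refine Subtype.ext (Subtype.ext ?_)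
    simpa using congrArg Subtype.val e

theorem Frame.not_small {u t σ k : G} {Q' : Subgroup G} (F : Frame z u t σ k Q Q') :
    ¬ (Nat.card ↥(centralizer ({t} : Set G)) = 48 ∧
      ∀ x ∈ centralizer ({t} : Set G), x * x = 1 → x ∈ centralizer ({z} : Set G) ⊓ centralizer ({t} : Set G)) := by
  classical
  rintro ⟨h48, hW⟩
  have h := F.four.hz
  set V := Q ⊓ Q' with hV
  have htt := F.tt
  have hpt : Nat.card (ClassPairs z t t) = 3 := by
    have h3 : Nat.card {v : G // v ∈ V ∧ v ≠ 1} = 3 := by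
      have e1 : Nat.card {v : G // v ∈ V ∧ v ≠ 1} = ((V : Set G) \ {1}).ncard := by
        rw [← Nat.card_coe_set_eq]; rfl
      rw [e1, Set.ncard_sdiff (by simp), Set.ncard_singleton]
      rw [← Nat.card_coe_set_eq]
      show Nat.card ↥V - 1 = 3
      rw [F.four.card_inf]
    rw [← h3]
    let f : {v : G // v ∈ V ∧ v ≠ 1} → ClassPairs z t t := fun v =>
      ⟨(v.1, v.1 * t), F.four.inf_conj v.2.1 v.2.2, by
        have hvC : v.1 * t ∈ centralizer ({z} : Set G) := mul_mem (h.loc.le v.2.1.1) F.tC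
        have hnQ : v.1 * t ∉ Q := fun e => F.tQ ((Q.mul_mem_cancel_left v.2.1.1).1 e)
        have h2 : v.1 * t * (v.1 * t) = 1 := F.sqW _ (mul_mem (F.leW v.2.1) ⟨F.tC, mem_cent.2 rfl⟩)
        exact (h.dichotomy F.ord_t F.not_conj (ord_two h2 fun e => hnQ (by rw [e]; exact one_mem _))).resolve_left
          (h.outer_not_conj h2 hvC hnQ),
        mem_zpowers_iff.2 ⟨1, by rw [zpow_one, ← mul_assoc, F.four.inf_sq v.2.1, one_mul]⟩⟩
    refine (Nat.card_congr (Equiv.ofBijective f ⟨fun a b e => Subtype.ext (congrArg (fun p => p.1.1) e), ?_⟩)).symm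
    rintro ⟨⟨x, y⟩, hx, hy, hp⟩
    have hx2 := inv_pair ((conj_order hx).trans h.loc.hz)
    have hy2 := inv_pair ((conj_order hy).trans F.ord_t)
    have hxC : x ∈ centralizer ({t} : Set G) := Cfsg.Agent.S3313.commute_of_inverts
      (Cfsg.Agent.S3313.inverts_left hx2.1 hy2.1) htt hp
    have hyC : y ∈ centralizer ({t} : Set G) := Cfsg.Agent.S3313.commute_of_inverts
      (Cfsg.Agent.S3313.inverts_right hx2.1 hy2.1) htt hp
    have hxW := hW x hxC hx2.1
    have hyW := hW y hyC hy2.1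
    have hxV := (F.conjW hxW hx2.2).1 hx
    have hsq : (x * y) ^ 2 = 1 := by rw [pow_two]; exact F.sqW _ (mul_mem hxW hyW)
    obtain ⟨n, hn⟩ := mem_zpowers_iff.1 hp
    dsimp only at hn
    have hxy : x * y = t := by
      rcases Int.even_or_odd' n with ⟨l, rfl | rfl⟩
      · rw [zpow_mul, zpow_ofNat, hsq, one_zpow] at hn
        exact absurd hn.symm (inv_pair F.ord_t).2
      · rwa [zpow_add, zpow_mul, zpow_ofNat, hsq, one_zpow, one_mul, zpow_one] at hn
    refine ⟨⟨x, hxV, hx2.2⟩, Subtype.ext (Prod.ext rfl ?_)⟩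
    show x * t = y
    rw [← hxy, ← mul_assoc, hx2.1, one_mul]
  have hG := thompson_order_formula z t h.loc.hz F.ord_t F.not_conj
    (fun x hx => h.dichotomy F.ord_t F.not_conj hx)
  rw [h48, h.card_pairs_z F.ord_t F.not_conj, hpt, h.loc.card_centralizer] at hG
  obtain ⟨c, x, O, hd⟩ := h.exists_fiveData
  -- the fixed points of the two outer involutions
  have hfix : ∀ w : G, w * w = 1 → ¬ IsConj z w → w ≠ 1 →
      Nat.card ↥(O ⊓ centralizer ({w} : Set G) : Subgroup G) ∣ 3 := by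
    intro w hw hwz hw1
    have hc := (h.dichotomy F.ord_t F.not_conj (ord_two hw hw1)).resolve_left hwz
    obtain ⟨g, rfl⟩ := isConj_iff.1 hc
    have hdvd : Nat.card ↥(O ⊓ centralizer ({g * t * g⁻¹} : Set G) : Subgroup G) ∣ 48 := by
      refine (card_dvd_of_le inf_le_right).trans (dvd_of_eq ?_)
      rw [← h48]
      refine Nat.card_congr
        { toFun := fun a => ⟨g⁻¹ * a * g, mem_cent.2 ?_⟩
          invFun := fun a => ⟨g * a * g⁻¹, mem_cent.2 ?_⟩
          left_inv := fun a => Subtype.ext (by simp [mul_assoc])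
          right_inv := fun a => Subtype.ext (by simp [mul_assoc]) }
      · have h := mem_cent.1 a.2
        calc g⁻¹ * a * g * t = g⁻¹ * (a * (g * t * g⁻¹)) * g := by group
          _ = g⁻¹ * ((g * t * g⁻¹) * a) * g := by rw [h]
          _ = t * (g⁻¹ * a * g) := by group
      · have h := mem_cent.1 a.2
        calc g * a * g⁻¹ * (g * t * g⁻¹) = g * (a * t) * g⁻¹ := by group
          _ = g * (t * a) * g⁻¹ := by rw [h]
          _ = _ := by group
    have hodd : Odd (Nat.card ↥(O ⊓ centralizer ({g * t * g⁻¹} : Set G) : Subgroup G)) :=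
      Odd.of_dvd_nat hd.odd (card_dvd_of_le inf_le_left)
    have hcop : (Nat.card ↥(O ⊓ centralizer ({g * t * g⁻¹} : Set G) : Subgroup G)).Coprime 16 :=
      (Nat.coprime_two_right.2 hodd).pow_right 4
    exact hcop.dvd_of_dvd_mul_left (show _ ∣ 16 * 3 from hdvd)
  have hzx1 : z * x ≠ 1 := fun e => hd.nxz (by rw [show x = z from
    (eq_inv_of_mul_eq_one_right e).trans (inv_eq_of_mul_eq_one_left h.loc.zz)])
  have hx1 : x ≠ 1 := fun e => hd.c1 (eq_one_of_pow_odd_two (k := 1) (by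
    have := hd.inv
    rw [e, one_mul, inv_one, mul_one] at this
    rw [pow_one, sq]
    nth_rewrite 1 [this]
    exact inv_mul_cancel c) (by decide) hd.c5)
  have hzx2 : z * x * (z * x) = 1 := by
    rw [show z * x * (z * x) = z * (x * z) * x by group, ← hd.zx,
      show z * (z * x) * x = (z * z) * (x * x) by group, h.loc.zz, hd.xx, one_mul]
  have h45 : Nat.card O ∣ 45 := hd.bound.trans
    (mul_dvd_mul (mul_dvd_mul (dvd_refl 5) (hfix x hd.xx hd.nxz hx1)) (hfix (z * x) hzx2 hd.nxz' hzx1))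
  have h5O : 5 ∣ Nat.card O := by
    haveI : Fact (Nat.Prime 5) := ⟨by norm_num⟩
    have := Subgroup.orderOf_dvd_natCard O hd.cO
    rwa [orderOf_eq_prime hd.c5 hd.c1] at this
  -- Sylow's theorem
  haveI : Fact (Nat.Prime 5) := ⟨by norm_num⟩
  have hP5 : Nat.card (zpowers c) = 5 := by rw [Nat.card_zpowers, orderOf_eq_prime hd.c5 hd.c1]
  let P : Sylow 5 G := (IsPGroup.of_card (n := 1) (hP5.trans (pow_one 5).symm)).toSylow (by
    intro hdvd
    have h1 := (zpowers c).card_mul_index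
    rw [hP5, hG] at h1
    obtain ⟨d, hd'⟩ := hdvd
    omega)
  have hn5 : Nat.card (Sylow 5 G) ≡ 1 [MOD 5] := card_sylow_modEq_one 5 G
  have hidx := (normalizer ((P : Subgroup G) : Set G)).card_mul_index
  rw [show (normalizer ((P : Subgroup G) : Set G)).index = Nat.card (Sylow 5 G) from
    P.card_eq_index_normalizer.symm, show (P : Subgroup G) = zpowers c from rfl, hd.cardN, hG] at hidx
  have hO : Nat.card O = 5 ∨ Nat.card O = 15 ∨ Nat.card O = 45 := by
    obtain ⟨d, hd'⟩ := h5O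
    have hle := Nat.le_of_dvd (by norm_num) h45
    rw [hd'] at h45 hle ⊢
    have : d ≤ 9 := by omega
    interval_cases d <;> omega
  unfold Nat.ModEq at hn5
  rcases hO with e | e | e <;> rw [e] at hidx <;> omega

theorem Frame.exists_cdata {u t σ k : G} {Q' : Subgroup G} (F : Frame z u t σ k Q Q') :
    ∃ U B : Subgroup G, CData z t k U B :=
  F.centT.resolve_left F.not_small

theorem Hyp.exists_frame (h : Hyp z Q) : ∃ (u t σ k : G) (Q' : Subgroup G), Frame z u t σ k Q Q' := by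
  obtain ⟨g, hg, hg1⟩ := h.fus
  obtain ⟨Q', F⟩ := h.exists_four hg (invol_conj g h.loc.zz) (fun e => h.loc.z_ne (conj_eq_one_iff.1 e)) hg1
  obtain ⟨t, σ, k, hf⟩ := F.exists_frame
  exact ⟨_, t, σ, k, Q', hf⟩

theorem CData.card {t k : G} {U B : Subgroup G} (D : CData z t k U B) :
    Nat.card ↥(centralizer ({t} : Set G)) = 240 := by
  obtain ⟨e⟩ := D.iso
  rw [Cfsg.Agent.S3313.card_directProduct D.dp, D.cardU, Nat.card_congr e.toEquiv, AltFive.card_eq]

theorem Hyp.card_group (h : Hyp z Q) : Nat.card G = 604800 := by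
  obtain ⟨u, t, σ, k, Q', F⟩ := h.exists_frame
  obtain ⟨U, B, D⟩ := F.exists_cdata
  obtain ⟨e⟩ := D.iso
  let eB : A5 →* G := B.subtype.comp e.symm.toMonoidHom
  have heB : eB.range = B := by
    ext x
    constructor
    · rintro ⟨a, rfl⟩; exact (e.symm a).2
    · intro hx; exact ⟨e ⟨x, hx⟩, by simp [eB]⟩
  rw [thompson_order_formula z t h.loc.hz F.ord_t F.not_conj (fun x hx => h.dichotomy F.ord_t F.not_conj hx),
    h.card_pairs_z F.ord_t F.not_conj, D.card,
    Cfsg.Agent.S3313.card_classPairs_t h.loc.hz F.ord_t F.not_conj U B D.dp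
      (fun v hv => by rw [pow_two]; exact D.sqU v hv) D.tU eB heB
      (B.subtype_injective.comp e.symm.injective) D.invB D.invOut,
    h.loc.card_centralizer]

theorem CData.transport {t k : G} {U B : Subgroup G} (D : CData z t k U B) (g : G) :
    CData (g * z * g⁻¹) (g * t * g⁻¹) (g * k * g⁻¹)
      (U.map (MulAut.conj g).toMonoidHom) (B.map (MulAut.conj g).toMonoidHom) := by
  have hi : Function.Injective (MulAut.conj g).toMonoidHom := (MulAut.conj g).injective
  have hcen : ∀ w : G, centralizer ({g * w * g⁻¹} : Set G) =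
      (centralizer ({w} : Set G)).map (MulAut.conj g).toMonoidHom := by
    intro w
    ext a
    constructor
    · intro ha
      refine ⟨g⁻¹ * a * g, mem_cent.2 ?_, by simp [mul_assoc]⟩
      have h := mem_cent.1 ha
      calc g⁻¹ * a * g * w = g⁻¹ * (a * (g * w * g⁻¹)) * g := by group
        _ = g⁻¹ * ((g * w * g⁻¹) * a) * g := by rw [h]
        _ = w * (g⁻¹ * a * g) := by group
    · rintro ⟨b, hb, rfl⟩
      refine mem_cent.2 ?_
      show g * b * g⁻¹ * (g * w * g⁻¹) = g * w * g⁻¹ * (g * b * g⁻¹)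
      calc g * b * g⁻¹ * (g * w * g⁻¹) = g * (b * w) * g⁻¹ := by group
        _ = g * (w * b) * g⁻¹ := by rw [mem_cent.1 hb]
        _ = _ := by group
  obtain ⟨hU, hB, hc, hinf, hsup⟩ := D.dp
  have ho : ∀ b : G, orderOf (g * b * g⁻¹) = orderOf b := CfsgLib.Signalizer.orderOf_conj g
  have hcj : ∀ b : G, IsConj (g * b * g⁻¹) b := fun b => (isConj_iff.2 ⟨g, rfl⟩).symm
  refine ⟨⟨?_, ?_, ?_, ?_, ?_⟩, ?_, ?_, ⟨t, D.tU, rfl⟩, ?_, ⟨k, D.kB, rfl⟩, ⟨z, D.zB, rfl⟩, ?_, ?_, ?_⟩
  · rw [hcen]; exact map_mono hU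
  · rw [hcen]; exact map_mono hB
  · rintro _ ⟨a, ha, rfl⟩ _ ⟨b, hb, rfl⟩
    rw [← map_mul, ← map_mul, hc a ha b hb]
  · rw [← map_inf _ _ _ hi, hinf, Subgroup.map_bot]
  · rw [← Subgroup.map_sup, hsup, hcen]
  · rw [card_map_of_injective hi, D.cardU]
  · rintro _ ⟨a, ha, rfl⟩; exact invol_conj g (D.sqU a ha)
  · obtain ⟨e⟩ := D.iso; exact ⟨(B.equivMapOfInjective _ hi).symm.trans e⟩
  · rintro _ ⟨b, hb, rfl⟩ hbo
    exact ((hcj b).trans (D.invB b hb ((ho b).symm.trans hbo))).trans (hcj z).symm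
  · rw [hcen]
    rintro _ ⟨b, hb, rfl⟩ hbo hn
    exact ((hcj b).trans (D.invOut b hb ((ho b).symm.trans hbo) fun e => hn ⟨b, e, rfl⟩)).trans (hcj t).symm
  · rintro _ ⟨a, ha, rfl⟩ ha1
    show centralizer ({g * a * g⁻¹} : Set G) = _
    rw [hcen, hcen, D.centU a ha fun e => ha1 (by rw [e]; exact map_one _)]

theorem Hyp.exists_cdata (h : Hyp z Q) {t : G} (ht : orderOf t = 2) (hzt : ¬ IsConj z t) :
    ∃ (z' k : G) (U B : Subgroup G), IsConj z z' ∧ CData z' t k U B := by
  obtain ⟨u, t₀, σ, k, Q', F⟩ := h.exists_frame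
  obtain ⟨U, B, D⟩ := F.exists_cdata
  obtain ⟨g, rfl⟩ := isConj_iff.1 ((h.dichotomy F.ord_t F.not_conj ht).resolve_left hzt)
  exact ⟨_, _, _, _, isConj_iff.2 ⟨g, rfl⟩, D.transport g⟩

theorem Hyp.card_centralizer_other (h : Hyp z Q) {t : G} (ht : orderOf t = 2) (hzt : ¬ IsConj z t) :
    Nat.card ↥(centralizer ({t} : Set G)) = 240 := by
  obtain ⟨z', k, U, B, -, D⟩ := h.exists_cdata ht hzt
  exact D.card

end CfsgLib.Recog.HJType
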