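import Cfsg.Agent.Lib.Recog.JankoTwoType.Four

/-!
Owner: helper29. Groups of Hall–Janko type: elements of order three rotating a pure four-group.
-/

set_option autoImplicit false
set_option linter.all false

namespace CfsgLib.Recog.HJType

open Subgroup Cfsg CfsgLib.Recog

variable {G : Type*} [Group G]

/-- A four-group with an outer involution and commuting elements of order three. -/
structure Frame (z u t σ k : G) (Q Q' : Subgroup G) : Prop where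
  four : Four z Q u Q'
  tt : t * t = 1
  tC : t ∈ centralizer ({z} : Set G)
  tQ : t ∉ Q
  tu : t * u = u * t
  σmem : σ ∈ centralizer ({z} : Set G) ⊓ centralizer ({u} : Set G)
  σ3 : σ ^ 3 = 1
  σ1 : σ ≠ 1
  k3 : k ^ 3 = 1
  kσ : k * σ = σ * k
  kt : k * t = t * k
  kV : ∀ x, x ∈ Q ⊓ Q' ↔ k * x * k⁻¹ ∈ Q ⊓ Q'
  kfree : ∀ v ∈ Q ⊓ Q', k * v * k⁻¹ = v → v = 1
  kW : ∀ x ∈ centralizer ({z} : Set G) ⊓ centralizer ({t} : Set G),
    k * x * k⁻¹ ∈ centralizer ({z} : Set G) ⊓ centralizer ({t} : Set G) ∧ k * x * k⁻¹ * x⁻¹ ∈ Q ⊓ Q'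

namespace Four

variable [Finite G] {z u : G} {Q Q' : Subgroup G} (F : Four z Q u Q')
include F

theorem exists_third : ∃ Q'' : Subgroup G, Four z Q (u * z) Q'' ∧ Four u Q' (u * z) Q'' := by
  obtain ⟨p1, p2, p3⟩ := F.prod_ne
  obtain ⟨Q'', h⟩ := F.hz.exists_four (mul_mem F.mem F.hz.loc.z_mem) F.prod_sq p1 p2
  refine ⟨Q'', h, F.hu, h.hu, mul_mem F.hu.loc.z_mem F.mem', ?_, p3⟩
  have : u = u * z * z := by rw [mul_assoc, F.hz.loc.zz, mul_one]
  rw [this]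
  exact mul_mem h.hu.loc.z_mem h.mem'

theorem normalizes_cv {a : G} (ha : ∀ x, x ∈ Q ⊓ Q' ↔ a * x * a⁻¹ ∈ Q ⊓ Q') {c : G}
    (hc : c ∈ centralizer ({z} : Set G) ⊓ centralizer ({u} : Set G)) :
    a * c * a⁻¹ ∈ centralizer ({z} : Set G) ⊓ centralizer ({u} : Set G) := by
  have key : ∀ w ∈ Q ⊓ Q', a * c * a⁻¹ * w = w * (a * c * a⁻¹) := by
    intro w hw
    have hw' : a⁻¹ * w * a ∈ Q ⊓ Q' := (ha _).2 (by simpa [mul_assoc] using hw)
    calc a * c * a⁻¹ * w = a * (c * (a⁻¹ * w * a)) * a⁻¹ := by group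
      _ = a * (a⁻¹ * w * a * c) * a⁻¹ := by rw [F.central hc hw']
      _ = w * (a * c * a⁻¹) := by group
  exact ⟨mem_cent.2 (key z (F.mem_inf.2 (Or.inr (Or.inl rfl)))),
    mem_cent.2 (key u (F.mem_inf.2 (Or.inr (Or.inr (Or.inl rfl)))))⟩

theorem rotate {t σ a : G} (ht2 : t * t = 1) (htC : t ∈ centralizer ({z} : Set G)) (htQ : t ∉ Q)
    (htu : t * u = u * t)
    (hσ : σ ∈ centralizer ({z} : Set G) ⊓ centralizer ({u} : Set G)) (hσ3 : σ ^ 3 = 1) (hσ1 : σ ≠ 1)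
    (haσ : a * σ = σ * a) (ha3 : a ^ 3 ∈ zpowers σ)
    (ha : ∀ x, x ∈ Q ⊓ Q' ↔ a * x * a⁻¹ ∈ Q ⊓ Q')
    (hfree : ∀ v ∈ Q ⊓ Q', a * v * a⁻¹ = v → v = 1) :
    ∃ (j : ℕ) (t' : G), Frame z u t' σ (a * σ ^ j) Q Q' := by
  classical
  obtain ⟨T, hTK, hT64, hT2, hAT, hBT, hnorm, hmemT, hdec, hcomm⟩ := F.exists_top
  obtain ⟨hWu, hWsq, hWQ, hWσ, hst, hrt, hcover⟩ := F.outer_data ht2 htC htQ htu hσ hσ3 hσ1
  set W := centralizer ({z} : Set G) ⊓ centralizer ({t} : Set G) with hW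
  have hW16 : Nat.card W = 16 := F.hz.loc.card_inf_centralizer_outer ht2 htC htQ
  have hVW : Q ⊓ Q' ≤ W := hWQ ▸ inf_le_left
  have hWT : W ≤ T := fun x hx => hmemT x ⟨hx.1, hWu hx⟩ 1 (by rw [pow_one, sq]; exact hWsq x hx)
  -- subgroups like `W`
  let Good : Subgroup G → Prop := fun M => M ≤ T ∧ Q ⊓ Q' ≤ M ∧ Nat.card M = 16 ∧
    ∀ x ∈ M, σ * x * σ⁻¹ ∈ M
  have meet : ∀ M N : Subgroup G, Good M → Good N → M ≠ N → M ⊓ N = Q ⊓ Q' := by
    intro M N hM hN hne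
    refine le_antisymm (fun y hy => ?_) (le_inf hM.2.1 hN.2.1)
    by_contra hyV
    apply hne
    set I := M ⊓ N with hI
    have hVI : Q ⊓ Q' ≤ I := le_inf hM.2.1 hN.2.1
    have hy2 : σ * y * σ⁻¹ ∈ I := ⟨hM.2.2.2 y hy.1, hN.2.2.2 y hy.2⟩
    have hlt : 8 < Nat.card I := by
      set y' := σ * y * σ⁻¹ with hy'
      have hyT : y ∈ T := hM.1 hy.1
      have hd : y' * y⁻¹ ∉ Q ⊓ Q' := fun e => hyV (F.fpf hTK hdec hσ hσ3 hσ1 hyT e (by rw [hy']; group))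
      have hy'V : y' ∉ Q ⊓ Q' := fun e => hyV (by
        have := F.central (Subgroup.inv_mem _ hσ) e
        rw [show y = σ⁻¹ * y' * σ⁻¹⁻¹ by rw [hy']; group, this, mul_inv_cancel_right]
        exact e)
      let f : Option (↥(Q ⊓ Q' : Subgroup G) ⊕ ↥(Q ⊓ Q' : Subgroup G)) → I := fun o => match o with
        | none => ⟨y', hy2⟩
        | some (Sum.inl v) => ⟨v, hVI v.2⟩
        | some (Sum.inr v) => ⟨v * y, mul_mem (hVI v.2) hy⟩
      have hinj : Function.Injective f := by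
        rintro (_ | (⟨v, hv⟩ | ⟨v, hv⟩)) (_ | (⟨w, hw⟩ | ⟨w, hw⟩)) e <;>
          have e' := congrArg Subtype.val e <;> simp only [f] at e'
        · rfl
        · exact absurd (e' ▸ hw) hy'V
        · exact absurd (by rw [e']; simpa [mul_assoc] using hw) hd
        · exact absurd (e' ▸ hv) hy'V
        · subst e'; rfl
        · exact absurd (by
            have : y = w⁻¹ * v := by rw [e']; group
            rw [this]; exact mul_mem (Subgroup.inv_mem _ hw) hv) hyV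
        · exact absurd (by rw [← e']; simpa [mul_assoc] using hv) hd
        · exact absurd (by
            have : y = v⁻¹ * w := by rw [← e']; group
            rw [this]; exact mul_mem (Subgroup.inv_mem _ hv) hw) hyV
        · obtain rfl : v = w := mul_right_cancel e'
          rfl
      have := Nat.card_le_card_of_injective f hinj
      rw [Finite.card_option, Nat.card_sum, F.card_inf] at this
      omega
    have key : ∀ S : Subgroup G, I ≤ S → Nat.card S = 16 → I = S := by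
      intro S hS hcard
      refine eq_of_le_of_card_ge hS ?_
      obtain ⟨d, hd⟩ := card_dvd_of_le hS
      rw [hcard] at hd ⊢
      have : d ≠ 0 := by rintro rfl; omega
      by_contra hlt'
      have : 2 ≤ d := by by_contra h1; have : d = 1 := by omega
                         subst this; omega
      nlinarith
    rw [← key M inf_le_left hM.2.2.1, key N inf_le_right hN.2.2.1]
  have hWgood : Good W := ⟨hWT, hVW, hW16, hWσ⟩
  have hmap : ∀ (M : Subgroup G), Good M → Good (M.map (MulAut.conj a).toMonoidHom) := by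
    rintro M ⟨h1, h2, h3, h4⟩
    refine ⟨?_, fun v hv => ⟨a⁻¹ * v * a, h2 ((ha _).2 (by simpa [mul_assoc] using hv)), by simp [mul_assoc]⟩,
      by rw [card_map_of_injective (MulAut.conj a).injective, h3], ?_⟩
    · rintro _ ⟨x, hx, rfl⟩
      obtain ⟨m, hm⟩ := exists_pow_two hT2 (h1 hx)
      refine hmemT _ (F.normalizes_cv ha (hTK (h1 hx))) m ?_
      show (a * x * a⁻¹) ^ 2 ^ m = 1
      rw [conj_pow, hm, mul_one, mul_inv_cancel]
    · rintro _ ⟨x, hx, rfl⟩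
      refine ⟨σ * x * σ⁻¹, h4 x hx, ?_⟩
      show a * (σ * x * σ⁻¹) * a⁻¹ = σ * (a * x * a⁻¹) * σ⁻¹
      calc a * (σ * x * σ⁻¹) * a⁻¹ = (a * σ) * x * (a * σ)⁻¹ := by group
        _ = (σ * a) * x * (σ * a)⁻¹ := by rw [haσ]
        _ = _ := by group
  set W₁ := W.map (MulAut.conj a).toMonoidHom with hW₁
  set W₂ := W₁.map (MulAut.conj a).toMonoidHom with hW₂
  have hel : ∀ (M : Subgroup G), (∀ x ∈ M, x * x = 1) →
      ∀ x ∈ M.map (MulAut.conj a).toMonoidHom, x * x = 1 := by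
    rintro M hM _ ⟨x, hx, rfl⟩
    exact invol_conj a (hM x hx)
  have hW₁sq := hel W hWsq
  have hW₂sq := hel W₁ hW₁sq
  obtain ⟨Q'', F2, F3⟩ := F.exists_third
  set A := Q ⊓ centralizer ({u} : Set G)
  set B := Q' ⊓ centralizer ({z} : Set G)
  set D := Q'' ⊓ centralizer ({z} : Set G)
  have hσuz : σ ∈ centralizer ({u * z} : Set G) ⊓ centralizer ({z} : Set G) :=
    ⟨mem_cent.2 (F.central hσ (F.mem_inf.2 (Or.inr (Or.inr (Or.inr rfl))))), hσ.1⟩
  have hAg : Good A := ⟨hAT, fun v hv => ⟨hv.1, F.hu.loc.le hv.2⟩, F.left_card, fun x hx => F.left_normal hσ hx⟩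
  have hBg : Good B := ⟨hBT, fun v hv => ⟨hv.2, F.hz.loc.le hv.1⟩, F.symm.left_card,
    fun x hx => F.symm.left_normal ⟨hσ.2, hσ.1⟩ hx⟩
  have hDg : Good D := by
    refine ⟨fun x hx => ?_, fun v hv => ?_, F2.symm.left_card, fun x hx => F2.symm.left_normal hσuz hx⟩
    · obtain ⟨m, hm⟩ := exists_pow_two (IsPGroup.of_card (p := 2) (n := 5) (by rw [F2.hu.loc.card]; norm_num) :
        IsPGroup 2 Q'') hx.1
      refine hmemT x ⟨hx.2, mem_cent.2 ?_⟩ m hm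
      have h1 : x * (u * z) = u * z * x := mem_cent.1 (F2.hu.loc.le hx.1)
      have h2 : x * z = z * x := mem_cent.1 hx.2
      calc x * u = x * (u * z) * z⁻¹ := by group
        _ = u * z * x * z⁻¹ := by rw [h1]
        _ = u * (x * z) * z⁻¹ := by rw [h2]; group
        _ = u * x := by group
    · have hv2 : v ∈ Q ⊓ Q'' := F2.mem_inf.2 (by
        rcases F.mem_inf.1 hv with e | e | e | e
        · exact Or.inl e
        · exact Or.inr (Or.inl e)
        · exact Or.inr (Or.inr (Or.inr (by rw [e, mul_assoc, F.hz.loc.zz, mul_one])))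
        · exact Or.inr (Or.inr (Or.inl e)))
      exact ⟨hv2.2, F.hz.loc.le hv.1⟩
  have small : ∀ M N I : Subgroup G, Nat.card M = 16 → M ⊓ N ≤ I → Nat.card I = 4 → M ≠ N := by
    rintro M N I hM hle hI rfl
    have := card_le_of_le ((le_inf le_rfl le_rfl).trans hle)
    rw [hM, hI] at this
    omega
  have nAB : A ≠ B := small A B _ F.left_card F.left_inf.le F.card_inf
  have nAD : A ≠ D := small A D _ F.left_card
    (show A ⊓ D ≤ Q ⊓ Q'' from fun x hx => ⟨hx.1.1, hx.2.1⟩) F2.card_inf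
  have nBD : B ≠ D := small B D _ F.symm.left_card
    (show B ⊓ D ≤ Q' ⊓ Q'' from fun x hx => ⟨hx.1.1, hx.2.1⟩) F3.card_inf
  have nel : ∀ M N : Subgroup G, (∀ x ∈ M, x * x = 1) → (∃ x ∈ N, x * x ≠ 1) → N ≠ M := by
    rintro M N hM ⟨x, hx, hne⟩ rfl
    exact hne (hM x hx)
  have eA := F.left_not_elementary
  have eB := F.symm.left_not_elementary
  have eD := F2.symm.left_not_elementary
  have hW₁W : W₁ = W := by
    by_contra hne
    have h21 : W₂ ≠ W₁ := fun e => hne (map_injective (MulAut.conj a).injective e)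
    have h20 : W₂ ≠ W := by
      intro e
      apply h21
      have h3 : ∀ x, x ∈ W ↔ a ^ 3 * x * (a ^ 3)⁻¹ ∈ W := by
        obtain ⟨n, hn⟩ := mem_zpowers_iff.1 ha3
        have hpow : a ^ 3 = σ ^ (n % 3).toNat := by
          rw [← hn, ← zpow_natCast σ (n % 3).toNat, Int.toNat_of_nonneg (Int.emod_nonneg _ (by norm_num))]
          conv_lhs => rw [← Int.emod_add_mul_ediv n 3, zpow_add, zpow_mul, zpow_ofNat, hσ3, one_zpow, mul_one]
        intro x
        have hit : ∀ (i : ℕ) y, y ∈ W → σ ^ i * y * (σ ^ i)⁻¹ ∈ W := by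
          intro i
          induction i with
          | zero => simp
          | succ i ih =>
            intro y hy
            rw [pow_succ', show σ * σ ^ i * y * (σ * σ ^ i)⁻¹ = σ * (σ ^ i * y * (σ ^ i)⁻¹) * σ⁻¹ by group]
            exact hWσ _ (ih y hy)
        rw [hpow]
        refine ⟨hit _ x, fun hx => ?_⟩
        have h := hit (2 * (n % 3).toNat) _ hx
        rwa [show σ ^ (2 * (n % 3).toNat) * (σ ^ (n % 3).toNat * x * (σ ^ (n % 3).toNat)⁻¹) *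
          (σ ^ (2 * (n % 3).toNat))⁻¹ = (σ ^ 3) ^ (n % 3).toNat * x * ((σ ^ 3) ^ (n % 3).toNat)⁻¹ by
            rw [← pow_mul]; group, hσ3, one_pow, one_mul, inv_one, mul_one] at h
      -- `W₁ = W₃ = W`
      have e3 : W₂.map (MulAut.conj a).toMonoidHom = W := by
        ext x
        constructor
        · rintro ⟨_, ⟨_, ⟨y, hy, rfl⟩, rfl⟩, rfl⟩
          have := (h3 y).1 hy
          convert this using 1
          simp [pow_succ, mul_assoc]
        · intro hx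
          refine ⟨_, ⟨_, ⟨(a ^ 3)⁻¹ * x * a ^ 3, (h3 _).2 (by simpa [mul_assoc] using hx), rfl⟩, rfl⟩, ?_⟩
          simp [pow_succ, mul_assoc]
      rw [e] at e3
      rw [e]
      exact e3.symm
    let L : List (Subgroup G) := [A, B, D, W, W₁, W₂]
    have hnd : L.Pairwise (· ≠ ·) := by
      simp only [L, List.pairwise_cons, List.mem_cons, List.not_mem_nil, or_false, forall_eq_or_imp,
        forall_eq, IsEmpty.forall_iff, implies_true, List.Pairwise.nil, and_true]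
      exact ⟨⟨nAB, nAD, nel _ _ hWsq eA, nel _ _ hW₁sq eA, nel _ _ hW₂sq eA⟩,
        ⟨nBD, nel _ _ hWsq eB, nel _ _ hW₁sq eB, nel _ _ hW₂sq eB⟩,
        ⟨nel _ _ hWsq eD, nel _ _ hW₁sq eD, nel _ _ hW₂sq eD⟩,
        ⟨Ne.symm hne, h20.symm⟩, h21.symm⟩
    have hgood : ∀ M ∈ L, Good M := by
      intro M hM
      simp only [L, List.mem_cons, List.not_mem_nil, or_false] at hM
      rcases hM with rfl | rfl | rfl | rfl | rfl | rfl
      exacts [hAg, hBg, hDg, hWgood, hmap W hWgood, hmap _ (hmap W hWgood)]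
    let f : (Σ i : Fin L.length, {x : G // x ∈ L.get i ∧ x ∉ Q ⊓ Q'}) → T :=
      fun p => ⟨p.2.1, (hgood _ (List.get_mem L p.1)).1 p.2.2.1⟩
    have hinj : Function.Injective f := by
      rintro ⟨i, x, hx, hxV⟩ ⟨i', y, hy, hyV⟩ e
      obtain rfl : x = y := congrArg Subtype.val e
      obtain rfl : i = i' := by
        by_contra hii
        have hne' : L.get i ≠ L.get i' := by
          intro e'
          exact hii ((List.nodup_iff_pairwise_ne.2 hnd).injective_get e')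
        exact hxV ((meet _ _ (hgood _ (List.get_mem L i)) (hgood _ (List.get_mem L i')) hne').le ⟨hx, hy⟩)
      rfl
    have hc : ∀ i : Fin L.length, Nat.card {x : G // x ∈ L.get i ∧ x ∉ Q ⊓ Q'} = 12 := by
      intro i
      obtain ⟨-, h2, h3, -⟩ := hgood _ (List.get_mem L i)
      have e1 : Nat.card {x : G // x ∈ L.get i ∧ x ∉ Q ⊓ Q'} =
          ((L.get i : Set G) \ ((Q ⊓ Q' : Subgroup G) : Set G)).ncard := by
        rw [← Nat.card_coe_set_eq]; rfl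
      rw [e1, Set.ncard_sdiff (fun x hx => h2 hx)]
      rw [← Nat.card_coe_set_eq, ← Nat.card_coe_set_eq]
      show Nat.card ↥(L.get i) - Nat.card ↥(Q ⊓ Q' : Subgroup G) = 12
      rw [h3, F.card_inf]
    have := Nat.card_le_card_of_injective f hinj
    rw [Nat.card_sigma, Finset.sum_const_nat (m := 12) fun i _ => hc i, Finset.card_univ, Fintype.card_fin,
      hT64] at this
    simp [L] at this
  -- choose the power of `σ`
  have haW : ∀ x ∈ W, a * x * a⁻¹ ∈ W := fun x hx => hW₁W.le ⟨x, hx, rfl⟩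
  have htW : t ∈ W := ⟨htC, mem_cent.2 rfl⟩
  have hatV : a * t * a⁻¹ ∉ Q ⊓ Q' := fun e => htQ ((ha t).2 e).1
  obtain ⟨i, hi, hit⟩ : ∃ i : ℕ, i < 3 ∧ a * t * a⁻¹ * (σ ^ i * t * (σ ^ i)⁻¹)⁻¹ ∈ Q ⊓ Q' := by
    rcases hcover _ (haW t htW) with e | e | e | e
    · exact absurd e hatV
    · exact ⟨0, by norm_num, by simpa using e⟩
    · exact ⟨1, by norm_num, by simpa using e⟩
    · exact ⟨2, by norm_num, e⟩
  set j := 2 * i with hj
  set k := a * σ ^ j with hk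
  have hσj : σ ^ j * σ ^ i = 1 := by rw [← pow_add, hj, show 2 * i + i = 3 * i by ring, pow_mul, hσ3, one_pow]
  have haσn : ∀ n : ℕ, a * σ ^ n = σ ^ n * a := fun n => (Commute.pow_right haσ n).eq
  have hVσ : ∀ (n : ℕ), ∀ v ∈ Q ⊓ Q', σ ^ n * v * (σ ^ n)⁻¹ = v := fun n v hv => by
    rw [F.central (pow_mem hσ n) hv, mul_inv_cancel_right]
  have hkt0 : k * t * k⁻¹ * t⁻¹ ∈ Q ⊓ Q' := by
    set v := a * t * a⁻¹ * (σ ^ i * t * (σ ^ i)⁻¹)⁻¹ with hv
    have : k * t * k⁻¹ * t⁻¹ = σ ^ j * v * (σ ^ j)⁻¹ := by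
      have e1 : k * t * k⁻¹ = σ ^ j * (a * t * a⁻¹) * (σ ^ j)⁻¹ := by rw [hk, haσn]; group
      have e2 : σ ^ j * (σ ^ i * t * (σ ^ i)⁻¹)⁻¹ * (σ ^ j)⁻¹ = t⁻¹ := by
        calc σ ^ j * (σ ^ i * t * (σ ^ i)⁻¹)⁻¹ * (σ ^ j)⁻¹
            = (σ ^ j * σ ^ i) * t⁻¹ * (σ ^ j * σ ^ i)⁻¹ := by group
          _ = t⁻¹ := by rw [hσj, one_mul, inv_one, mul_one]
      rw [e1, ← e2, hv]; group
    rw [this, hVσ j v hit]
    exact hit
  have hkV : ∀ x, x ∈ Q ⊓ Q' ↔ k * x * k⁻¹ ∈ Q ⊓ Q' := by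
    intro x
    rw [hk, show a * σ ^ j * x * (a * σ ^ j)⁻¹ = a * (σ ^ j * x * (σ ^ j)⁻¹) * a⁻¹ by group, ← ha]
    constructor
    · intro hx; rwa [hVσ j x hx]
    · intro hx
      have h := hVσ (2 * j) _ hx
      rw [show σ ^ (2 * j) * (σ ^ j * x * (σ ^ j)⁻¹) * (σ ^ (2 * j))⁻¹ = (σ ^ 3) ^ j * x * ((σ ^ 3) ^ j)⁻¹ by
        rw [← pow_mul]; group, hσ3, one_pow, one_mul, inv_one, mul_one] at h
      rwa [← h] at hx
  have hkfree : ∀ v ∈ Q ⊓ Q', k * v * k⁻¹ = v → v = 1 := by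
    intro v hv e
    refine hfree v hv ?_
    rw [hk, show a * σ ^ j * v * (a * σ ^ j)⁻¹ = a * (σ ^ j * v * (σ ^ j)⁻¹) * a⁻¹ by group, hVσ j v hv] at e
    exact e
  -- fixed element of the coset
  let φ : ↥(Q ⊓ Q' : Subgroup G) → ↥(Q ⊓ Q' : Subgroup G) := fun v =>
    ⟨(v : G) * (k * v * k⁻¹)⁻¹, mul_mem v.2 (Subgroup.inv_mem _ ((hkV _).1 v.2))⟩
  have hφ : Function.Injective φ := by
    rintro ⟨v, hv⟩ ⟨w, hw⟩ e
    have e' : v * (k * v * k⁻¹)⁻¹ = w * (k * w * k⁻¹)⁻¹ := congrArg Subtype.val e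
    have hc : w⁻¹ * v ∈ Q ⊓ Q' := mul_mem (Subgroup.inv_mem _ hw) hv
    refine Subtype.ext ?_
    have : k * (w⁻¹ * v) * k⁻¹ = w⁻¹ * v := by
      calc k * (w⁻¹ * v) * k⁻¹ = (k * w * k⁻¹)⁻¹ * (k * v * k⁻¹) := by group
        _ = w⁻¹ * (w * (k * w * k⁻¹)⁻¹) * (k * v * k⁻¹) := by group
        _ = w⁻¹ * (v * (k * v * k⁻¹)⁻¹) * (k * v * k⁻¹) := by rw [e']
        _ = w⁻¹ * v := by group
    exact (inv_mul_eq_one.1 (hkfree _ hc this)).symm
  obtain ⟨⟨v, hv⟩, hφv⟩ := Finite.surjective_of_injective hφ ⟨_, hkt0⟩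
  have ev : v * (k * v * k⁻¹)⁻¹ = k * t * k⁻¹ * t⁻¹ := congrArg Subtype.val hφv
  set t' := v * t with ht'
  have hvt : t * v = v * t := F.central ⟨htC, mem_cent.2 htu⟩ hv
  have hkc : t * (k * v * k⁻¹) = k * v * k⁻¹ * t := F.central ⟨htC, mem_cent.2 htu⟩ ((hkV v).1 hv)
  have hkt' : k * t' * k⁻¹ = t' := by
    have e2 : k * t * k⁻¹ = v * (k * v * k⁻¹)⁻¹ * t := by rw [ev]; group
    calc k * t' * k⁻¹ = (k * v * k⁻¹) * (k * t * k⁻¹) := by rw [ht']; group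
      _ = (k * v * k⁻¹) * (v * (k * v * k⁻¹)⁻¹ * t) := by rw [e2]
      _ = t' := by
        have hc : (k * v * k⁻¹) * v = v * (k * v * k⁻¹) :=
          F.central (F.le_cv ((hkV v).1 hv)) hv
        rw [← mul_assoc, ← mul_assoc, hc, mul_inv_cancel_right]
  have ht'C : t' ∈ centralizer ({z} : Set G) := mul_mem (F.hz.loc.le hv.1) htC
  have ht'Q : t' ∉ Q := fun e => htQ (by
    have := mul_mem (Q.inv_mem hv.1) e
    simpa [ht'] using this)
  have ht'2 : t' * t' = 1 := by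
    calc t' * t' = v * (t * v) * t := by rw [ht']; group
      _ = (v * v) * (t * t) := by rw [hvt]; group
      _ = 1 := by rw [F.inf_sq hv, ht2, one_mul]
  have hvu : v * u = u * v := mem_cent.1 (F.hu.loc.le hv.2)
  have ht'u : t' * u = u * t' := by
    rw [ht', mul_assoc, htu, ← mul_assoc, hvu, mul_assoc]
  have hk3 : k ^ 3 = 1 := by
    have hmem : k ^ 3 ∈ zpowers σ := by
      rw [hk, (Commute.pow_right haσ j).mul_pow, ← pow_mul]
      exact mul_mem ha3 (pow_mem (mem_zpowers σ) _)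
    obtain ⟨n, hn⟩ := mem_zpowers_iff.1 hmem
    have hfix : k ^ 3 * t' * (k ^ 3)⁻¹ = t' := by
      have hc : Commute k t' := mul_inv_eq_iff_eq_mul.1 hkt'
      exact mul_inv_eq_iff_eq_mul.2 (hc.pow_left 3).eq
    by_contra h1
    rw [← hn] at h1 hfix
    have hσt : σ * t' * σ⁻¹ = t' := by
      have hcomm' : Commute (σ ^ n) t' := mul_inv_eq_iff_eq_mul.1 hfix
      have hmem' : σ ∈ zpowers (σ ^ n) := by
        haveI : Fact (Nat.Prime 3) := ⟨by norm_num⟩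
        have ho := orderOf_eq_prime hσ3 hσ1
        have hcard : Nat.card (zpowers σ) = 3 := by rw [Nat.card_zpowers, ho]
        haveI := Fintype.ofFinite (zpowers σ)
        have := mem_zpowers_of_prime_card hcard (g := (⟨σ ^ n, zpow_mem (mem_zpowers σ) n⟩ : zpowers σ))
          (g' := ⟨σ, mem_zpowers σ⟩) (fun e => h1 (congrArg Subtype.val e))
        obtain ⟨m, hm⟩ := mem_zpowers_iff.1 this
        exact mem_zpowers_iff.2 ⟨m, congrArg Subtype.val hm⟩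
      obtain ⟨m, hm⟩ := mem_zpowers_iff.1 hmem'
      have := hcomm'.zpow_left m
      rw [hm] at this
      exact mul_inv_eq_iff_eq_mul.2 this.eq
    obtain ⟨-, -, -, -, hst', -, -⟩ := F.outer_data ht'2 ht'C ht'Q ht'u hσ hσ3 hσ1
    exact hst' (by rw [hσt, mul_inv_cancel]; exact one_mem _)
  have hWW : centralizer ({z} : Set G) ⊓ centralizer ({t'} : Set G) = W := by
    have hle : W ≤ centralizer ({z} : Set G) ⊓ centralizer ({t'} : Set G) := fun x hx => ⟨hx.1, mem_cent.2 (by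
      rw [ht', ← mul_assoc, F.central ⟨hx.1, hWu hx⟩ hv, mul_assoc, mem_cent.1 hx.2, ← mul_assoc])⟩
    refine (eq_of_le_of_card_ge hle ?_).symm
    rw [hW16, F.hz.loc.card_inf_centralizer_outer ht'2 ht'C ht'Q]
  have hkσ : k * σ = σ * k := by
    rw [hk, mul_assoc, ← pow_succ, pow_succ', ← mul_assoc, haσ, mul_assoc]
  refine ⟨j, t', ⟨F, ht'2, ht'C, ht'Q, ht'u, hσ, hσ3, hσ1, hk3, hkσ, mul_inv_eq_iff_eq_mul.1 hkt', hkV,
    hkfree, ?_⟩⟩
  rw [hWW]
  intro x hx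
  have hkW : ∀ y ∈ W, k * y * k⁻¹ ∈ W := by
    intro y hy
    rw [hk, show a * σ ^ j * y * (a * σ ^ j)⁻¹ = a * (σ ^ j * y * (σ ^ j)⁻¹) * a⁻¹ by group]
    apply haW
    have hit : ∀ n : ℕ, σ ^ n * y * (σ ^ n)⁻¹ ∈ W := by
      intro n
      induction n with
      | zero => simpa using hy
      | succ n ih =>
        rw [pow_succ', show σ * σ ^ n * y * (σ * σ ^ n)⁻¹ = σ * (σ ^ n * y * (σ ^ n)⁻¹) * σ⁻¹ by group]
        exact hWσ _ ih
    exact hit j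
  refine ⟨hkW x hx, ?_⟩
  have hkσn : ∀ n : ℕ, k * σ ^ n = σ ^ n * k := fun n => (Commute.pow_right hkσ n).eq
  have hcase : ∀ n : ℕ, x * (σ ^ n * t * (σ ^ n)⁻¹)⁻¹ ∈ Q ⊓ Q' → k * x * k⁻¹ * x⁻¹ ∈ Q ⊓ Q' := by
    intro n hn
    set w := x * (σ ^ n * t * (σ ^ n)⁻¹)⁻¹ with hw
    set v₀ := k * t * k⁻¹ * t⁻¹ with hv₀
    have e : k * x * k⁻¹ * x⁻¹ = (k * w * k⁻¹) * (σ ^ n * v₀ * (σ ^ n)⁻¹) * w⁻¹ := by
      have hx' : x = w * (σ ^ n * t * (σ ^ n)⁻¹) := by rw [hw]; group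
      have h2 : k * (σ ^ n * t * (σ ^ n)⁻¹) * k⁻¹ = σ ^ n * (k * t * k⁻¹) * (σ ^ n)⁻¹ := by
        calc k * (σ ^ n * t * (σ ^ n)⁻¹) * k⁻¹ = (k * σ ^ n) * t * (k * σ ^ n)⁻¹ := by group
          _ = (σ ^ n * k) * t * (σ ^ n * k)⁻¹ := by rw [hkσn]
          _ = _ := by group
      rw [hx', show k * (w * (σ ^ n * t * (σ ^ n)⁻¹)) * k⁻¹ =
        (k * w * k⁻¹) * (k * (σ ^ n * t * (σ ^ n)⁻¹) * k⁻¹) by group, h2, hv₀]
      group
    rw [e, hVσ n _ hkt0]
    exact mul_mem (mul_mem ((hkV w).1 hn) hkt0) (Subgroup.inv_mem _ hn)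
  rcases hcover x hx with e | e | e | e
  · exact mul_mem ((hkV x).1 e) (Subgroup.inv_mem _ e)
  · exact hcase 0 (by simpa using e)
  · exact hcase 1 (by simpa using e)
  · exact hcase 2 e

/-- Every `u` lies under an outer involution. -/
theorem exists_outer_over : ∃ t : G, t * t = 1 ∧ t ∈ centralizer ({z} : Set G) ∧ t ∉ Q ∧ t * u = u * t := by
  classical
  obtain ⟨v, hv, hvC, hvQ⟩ := F.hz.exists_outer
  have h4 := F.hz.loc.card_inf_outer hv hvC hvQ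
  obtain ⟨w, hw, hw1, hwz⟩ : ∃ w ∈ Q ⊓ centralizer ({v} : Set G), w ≠ 1 ∧ w ≠ z := by
    by_contra hcon
    push Not at hcon
    have hsub : ((Q ⊓ centralizer ({v} : Set G) : Subgroup G) : Set G) ⊆ ({1, z} : Set G) := by
      intro x hx
      by_cases h1 : x = 1
      · exact Or.inl h1
      · exact Or.inr (hcon x hx h1)
    have := (Set.ncard_le_ncard hsub (Set.toFinite _)).trans (Set.ncard_insert_le _ _)
    rw [Set.ncard_singleton, ← Nat.card_coe_set_eq] at this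
    change Nat.card ↥(Q ⊓ centralizer ({v} : Set G) : Subgroup G) ≤ 2 at this
    omega
  obtain ⟨c, hc, he⟩ := F.hz.loc.inner_conj hw.1 (F.hz.loc.centralizer_inf_sq hv hvC hvQ hw.1 hw.2)
    ⟨hw1, hwz⟩ F.mem F.uu ⟨F.u_ne, F.ne⟩
  refine ⟨c * v * c⁻¹, invol_conj c hv, mul_mem (mul_mem hc hvC) (Subgroup.inv_mem _ hc), fun e => hvQ ?_, ?_⟩
  · have := F.hz.loc.conj_mem _ (Subgroup.inv_mem _ hc) _ e
    simpa [mul_assoc] using this
  · rw [← he]
    calc c * v * c⁻¹ * (c * w * c⁻¹) = c * (v * w) * c⁻¹ := by group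
      _ = c * (w * v) * c⁻¹ := by rw [mem_cent.1 hw.2]
      _ = _ := by group

theorem exists_rotation {σ : G} (hσ : σ ∈ centralizer ({z} : Set G) ⊓ centralizer ({u} : Set G))
    (hσ3 : σ ^ 3 = 1) (hσ1 : σ ≠ 1) :
    ∃ a : G, a * σ = σ * a ∧ a ^ 3 ∈ zpowers σ ∧ (∀ x, x ∈ Q ⊓ Q' ↔ a * x * a⁻¹ ∈ Q ⊓ Q') ∧
      (∀ v ∈ Q ⊓ Q', a * v * a⁻¹ = v → v = 1) := by
  classical
  haveI : Fact (Nat.Prime 3) := ⟨by norm_num⟩
  set K := centralizer ({z} : Set G) ⊓ centralizer ({u} : Set G) with hK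
  obtain ⟨-, q, hq, hquz⟩ := F.hz.loc.card_inf_inner F.mem F.u_ne F.ne
  obtain ⟨-, p, hp, hpzu⟩ := F.hu.loc.card_inf_inner F.mem' F.hz.loc.z_ne F.ne.symm
  set g := q * p with hg
  have hqz : q * z * q⁻¹ = z := mul_inv_eq_iff_eq_mul.2 (mem_cent.1 (F.hz.loc.le hq))
  have hpu : p * u * p⁻¹ = u := mul_inv_eq_iff_eq_mul.2 (mem_cent.1 (F.hu.loc.le hp))
  have hzu := F.comm
  have g1 : g * z * g⁻¹ = u := by
    calc g * z * g⁻¹ = (q * (p * z * p⁻¹) * q⁻¹) := by rw [hg]; group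
      _ = (q * z * q⁻¹) * (q * u * q⁻¹) := by rw [hpzu]; group
      _ = u := by rw [hqz, hquz, ← mul_assoc, hzu, mul_assoc, F.hz.loc.zz, mul_one]
  have g2 : g * u * g⁻¹ = u * z := by
    calc g * u * g⁻¹ = q * (p * u * p⁻¹) * q⁻¹ := by rw [hg]; group
      _ = u * z := by rw [hpu, hquz]
  have g3 : g * (u * z) * g⁻¹ = z := by
    calc g * (u * z) * g⁻¹ = (g * u * g⁻¹) * (g * z * g⁻¹) := by group
      _ = u * z * u := by rw [g1, g2]
      _ = z := by rw [mul_assoc, hzu, ← mul_assoc, F.uu, one_mul]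
  -- adjust inside the centralizer of the four-group
  have normg : ∀ x, x ∈ Q ⊓ Q' → g * x * g⁻¹ ∈ Q ⊓ Q' := by
    intro x hx
    refine F.mem_inf.2 ?_
    rcases F.mem_inf.1 hx with rfl | rfl | rfl | rfl
    · exact Or.inl (by simp)
    · exact Or.inr (Or.inr (Or.inl g1))
    · exact Or.inr (Or.inr (Or.inr g2))
    · exact Or.inr (Or.inl g3)
  have hfix : ∀ (b : G), (∀ x, x ∈ Q ⊓ Q' → b * x * b⁻¹ ∈ Q ⊓ Q') → ∀ x, x ∈ Q ⊓ Q' ↔ b * x * b⁻¹ ∈ Q ⊓ Q' := by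
    intro b hb x
    refine ⟨hb x, fun hx => ?_⟩
    let ψ : ↥(Q ⊓ Q' : Subgroup G) → ↥(Q ⊓ Q' : Subgroup G) := fun v => ⟨b * v * b⁻¹, hb v v.2⟩
    have hψ : Function.Injective ψ := fun v w e => Subtype.ext (by
      have e' : b * (v : G) * b⁻¹ = b * w * b⁻¹ := congrArg Subtype.val e
      simpa using e')
    obtain ⟨⟨y, hy⟩, e⟩ := Finite.surjective_of_injective hψ ⟨_, hx⟩
    have e' : b * y * b⁻¹ = b * x * b⁻¹ := congrArg Subtype.val e
    have : y = x := by simpa using e'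
    exact this ▸ hy
  have hgiff := hfix g normg
  have hgσ : g * σ * g⁻¹ ∈ K := F.normalizes_cv hgiff hσ
  have hK192 : Nat.card K = 192 := F.card_cv
  have hsyl : ∀ (b : G) (hb : b ∈ K), b ^ 3 = 1 → b ≠ 1 →
      ∃ P : Sylow 3 K, (P : Subgroup K) = zpowers (⟨b, hb⟩ : K) := by
    intro b hb h3 h1
    have hcard : Nat.card (zpowers (⟨b, hb⟩ : K)) = 3 := by
      rw [Nat.card_zpowers, Subgroup.orderOf_mk, orderOf_eq_prime h3 h1]
    refine ⟨(IsPGroup.of_card (n := 1) (hcard.trans (pow_one 3).symm)).toSylow ?_, rfl⟩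
    intro hdvd
    have h5i := (zpowers (⟨b, hb⟩ : K)).card_mul_index
    rw [hcard, hK192] at h5i
    obtain ⟨m, hm⟩ : 3 ∣ (zpowers (⟨b, hb⟩ : K)).index := hdvd
    omega
  obtain ⟨P, hP⟩ := hsyl σ hσ hσ3 hσ1
  obtain ⟨R, hR⟩ := hsyl _ hgσ (by rw [conj_pow, hσ3, mul_one, mul_inv_cancel])
    (fun e => hσ1 (conj_eq_one_iff.1 e))
  obtain ⟨⟨c, hc⟩, hcR⟩ := MulAction.exists_smul_eq K R P
  set n := c * g with hn
  have hcn : ∀ x, x ∈ Q ⊓ Q' → n * x * n⁻¹ = g * x * g⁻¹ := by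
    intro x hx
    rw [hn, show c * g * x * (c * g)⁻¹ = c * (g * x * g⁻¹) * c⁻¹ by group, F.central hc (normg x hx),
      mul_inv_cancel_right]
  have hnσ : n * σ * n⁻¹ ∈ zpowers σ := by
    have h1 : (⟨c, hc⟩ : K) * ⟨_, hgσ⟩ * (⟨c, hc⟩ : K)⁻¹ ∈ (P : Subgroup K) := by
      rw [← hcR, Sylow.coe_subgroup_smul]
      exact ⟨⟨_, hgσ⟩, hR ▸ mem_zpowers _, rfl⟩
    rw [hP] at h1
    obtain ⟨m, hm⟩ := mem_zpowers_iff.1 h1
    refine mem_zpowers_iff.2 ⟨m, ?_⟩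
    have := congrArg Subtype.val hm
    simp only [SubgroupClass.coe_zpow, Subgroup.coe_mul, InvMemClass.coe_inv] at this
    rw [this, hn]
    group
  -- the 3-part
  set N := orderOf n with hN
  have hNpos : 0 < N := orderOf_pos n
  set e3 := N.factorization 3 with he3
  set m := N / 3 ^ e3 with hm
  have hm3 : ¬ 3 ∣ m := Nat.not_dvd_ordCompl Nat.prime_three hNpos.ne'
  have hNm : 3 ^ e3 * m = N := Nat.ordProj_mul_ordCompl_eq_self N 3
  set a := n ^ m with ha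
  have ha3pow : a ^ 3 ^ e3 = 1 := by rw [ha, ← pow_mul, mul_comm, hNm, pow_orderOf_eq_one]
  have hnV : ∀ x, x ∈ Q ⊓ Q' → n * x * n⁻¹ ∈ Q ⊓ Q' := fun x hx => by rw [hcn x hx]; exact normg x hx
  have hnpowV : ∀ (i : ℕ) x, x ∈ Q ⊓ Q' → n ^ i * x * (n ^ i)⁻¹ ∈ Q ⊓ Q' := by
    intro i
    induction i with
    | zero => simp
    | succ i ih =>
      intro x hx
      rw [pow_succ', show n * n ^ i * x * (n * n ^ i)⁻¹ = n * (n ^ i * x * (n ^ i)⁻¹) * n⁻¹ by group]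
      exact hnV _ (ih x hx)
  have hn3 : ∀ x, x ∈ Q ⊓ Q' → n ^ 3 * x * (n ^ 3)⁻¹ = x := by
    intro x hx
    have e : ∀ y ∈ Q ⊓ Q', n * y * n⁻¹ = g * y * g⁻¹ := hcn
    rw [show n ^ 3 * x * (n ^ 3)⁻¹ = n * (n * (n * x * n⁻¹) * n⁻¹) * n⁻¹ by
          simp [pow_succ, mul_assoc],
      e x hx, e _ (normg _ hx), e _ (normg _ (normg _ hx))]
    rcases F.mem_inf.1 hx with rfl | rfl | rfl | rfl
    · simp
    · rw [g1, g2, g3]
    · rw [g2, g3, g1]
    · rw [g3, g1, g2]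
  have hn3i : ∀ (i : ℕ) x, x ∈ Q ⊓ Q' → (n ^ 3) ^ i * x * ((n ^ 3) ^ i)⁻¹ = x := by
    intro i x hx
    have : Commute (n ^ 3) x := mul_inv_eq_iff_eq_mul.1 (hn3 x hx)
    exact mul_inv_eq_iff_eq_mul.2 (this.pow_left i).eq
  have hfree : ∀ v ∈ Q ⊓ Q', a * v * a⁻¹ = v → v = 1 := by
    intro v hv e
    obtain ⟨i, hi | hi⟩ : ∃ i, m = 3 * i + 1 ∨ m = 3 * i + 2 := ⟨m / 3, by omega⟩
    · rw [ha, hi, pow_succ', pow_mul,
        show n * (n ^ 3) ^ i * v * (n * (n ^ 3) ^ i)⁻¹ = n * ((n ^ 3) ^ i * v * ((n ^ 3) ^ i)⁻¹) * n⁻¹ by group,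
        hn3i i v hv, hcn v hv] at e
      rcases F.mem_inf.1 hv with rfl | rfl | rfl | rfl
      · rfl
      · exact absurd (g1.symm.trans e) F.ne
      · exact absurd (g2.symm.trans e) F.prod_ne.2.2
      · exact absurd (g3.symm.trans e) F.prod_ne.2.1.symm
    · rw [ha, hi, show 3 * i + 2 = 2 + 3 * i by ring, pow_add, pow_mul,
        show n ^ 2 * (n ^ 3) ^ i * v * (n ^ 2 * (n ^ 3) ^ i)⁻¹ =
          n * (n * ((n ^ 3) ^ i * v * ((n ^ 3) ^ i)⁻¹) * n⁻¹) * n⁻¹ by group,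
        hn3i i v hv, hcn v hv, hcn _ (normg v hv)] at e
      rcases F.mem_inf.1 hv with rfl | rfl | rfl | rfl
      · rfl
      · rw [g1, g2] at e; exact absurd e F.prod_ne.2.1
      · rw [g2, g3] at e; exact absurd e F.ne.symm
      · rw [g3, g1] at e; exact absurd e F.prod_ne.2.2.symm
  have haN : ∀ i : ℕ, n ^ i * σ * (n ^ i)⁻¹ ∈ zpowers σ := by
    intro i
    induction i with
    | zero => simp
    | succ i ih =>
      obtain ⟨l, hl⟩ := mem_zpowers_iff.1 ih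
      rw [pow_succ', show n * n ^ i * σ * (n * n ^ i)⁻¹ = n * (n ^ i * σ * (n ^ i)⁻¹) * n⁻¹ by group, ← hl,
        ← conj_zpow]
      exact zpow_mem hnσ l
  have haσ : a * σ = σ * a := by
    have h1 : a * σ * a⁻¹ ∈ zpowers σ := haN m
    have hcases : a * σ * a⁻¹ = σ ∨ a * σ * a⁻¹ = σ⁻¹ := by
      obtain ⟨l, hl⟩ := mem_zpowers_iff.1 h1
      have hl3 : σ ^ l = σ ^ (l % 3) := by
        conv_lhs => rw [← Int.emod_add_mul_ediv l 3, zpow_add, zpow_mul, zpow_ofNat, hσ3, one_zpow, mul_one]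
      have h0 := Int.emod_nonneg l (show (3 : ℤ) ≠ 0 by norm_num)
      have h3' := Int.emod_lt_of_pos l (show (0 : ℤ) < 3 by norm_num)
      rw [hl3] at hl
      obtain e | e | e : l % 3 = 0 ∨ l % 3 = 1 ∨ l % 3 = 2 := by omega
      · rw [e, zpow_zero] at hl; exact absurd (conj_eq_one_iff.1 hl.symm) hσ1
      · rw [e, zpow_one] at hl; exact Or.inl hl.symm
      · right
        rw [← hl, e]
        exact eq_inv_of_mul_eq_one_left (by rw [← zpow_add_one]; exact_mod_cast hσ3)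
    rcases hcases with e | e
    · exact mul_inv_eq_iff_eq_mul.1 e
    · exfalso
      have hodd : ∀ i : ℕ, a ^ (2 * i + 1) * σ * (a ^ (2 * i + 1))⁻¹ = σ⁻¹ := by
        intro i
        induction i with
        | zero => simpa using e
        | succ i ih =>
          rw [show 2 * (i + 1) + 1 = 2 + (2 * i + 1) by ring, pow_add,
            show a ^ 2 * a ^ (2 * i + 1) * σ * (a ^ 2 * a ^ (2 * i + 1))⁻¹ =
              a * (a * (a ^ (2 * i + 1) * σ * (a ^ (2 * i + 1))⁻¹) * a⁻¹) * a⁻¹ by group, ih,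
            show a * σ⁻¹ * a⁻¹ = (a * σ * a⁻¹)⁻¹ by group, e, inv_inv, e]
      obtain ⟨i, hi⟩ : Odd (3 ^ e3) := Odd.pow (by decide)
      have := hodd i
      rw [← hi, ha3pow, one_mul, inv_one, mul_one] at this
      have h2 : σ * σ = 1 := by nth_rewrite 1 [this]; exact inv_mul_cancel σ
      exact hσ1 (eq_one_of_pow_odd_two (k := 1) (by rw [pow_one, sq]; exact h2) (by decide) hσ3)
  refine ⟨a, haσ, ?_, hfix a (fun x hx => hnpowV m x hx), hfree⟩
  -- `a ^ 3` lies in the Sylow subgroup `⟨σ⟩` of the centralizer of the four-group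
  have ha3K : a ^ 3 ∈ K := by
    have key : ∀ w ∈ Q ⊓ Q', a ^ 3 * w = w * a ^ 3 := fun w hw => mul_inv_eq_iff_eq_mul.1 (by
      rw [ha, ← pow_mul, mul_comm, pow_mul]; exact hn3i m w hw)
    exact ⟨mem_cent.2 (key z (F.mem_inf.2 (Or.inr (Or.inl rfl)))),
      mem_cent.2 (key u (F.mem_inf.2 (Or.inr (Or.inr (Or.inl rfl)))))⟩
  have hcomm3 : Commute (⟨a ^ 3, ha3K⟩ : K) ⟨σ, hσ⟩ := Subtype.ext ((Commute.pow_left haσ 3).eq)
  set H := (P : Subgroup K) ⊔ zpowers (⟨a ^ 3, ha3K⟩ : K) with hH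
  have hpg : IsPGroup 3 (zpowers (⟨a ^ 3, ha3K⟩ : K)) := by
    have h1 : orderOf (⟨a ^ 3, ha3K⟩ : K) ∣ 3 ^ e3 := orderOf_dvd_of_pow_eq_one (Subtype.ext (by
      rw [SubgroupClass.coe_pow]
      show (a ^ 3) ^ 3 ^ e3 = 1
      rw [← pow_mul, mul_comm, pow_mul, ha3pow, one_pow]))
    obtain ⟨r, -, hr⟩ := (Nat.dvd_prime_pow Nat.prime_three).1 h1
    exact IsPGroup.of_card (n := r) (by rw [Nat.card_zpowers, hr])
  have hnorm : (P : Subgroup K) ≤ normalizer ((zpowers (⟨a ^ 3, ha3K⟩ : K)) : Set K) := by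
    rw [hP, zpowers_le]
    refine Subgroup.mem_normalizer_fintype fun x hx => ?_
    obtain ⟨l, rfl⟩ := mem_zpowers_iff.1 hx
    rw [← (hcomm3.zpow_left l).eq, mul_inv_cancel_right]
    exact hx
  have hHp : IsPGroup 3 H := P.isPGroup'.to_sup_of_normal_right' hpg hnorm
  have hHP : H = (P : Subgroup K) := P.3 hHp le_sup_left
  have h2 : (⟨a ^ 3, ha3K⟩ : K) ∈ (P : Subgroup K) := hHP ▸ le_sup_right (α := Subgroup K) (mem_zpowers _)
  rw [hP] at h2
  obtain ⟨l, hl⟩ := mem_zpowers_iff.1 h2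
  exact mem_zpowers_iff.2 ⟨l, congrArg Subtype.val hl⟩

theorem exists_frame : ∃ t σ k : G, Frame z u t σ k Q Q' := by
  obtain ⟨t, ht2, htC, htQ, htu⟩ := F.exists_outer_over
  obtain ⟨σ, hσ, hσ3, hσ1⟩ := F.exists_three
  obtain ⟨a, h1, h2, h3, h4⟩ := F.exists_rotation hσ hσ3 hσ1
  obtain ⟨j, t', hf⟩ := F.rotate ht2 htC htQ htu hσ hσ3 hσ1 h1 h2 h3 h4
  exact ⟨t', σ, _, hf⟩

end Four

end CfsgLib.Recog.HJType
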