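import Cfsg.Agent.Lib.Recog.JankoTwoType.ThreeB
import Cfsg.Agent.Lib.PGroups.Extraspecial

/-!
Owner: helper29. Groups of Hall–Janko type: the Sylow subgroup for the prime three.
-/

set_option autoImplicit false
set_option linter.all false

namespace CfsgLib.Recog.HJType

open Subgroup Cfsg CfsgLib.Recog

local notation "A6" => alternatingGroup (Fin 6)

variable {G : Type*} [Group G]

/-- Data on a Sylow 3-subgroup: `σ` generates its center and `k` centralizes an involution of the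
second class. -/
structure TData (z σ k : G) (P : Subgroup G) : Prop where
  σ3 : σ ^ 3 = 1
  σ1 : σ ≠ 1
  k3 : k ^ 3 = 1
  k1 : k ≠ 1
  card : Nat.card P = 27
  σP : σ ∈ P
  kP : k ∈ P
  σ_out : ∀ t : G, t * t = 1 → t ≠ 1 → t * σ = σ * t → IsConj z t
  k_out : ∃ t : G, orderOf t = 2 ∧ ¬ IsConj z t ∧ k * t = t * k
  cent : ∀ p ∈ P, p * σ = σ * p
  cardσ : Nat.card ↥(centralizer ({σ} : Set G)) = 1080
  quotσ : ∃ π : ↥(centralizer ({σ} : Set G)) →* A6, Function.Surjective π ∧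
    ∀ y, π y = 1 ↔ (y : G) ∈ zpowers σ
  comm_mem : ∀ a ∈ P, ∀ b ∈ P, a * b * a⁻¹ * b⁻¹ ∈ zpowers σ
  noncomm : ∀ c ∈ P, c ∉ zpowers σ → ∃ p ∈ P, p * c ≠ c * p
  inverted : ∃ g : G, g * σ * g⁻¹ = σ⁻¹

theorem cube_cases {σ : G} (hσ : σ ^ 3 = 1) {w : G} (hw : w ∈ zpowers σ) : w = 1 ∨ w = σ ∨ w = σ⁻¹ := by
  obtain ⟨i, rfl⟩ := mem_zpowers_iff.1 hw
  have hi : i % 3 = 0 ∨ i % 3 = 1 ∨ i % 3 = 2 := by omega
  have h1 : σ ^ i = σ ^ (i % 3) := by
    conv_lhs => rw [← Int.emod_add_mul_ediv i 3, zpow_add, zpow_mul, zpow_ofNat, hσ, one_zpow, mul_one]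
  rcases hi with h | h | h <;> rw [h1, h]
  · exact Or.inl (zpow_zero σ)
  · exact Or.inr (Or.inl (zpow_one σ))
  · refine Or.inr (Or.inr (eq_inv_of_mul_eq_one_left ?_))
    rw [zpow_ofNat, ← pow_succ, hσ]

theorem dvd_twentyseven {a b : ℕ} (ha : a ∣ 27) (hb : b ∣ 27) (h3 : 3 < a) (hlt : a < b) : b = 27 := by
  have e : Nat.divisors 27 = {1, 3, 9, 27} := by decide +kernel
  have ha' := Nat.mem_divisors.2 ⟨ha, by norm_num⟩
  have hb' := Nat.mem_divisors.2 ⟨hb, by norm_num⟩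
  rw [e] at ha' hb'
  simp only [Finset.mem_insert, Finset.mem_singleton] at ha' hb'
  omega

/-- In a group where commutators with `c` are central, a conjugate `c * w ≠ c` gives every `c * w ^ j`. -/
theorem conj_pow_right {p c w : G} (hpc : p * c * p⁻¹ = c * w) (hpw : p * w = w * p) (n : ℕ) :
    p ^ n * c * (p ^ n)⁻¹ = c * w ^ n := by
  induction n with
  | zero => simp
  | succ n ih =>
    rw [pow_succ' p, show p * p ^ n * c * (p * p ^ n)⁻¹ = p * (p ^ n * c * (p ^ n)⁻¹) * p⁻¹ by group, ih,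
      show p * (c * w ^ n) * p⁻¹ = (p * c * p⁻¹) * (p * w ^ n * p⁻¹) by group, hpc,
      ((show Commute p w from hpw).pow_right n).eq, mul_inv_cancel_right, mul_assoc, ← pow_succ']

variable [Finite G] {z : G} {Q : Subgroup G}

theorem Hyp.card_sylow_three (h : Hyp z Q) (P : Sylow 3 G) : Nat.card (P : Subgroup G) = 27 := by
  haveI : Fact (Nat.Prime 3) := ⟨Nat.prime_three⟩
  rw [Sylow.card_eq_multiplicity P, h.card_group, show (604800 : ℕ) = 3 ^ 3 * 22400 by norm_num,
    Nat.factorization_mul (by norm_num) (by norm_num), Finsupp.add_apply,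
    Nat.Prime.factorization_pow (by norm_num), Finsupp.single_eq_same,
    Nat.factorization_eq_zero_of_not_dvd (by norm_num : ¬ (3 ∣ 22400))]
  norm_num

set_option maxHeartbeats 1000000 in
theorem Hyp.exists_tData (h : Hyp z Q) : ∃ (σ k : G) (P : Subgroup G), TData z σ k P := by
  classical
  haveI : Fact (Nat.Prime 3) := ⟨Nat.prime_three⟩
  obtain ⟨u, t, σ, k, Q', F⟩ := h.exists_frame
  obtain ⟨hinv, hquot⟩ := F.four.sigma_quot F.σmem F.σ3 F.σ1
  have hk1 : k ≠ 1 := F.k_ne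
  have hkσ : k ∉ zpowers σ := fun hmem => by
    obtain ⟨j, hj⟩ := mem_zpowers_iff.1 hmem
    refine F.four.hz.loc.z_ne (F.kfree z ⟨F.four.hz.loc.z_mem, F.four.mem'⟩ ?_)
    rw [← hj, ((show Commute σ z from mem_cent.1 F.σmem.1).zpow_left j).eq, mul_inv_cancel_right]
  -- the centralizer of a central element has order divisible by 27
  set R := zpowers σ ⊔ zpowers k with hR
  have hRp : IsPGroup 3 R := IsPGroup.to_sup_of_normal_right'
    (IsPGroup.of_card (n := 1) (by rw [Nat.card_zpowers, orderOf_eq_prime F.σ3 F.σ1, pow_one]))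
    (IsPGroup.of_card (n := 1) (by rw [Nat.card_zpowers, orderOf_eq_prime F.k3 hk1, pow_one]))
    (zpowers_le.2 (Subgroup.mem_normalizer_fintype fun y hy => by
      obtain ⟨j, rfl⟩ := mem_zpowers_iff.1 hy
      rw [← ((show Commute k σ from F.kσ).zpow_left j).eq, mul_inv_cancel_right]
      exact hy))
  obtain ⟨P₀, hP₀⟩ := hRp.exists_le_sylow
  set P := (P₀ : Subgroup G) with hP
  have hcard : Nat.card P = 27 := h.card_sylow_three P₀
  have hσP : σ ∈ P := hP₀ (mem_sup_left (mem_zpowers σ))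
  have hkP : k ∈ P := hP₀ (mem_sup_right (mem_zpowers k))
  have hbig : ∀ a, (∀ p ∈ P, p * a = a * p) → 27 ∣ Nat.card ↥(centralizer ({a} : Set G)) := fun a ha =>
    hcard ▸ card_dvd_of_le (fun p hp => mem_cent.2 (ha p hp))
  have hzt := F.not_conj
  have hk180 := h.three_card_dvd F.ord_t hzt F.kt F.k3 hk1
  have hknc : ∃ p ∈ P, p * k ≠ k * p := by
    by_contra hno
    push Not at hno
    have := (hbig k hno).trans hk180
    norm_num at this
  have hna : ¬ IsMulCommutative P := fun hc => by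
    obtain ⟨p, hp, hpk⟩ := hknc
    haveI := hc
    exact hpk (congrArg Subtype.val (IsMulCommutative.is_comm.comm (⟨p, hp⟩ : P) ⟨k, hkP⟩))
  have hE := CfsgLib.PGroups.isExtraspecial_of_card_cube (E := P) (p := 3) hna (by rw [hcard]; norm_num)
  have hZ3 : Nat.card (Subgroup.center P) = 3 := hE.2
  obtain ⟨⟨⟨w, hwP⟩, hwc⟩, hw1'⟩ : ∃ w : Subgroup.center P, w ≠ 1 := by
    haveI : Nontrivial (Subgroup.center P) := by rw [← Finite.one_lt_card_iff_nontrivial, hZ3]; norm_num
    exact exists_ne 1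
  have hw1 : w ≠ 1 := fun h' => hw1' (Subtype.ext (Subtype.ext h'))
  have hw3 : w ^ 3 = 1 := by
    have := pow_card_eq_one' (x := (⟨⟨w, hwP⟩, hwc⟩ : Subgroup.center P))
    rw [hZ3] at this
    exact congrArg (fun y : Subgroup.center P => ((y : P) : G)) this
  have hwcent : ∀ p ∈ P, p * w = w * p := fun p hp => congrArg Subtype.val (mem_center_iff.1 hwc ⟨p, hp⟩)
  have hcenter : ∀ c ∈ P, (∀ p ∈ P, p * c = c * p) → c ∈ zpowers w := by
    intro c hc hcc
    have hle : zpowers (⟨w, hwP⟩ : P) = Subgroup.center P := by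
      refine Subgroup.eq_of_le_of_card_ge (zpowers_le.2 hwc) ?_
      rw [hZ3, Nat.card_zpowers, Subgroup.orderOf_mk, orderOf_eq_prime hw3 hw1]
    have hm : (⟨c, hc⟩ : P) ∈ Subgroup.center P := mem_center_iff.2 fun p => Subtype.ext (hcc p p.2)
    rw [← hle] at hm
    obtain ⟨j, hj⟩ := mem_zpowers_iff.1 hm
    exact mem_zpowers_iff.2 ⟨j, congrArg Subtype.val hj⟩
  have hcommw : ∀ a ∈ P, ∀ b ∈ P, a * b * a⁻¹ * b⁻¹ ∈ zpowers w := by
    intro a ha b hb
    haveI := IsPGroup.isMulCommutative_of_card_eq_prime_sq (p := 3) (G := P ⧸ Subgroup.center P) (by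
      have := card_eq_card_quotient_mul_card_subgroup (Subgroup.center P)
      rw [hcard, hZ3] at this
      omega)
    set X : P := ⟨a, ha⟩ * ⟨b, hb⟩ * ⟨a, ha⟩⁻¹ * ⟨b, hb⟩⁻¹ with hX
    have hm : X ∈ Subgroup.center P := by
      rw [← QuotientGroup.eq_one_iff]
      have hab := IsMulCommutative.is_comm.comm ((⟨a, ha⟩ : P) : P ⧸ Subgroup.center P) ((⟨b, hb⟩ : P) : P ⧸ Subgroup.center P)
      show ((⟨a, ha⟩ * ⟨b, hb⟩ * ⟨a, ha⟩⁻¹ * ⟨b, hb⟩⁻¹ : P) : P ⧸ Subgroup.center P) = 1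
      rw [QuotientGroup.mk_mul, QuotientGroup.mk_mul, QuotientGroup.mk_mul, QuotientGroup.mk_inv,
        QuotientGroup.mk_inv, hab, mul_inv_cancel_right, mul_inv_cancel]
    exact hcenter (X : G) X.2 fun p hp => congrArg Subtype.val (mem_center_iff.1 hm ⟨p, hp⟩)
  -- `σ` is central
  have hσw : σ ∈ zpowers w := by
    by_contra hσw
    have hnc : ∃ p ∈ P, p * σ ≠ σ * p := by
      by_contra hno
      push Not at hno
      exact hσw (hcenter σ hσP hno)
    obtain ⟨p, hp, hpσ⟩ := hnc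
    have hwσ : w * σ = σ * w := (hwcent σ hσP).symm
    set R' := zpowers σ ⊔ zpowers w with hR'
    have hkR' : k ∈ R' := by
      by_contra hk'
      -- otherwise the group is abelian
      set S := closure ({σ, w, k} : Set G) with hS
      have hSP : S ≤ P := (closure_le _).2 (by rintro y (rfl | rfl | rfl) <;> assumption)
      have hScomm : S ≤ centralizer ({k} : Set G) := (closure_le _).2 (by
        rintro y (rfl | rfl | rfl)
        exacts [mem_cent.2 F.kσ.symm, mem_cent.2 (hwcent k hkP).symm, mem_cent.2 rfl])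
      have hR'S : R' ≤ S := sup_le (zpowers_le.2 (subset_closure (by simp))) (zpowers_le.2 (subset_closure (by simp)))
      have h9 : 3 < Nat.card R' := by
        by_contra hle
        apply hσw
        have := Subgroup.eq_of_le_of_card_ge (le_sup_right : zpowers w ≤ R')
          (by rw [Nat.card_zpowers, orderOf_eq_prime hw3 hw1]; exact not_lt.1 hle)
        rw [this]; exact mem_sup_left (mem_zpowers σ)
      have hlt : Nat.card R' < Nat.card S := by
        by_contra hle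
        exact hk' ((Subgroup.eq_of_le_of_card_ge hR'S (not_lt.1 hle)).ge (subset_closure (by simp)))
      have hd1 : Nat.card R' ∣ Nat.card S := card_dvd_of_le hR'S
      have hd2 : Nat.card S ∣ 27 := hcard ▸ card_dvd_of_le hSP
      have hSeq : S = P := Subgroup.eq_of_le_of_card_ge hSP
        (by rw [hcard, dvd_twentyseven (hd1.trans hd2) hd2 h9 hlt])
      obtain ⟨q, hq, hqk⟩ := hknc
      exact hqk (mem_cent.1 (hScomm (hSeq.ge hq)))
    have hR'n : zpowers w ≤ normalizer (zpowers σ : Set G) := zpowers_le.2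
      (Subgroup.mem_normalizer_fintype fun y hy => by
        obtain ⟨j, rfl⟩ := mem_zpowers_iff.1 hy
        rw [((show Commute w σ from hwσ).zpow_right j).eq, mul_inv_cancel_right]
        exact hy)
    have hk'' : k ∈ (↑(zpowers σ ⊔ zpowers w) : Set G) := hkR'
    rw [Subgroup.coe_mul_of_right_le_normalizer_left _ _ hR'n] at hk''
    obtain ⟨a, ha, b, hb, hab⟩ := Set.mem_mul.1 hk''
    have hpw : ∀ {y}, y ∈ zpowers w → ∀ q ∈ P, q * y = y * q := by
      intro y hy q hq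
      obtain ⟨j, rfl⟩ := mem_zpowers_iff.1 hy
      exact ((show Commute q w from hwcent q hq).zpow_right j).eq
    set c := p * σ * p⁻¹ * σ⁻¹ with hc
    have hcw : c ∈ zpowers w := hcommw p hp σ hσP
    have hσc : σ⁻¹ * (p * σ * p⁻¹) = c := by
      calc σ⁻¹ * (p * σ * p⁻¹) = σ⁻¹ * (c * σ) := by rw [hc]; group
        _ = σ⁻¹ * (σ * c) := by rw [hpw hcw σ hσP]
        _ = c := by group
    have hc1 : c ≠ 1 := fun h' => hpσ (mul_inv_eq_iff_eq_mul.1 (mul_inv_eq_one.1 h'))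
    -- conjugates of `σ` fill the coset
    have hfill : ∀ y ∈ zpowers w, IsConj σ (σ * y) := by
      intro y hy
      have hcz : zpowers c = zpowers w := by
        refine Subgroup.eq_of_le_of_card_ge (zpowers_le.2 hcw) ?_
        rcases cube_cases hw3 hcw with e | e | e
        · exact absurd e hc1
        · rw [e]
        · rw [e, zpowers_inv]
      rw [← hcz] at hy
      obtain ⟨n, hn⟩ := mem_powers_iff_mem_zpowers.2 hy
      refine isConj_iff.2 ⟨p ^ n, ?_⟩
      rw [conj_pow_right (w := c) (by rw [← hσc]; group) (hpw hcw p hp).symm.symm n]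
      exact congrArg (σ * ·) hn
    obtain ⟨t', ht', hzt', hkt'⟩ : ∃ t', orderOf t' = 2 ∧ ¬ IsConj z t' ∧ k * t' = t' * k := ⟨t, F.ord_t, hzt, F.kt⟩
    have final : IsConj σ k ∨ IsConj σ k⁻¹ := by
      rcases cube_cases F.σ3 ha with e | e | e
      · exfalso
        obtain ⟨q, hq, hqk⟩ := hknc
        rw [← hab, e, one_mul] at hqk
        exact hqk (hpw hb q hq)
      · exact Or.inl (by rw [← hab, e]; exact hfill b hb)
      · refine Or.inr ?_
        rw [← hab, e, mul_inv_rev, inv_inv, ← hpw (Subgroup.inv_mem _ hb) σ hσP]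
        exact hfill _ (Subgroup.inv_mem _ hb)
    obtain ⟨g, hg⟩ : ∃ g : G, g * σ * g⁻¹ = k ∨ g * σ * g⁻¹ = k⁻¹ := by
      rcases final with e | e <;> obtain ⟨g, hg⟩ := isConj_iff.1 e
      exacts [⟨g, Or.inl hg⟩, ⟨g, Or.inr hg⟩]
    have hcm : (g * σ * g⁻¹) * t' = t' * (g * σ * g⁻¹) := by
      rcases hg with e | e <;> rw [e]
      · exact hkt'
      · exact (show Commute k t' from hkt').inv_left.eq
    obtain ⟨ht2, ht1⟩ := inv_pair ht'
    refine hzt' ((hinv (g⁻¹ * t' * g⁻¹⁻¹) (invol_conj _ ht2) (fun h' => ht1 (conj_eq_one_iff.1 h')) ?_).trans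
      (isConj_iff.2 ⟨g⁻¹, rfl⟩ : IsConj t' _).symm)
    calc g⁻¹ * t' * g⁻¹⁻¹ * σ = g⁻¹ * (t' * (g * σ * g⁻¹)) * g := by group
      _ = g⁻¹ * ((g * σ * g⁻¹) * t') * g := by rw [hcm]
      _ = _ := by group
  have hzw : zpowers w = zpowers σ := (Subgroup.eq_of_le_of_card_ge (zpowers_le.2 hσw)
    (by rw [Nat.card_zpowers, Nat.card_zpowers, orderOf_eq_prime hw3 hw1, orderOf_eq_prime F.σ3 F.σ1])).symm
  have hcentσ : ∀ p ∈ P, p * σ = σ * p := by
    intro p hp
    obtain ⟨j, hj⟩ := mem_zpowers_iff.1 hσw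
    rw [← hj]
    exact ((show Commute p w from hwcent p hp).zpow_right j).eq
  obtain ⟨h1080, hπ⟩ := hquot ⟨k, F.kσ, F.k3, hkσ⟩ (hbig σ hcentσ)
  refine ⟨σ, k, P, F.σ3, F.σ1, F.k3, hk1, hcard, hσP, hkP, hinv, ⟨t, F.ord_t, hzt, F.kt⟩, hcentσ, h1080, hπ,
    fun a ha b hb => hzw ▸ hcommw a ha b hb, ?_, ?_⟩
  · intro c hc hcσ
    by_contra hno
    push Not at hno
    exact hcσ (hzw ▸ hcenter c hc hno)
  · -- inversion inside `C(z)`
    set C := centralizer ({z} : Set G) with hC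
    haveI : Fact (Nat.Prime 3) := ⟨Nat.prime_three⟩
    set s : C := ⟨σ, F.σmem.1⟩ with hs
    have hs3 : s ^ 3 = 1 := Subtype.ext F.σ3
    have hs1 : s ≠ 1 := fun h' => F.σ1 (congrArg Subtype.val h')
    let S : Sylow 3 C := (IsPGroup.of_card (n := 1) (by
      rw [Nat.card_zpowers, orderOf_eq_prime hs3 hs1, pow_one]) : IsPGroup 3 (zpowers s)).toSylow (by
      intro hd
      have h1 := (zpowers s).card_mul_index
      rw [Nat.card_zpowers, orderOf_eq_prime hs3 hs1, show Nat.card ↥C = 1920 from h.loc.card_centralizer] at h1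
      obtain ⟨d, hd'⟩ := hd
      omega)
    by_contra hno
    push Not at hno
    have hNC : normalizer ((S : Subgroup C) : Set C) = centralizer ({s} : Set C) := by
      ext g
      constructor
      · intro hg
        have hm : g * s * g⁻¹ ∈ zpowers s := (mem_normalizer_iff.1 hg s).1 (mem_zpowers s)
        rcases cube_cases hs3 hm with e | e | e
        · exact absurd (conj_eq_one_iff.1 e) hs1
        · exact mem_cent.2 (mul_inv_eq_iff_eq_mul.1 e)
        · exact absurd (congrArg Subtype.val e) (hno g)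
      · intro hg
        refine Subgroup.mem_normalizer_fintype fun y hy => ?_
        obtain ⟨j, rfl⟩ := mem_zpowers_iff.1 hy
        rw [((show Commute g s from mem_cent.1 hg).zpow_right j).eq, mul_inv_cancel_right]
        exact hy
    have h24 : Nat.card ↥(centralizer ({s} : Set C)) = 24 := by
      obtain ⟨h8, -⟩ := F.four.card_fix F.σmem F.σ3 F.σ1
      have hh : Nat.card (↥(Q ⊓ centralizer ({σ} : Set G) : Subgroup G) × ↥(zpowers σ)) = 24 := by
        rw [Nat.card_prod, h8, Nat.card_zpowers, orderOf_eq_prime F.σ3 F.σ1]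
      rw [← hh]
      refine (Nat.card_congr (Equiv.ofBijective
        (fun p : ↥(Q ⊓ centralizer ({σ} : Set G) : Subgroup G) × ↥(zpowers σ) =>
          (⟨⟨(p.1 : G) * p.2, mul_mem (h.loc.le p.1.2.1) ((zpowers_le.2 F.σmem.1) p.2.2)⟩, mem_cent.2 (Subtype.ext (by
            show (p.1 : G) * p.2 * σ = σ * ((p.1 : G) * p.2)
            obtain ⟨j, hj⟩ := mem_zpowers_iff.1 p.2.2
            rw [← hj]
            exact ((show Commute (p.1 : G) σ from mem_cent.1 p.1.2.2).mul_left ((Commute.refl σ).zpow_left j)).eq))⟩ :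
            ↥(centralizer ({s} : Set C)))) ⟨?_, ?_⟩)).symm
      · rintro ⟨⟨d, hd⟩, ⟨a, ha⟩⟩ ⟨⟨d', hd'⟩, ⟨a', ha'⟩⟩ he
        have he' : d * a = d' * a' := congrArg (fun y : ↥(centralizer ({s} : Set C)) => ((y : C) : G)) he
        have h2 : d'⁻¹ * d = a' * a⁻¹ := by
          rw [inv_mul_eq_iff_eq_mul, ← mul_assoc, ← he', mul_inv_cancel_right]
        have h3 : d'⁻¹ * d = 1 := by
          have hm : d'⁻¹ * d ∈ zpowers σ := h2 ▸ mul_mem ha' (Subgroup.inv_mem _ ha)
          have h8' := pow_card_eq_one' (x := (⟨d'⁻¹ * d, mul_mem (Subgroup.inv_mem _ hd') hd⟩ :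
            ↥(Q ⊓ centralizer ({σ} : Set G) : Subgroup G)))
          rw [h8] at h8'
          obtain ⟨j, hj⟩ := mem_zpowers_iff.1 hm
          exact eq_one_of_pow_odd_two (k := 3) (n := 3) (congrArg Subtype.val h8') (by decide)
            (by rw [← hj, ← zpow_natCast, ← zpow_mul, mul_comm, zpow_mul, zpow_natCast, F.σ3, one_zpow])
        obtain rfl : d' = d := inv_mul_eq_one.1 h3
        obtain rfl : a = a' := mul_left_cancel he'
        rfl
      · rintro ⟨⟨y, hy⟩, hys⟩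
        obtain ⟨d, hd, a, ha, rfl⟩ := F.four.mem_fix_mul F.σmem F.σ3 F.σ1 hy (congrArg Subtype.val (mem_cent.1 hys))
        exact ⟨(⟨d, hd⟩, ⟨a, ha⟩), rfl⟩
    have hn := card_sylow_modEq_one 3 C
    have hidx := (normalizer ((S : Subgroup C) : Set C)).card_mul_index
    rw [show (normalizer ((S : Subgroup C) : Set C)).index = Nat.card (Sylow 3 C) from
      S.card_eq_index_normalizer.symm, hNC, h24, show Nat.card ↥C = 1920 from h.loc.card_centralizer] at hidx
    unfold Nat.ModEq at hn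
    omega

/-- A noncentral element of order three is conjugate to `k`. -/
theorem TData.conj_k {σ k : G} {P : Subgroup G} (T : TData z σ k P) (h : Hyp z Q) {c : G} (hc : c ∈ P)
    (hc3 : c ^ 3 = 1) (hcσ : c ∉ zpowers σ) : IsConj c k := by
  classical
  haveI : Fact (Nat.Prime 3) := ⟨Nat.prime_three⟩
  obtain ⟨π, hπ, hker⟩ := T.quotσ
  have hcY : c ∈ centralizer ({σ} : Set G) := mem_cent.2 (T.cent c hc)
  have hc1 : c ≠ 1 := fun h' => hcσ (h' ▸ one_mem _)
  obtain ⟨vb, hv2, hv1, hvc, hvne, hvrel⟩ := six_three_klein (π ⟨c, hcY⟩)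
    (by rw [← map_mul, ← map_mul, show (⟨c, hcY⟩ : centralizer ({σ} : Set G)) * ⟨c, hcY⟩ * ⟨c, hcY⟩ = 1 from
      Subtype.ext (by show c * c * c = 1; rw [← pow_three', hc3]), map_one])
    (fun h' => hcσ ((hker _).1 h'))
  obtain ⟨⟨v₀, hv₀⟩, hv₀v⟩ := hπ vb
  set v := v₀ ^ 3 with hv
  have hvY : v ∈ centralizer ({σ} : Set G) := pow_mem hv₀ 3
  have hπv : π ⟨v, hvY⟩ = vb := by
    rw [show (⟨v, hvY⟩ : centralizer ({σ} : Set G)) = ⟨v₀, hv₀⟩ ^ 3 from rfl, map_pow, hv₀v, pow_succ, sq, hv2, one_mul]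
  have hvv : v * v = 1 := by
    have h2 : v₀ * v₀ ∈ zpowers σ := (hker (⟨v₀, hv₀⟩ * ⟨v₀, hv₀⟩)).1 (by rw [map_mul, hv₀v, hv2])
    obtain ⟨j, hj⟩ := mem_zpowers_iff.1 h2
    calc v * v = (v₀ * v₀) ^ 3 := by rw [hv, ← sq v₀, ← pow_add, ← pow_mul]
      _ = 1 := by rw [← hj, ← zpow_natCast, ← zpow_mul, mul_comm, zpow_mul, zpow_natCast, T.σ3, one_zpow]
  have hvne1 : v ≠ 1 := fun h' => hv1 (by
    rw [← hπv, show (⟨v, hvY⟩ : centralizer ({σ} : Set G)) = 1 from Subtype.ext h', map_one])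
  set v' := c * v * c⁻¹ with hv'
  have hv'Y : v' ∈ centralizer ({σ} : Set G) := mul_mem (mul_mem hcY hvY) (Subgroup.inv_mem _ hcY)
  have hv'2 : v' * v' = 1 := invol_conj c hvv
  have hv'1 : v' ≠ 1 := fun h' => hvne1 (conj_eq_one_iff.1 h')
  have hπv' : π ⟨v', hv'Y⟩ = π ⟨c, hcY⟩ * vb * (π ⟨c, hcY⟩)⁻¹ := by
    rw [← hπv, ← map_inv, ← map_mul, ← map_mul]; rfl
  have hsig : ∀ {x}, x ∈ zpowers σ → ∀ y ∈ centralizer ({σ} : Set G), y * x = x * y := by
    intro x hx y hy
    obtain ⟨j, rfl⟩ := mem_zpowers_iff.1 hx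
    exact ((show Commute y σ from mem_cent.1 hy).zpow_right j).eq
  have hcommv : v * v' = v' * v := by
    set s := v * v' * (v * v') with hs
    have hsσ : s ∈ zpowers σ := by
      refine (hker (⟨v, hvY⟩ * ⟨v', hv'Y⟩ * (⟨v, hvY⟩ * ⟨v', hv'Y⟩))).1 ?_
      rw [map_mul, map_mul, hπv, hπv']
      set d := π ⟨c, hcY⟩ * vb * (π ⟨c, hcY⟩)⁻¹ with hd
      have hd2 : d * d = 1 := by rw [hd]; exact invol_conj _ hv2
      calc vb * d * (vb * d) = vb * (d * vb) * d := by group
        _ = (vb * vb) * (d * d) := by rw [← hvc]; group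
        _ = 1 := by rw [hv2, hd2, one_mul]
    have hinvs : v * s * v⁻¹ = s⁻¹ := by
      calc v * s * v⁻¹ = (v * v) * (v' * v) * (v' * v) * (v * v)⁻¹ * (v * v) := by rw [hs, inv_eq_of_mul_eq_one_left hvv]; group
        _ = v'⁻¹ * v⁻¹ * (v'⁻¹ * v⁻¹) := by
          rw [hvv, inv_eq_of_mul_eq_one_left hvv, inv_eq_of_mul_eq_one_left hv'2]; group
        _ = s⁻¹ := by rw [hs]; group
    rw [hsig hsσ v hvY, mul_inv_cancel_right] at hinvs
    have hs1 : s = 1 := sq_eq_one_of_three T.σ3 hsσ (by nth_rewrite 1 [hinvs]; exact inv_mul_cancel s)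
    calc v * v' = (v * v')⁻¹ := eq_inv_of_mul_eq_one_left hs1
      _ = v' * v := by rw [mul_inv_rev, inv_eq_of_mul_eq_one_left hvv, inv_eq_of_mul_eq_one_left hv'2]
  have hvv' : v ≠ v' := fun h' => hvne (by
    calc vb = π ⟨v, hvY⟩ := hπv.symm
      _ = π ⟨v', hv'Y⟩ := congrArg π (Subtype.ext h')
      _ = _ := hπv')
  have hb2' : v * v' * (v * v') = 1 := by
    calc v * v' * (v * v') = v * (v' * v) * v' := by group
      _ = (v * v) * (v' * v') := by rw [← hcommv]; group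
      _ = 1 := by rw [hvv, hv'2, one_mul]
  have hrel : c * v' * c⁻¹ = v * v' := by
    set a := c * v' * c⁻¹ with ha
    set b := v * v' with hb
    have haY : a ∈ centralizer ({σ} : Set G) := mul_mem (mul_mem hcY hv'Y) (Subgroup.inv_mem _ hcY)
    have hbY : b ∈ centralizer ({σ} : Set G) := mul_mem hvY hv'Y
    have ha2 : a * a = 1 := invol_conj c hv'2
    have hb2 : b * b = 1 := hb2'
    have hm : b * a ∈ zpowers σ := by
      refine (hker (⟨b, hbY⟩ * ⟨a, haY⟩)).1 ?_
      rw [map_mul, show (⟨a, haY⟩ : centralizer ({σ} : Set G)) = ⟨c, hcY⟩ * ⟨v', hv'Y⟩ * ⟨c, hcY⟩⁻¹ from rfl,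
        show (⟨b, hbY⟩ : centralizer ({σ} : Set G)) = ⟨v, hvY⟩ * ⟨v', hv'Y⟩ from rfl, map_mul, map_mul, map_mul,
        map_inv, hπv, hπv', hvrel]
      set d := π ⟨c, hcY⟩ * vb * (π ⟨c, hcY⟩)⁻¹ with hd
      have hd2 : d * d = 1 := by rw [hd]; exact invol_conj _ hv2
      calc vb * d * (vb * d) = vb * (d * vb) * d := by group
        _ = (vb * vb) * (d * d) := by rw [← hvc]; group
        _ = 1 := by rw [hv2, hd2, one_mul]
    clear_value a b
    have hcm : b * a = a * b := by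
      calc b * a = b * (b * a) * b := by
            rw [show b * (b * a) = (b * a) * b from hsig hm b hbY, mul_assoc, hb2, mul_one]
        _ = (b * b) * a * b := by group
        _ = a * b := by rw [hb2, one_mul]
    have h1 := sq_eq_one_of_three T.σ3 hm (by
      calc b * a * (b * a) = b * (a * b) * a := by group
        _ = (b * b) * (a * a) := by rw [← hcm]; group
        _ = 1 := by rw [hb2, ha2, one_mul])
    exact ((inv_eq_of_mul_eq_one_right h1).symm.trans (inv_eq_of_mul_eq_one_left hb2))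
  -- the four-group
  obtain ⟨R, hR⟩ := h.exists_at (T.σ_out v hvv hvne1 (mem_cent.1 hvY))
  have hv'R : v' ∈ R := (hR.conj_iff hv'2 hv'1 (mem_cent.2 hcommv.symm)).1
    ((T.σ_out v hvv hvne1 (mem_cent.1 hvY)).symm.trans (T.σ_out v' hv'2 hv'1 (mem_cent.1 hv'Y)))
  obtain ⟨R', F⟩ := hR.exists_four hv'R hv'2 hv'1 (Ne.symm hvv')
  obtain ⟨t, ht2, htC, htQ, htu⟩ := F.exists_outer_over
  have hσmem : σ ∈ centralizer ({v} : Set G) ⊓ centralizer ({v'} : Set G) :=
    ⟨mem_cent.2 (mem_cent.1 hvY).symm, mem_cent.2 (mem_cent.1 hv'Y).symm⟩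
  have hfwd : ∀ x ∈ R ⊓ R', c * x * c⁻¹ ∈ R ⊓ R' := by
    intro x hx
    rcases F.mem_inf.1 hx with rfl | rfl | rfl | rfl
    · rw [mul_one, mul_inv_cancel]; exact one_mem _
    · exact F.mem_inf.2 (Or.inr (Or.inr (Or.inl hv'.symm)))
    · exact F.mem_inf.2 (Or.inr (Or.inr (Or.inr (hrel.trans hcommv))))
    · refine F.mem_inf.2 (Or.inr (Or.inl ?_))
      rw [show c * (v' * v) * c⁻¹ = (c * v' * c⁻¹) * (c * v * c⁻¹) by group, hrel, ← hv', mul_assoc, hv'2, mul_one]
  obtain ⟨j, t', hfr⟩ := F.rotate ht2 htC htQ htu hσmem T.σ3 T.σ1 (T.cent c hc)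
    (by rw [hc3]; exact one_mem _)
    (fun x => ⟨hfwd x, fun hx => by
      have := hfwd _ (hfwd _ hx)
      rwa [show c * (c * (c * x * c⁻¹) * c⁻¹) * c⁻¹ = (c * c * c) * x * (c * c * c)⁻¹ by group, ← pow_three', hc3,
        one_mul, inv_one, mul_one] at this⟩)
    (fun x hx hfix => by
      rcases F.mem_inf.1 hx with rfl | rfl | rfl | rfl
      · rfl
      · exact absurd hfix.symm hvv'
      · rw [hrel] at hfix; exact absurd (mul_eq_right.1 hfix) hvne1
      · rw [show c * (v' * v) * c⁻¹ = (c * v' * c⁻¹) * (c * v * c⁻¹) by group, hrel, ← hv', mul_assoc, hv'2,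
          mul_one] at hfix
        exact absurd (right_eq_mul.1 hfix) hv'1)
  -- `c` is conjugate to `c * σ ^ j`
  obtain ⟨p, hp, hpc⟩ := T.noncomm c hc hcσ
  set d := c⁻¹ * (p * c * p⁻¹) with hd
  have hdσ : d ∈ zpowers σ := by
    have hcm := T.comm_mem p hp c hc
    have : d = p * c * p⁻¹ * c⁻¹ := by
      calc d = c⁻¹ * ((p * c * p⁻¹ * c⁻¹) * c) := by rw [hd]; group
        _ = c⁻¹ * (c * (p * c * p⁻¹ * c⁻¹)) := by rw [hsig hcm c hcY]
        _ = _ := by group
    rw [this]; exact hcm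
  have hd1 : d ≠ 1 := fun h' => hpc (mul_inv_eq_iff_eq_mul.1 (inv_mul_eq_one.1 h').symm)
  have hconj : IsConj c (c * σ ^ j) := by
    have hz' : zpowers d = zpowers σ := by
      refine Subgroup.eq_of_le_of_card_ge (zpowers_le.2 hdσ) ?_
      rcases cube_cases T.σ3 hdσ with e | e | e
      · exact absurd e hd1
      · rw [e]
      · rw [e, zpowers_inv]
    have hm : σ ^ j ∈ zpowers d := hz' ▸ pow_mem (mem_zpowers σ) j
    obtain ⟨n, hn⟩ := mem_powers_iff_mem_zpowers.2 hm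
    refine isConj_iff.2 ⟨p ^ n, ?_⟩
    rw [conj_pow_right (w := d) (by rw [hd]; group) (hsig hdσ p (mem_cent.2 (T.cent p hp))) n]
    exact congrArg (c * ·) hn
  obtain ⟨t₀, ht₀, hzt₀, hkt₀⟩ := T.k_out
  have hne : c * σ ^ j ≠ 1 := hfr.k_ne
  refine hconj.trans (h.three_conj hfr.ord_t ?_ ht₀ hzt₀ hfr.kt hkt₀ hfr.k3 hne T.k3 T.k1)
  exact fun h' => hfr.not_conj ((T.σ_out v hvv hvne1 (mem_cent.1 hvY)).symm.trans h')

/-- The classes of elements of order three. -/
theorem TData.classes {σ k : G} {P : Subgroup G} (T : TData z σ k P) (h : Hyp z Q) :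
    ¬ IsConj σ k ∧ ∀ c : G, orderOf c = 3 → IsConj c σ ∨ IsConj c k := by
  haveI : Fact (Nat.Prime 3) := ⟨Nat.prime_three⟩
  constructor
  · intro hc
    obtain ⟨g, hg⟩ := isConj_iff.1 hc
    obtain ⟨t, ht, hzt, hkt⟩ := T.k_out
    obtain ⟨ht2, ht1⟩ := inv_pair ht
    refine hzt ((T.σ_out (g⁻¹ * t * g⁻¹⁻¹) (invol_conj _ ht2) (fun h' => ht1 (conj_eq_one_iff.1 h')) ?_).trans
      (isConj_iff.2 ⟨g⁻¹, rfl⟩ : IsConj t _).symm)
    rw [← hg] at hkt
    calc g⁻¹ * t * g⁻¹⁻¹ * σ = g⁻¹ * (t * (g * σ * g⁻¹)) * g := by group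
      _ = g⁻¹ * ((g * σ * g⁻¹) * t) * g := by rw [hkt]
      _ = _ := by group
  · intro c hc
    obtain ⟨R, hR⟩ := (IsPGroup.of_card (n := 1) (by rw [Nat.card_zpowers, hc, pow_one]) :
      IsPGroup 3 (zpowers c)).exists_le_sylow
    obtain ⟨S, hS⟩ := (IsPGroup.of_card (n := 3) (by rw [T.card]; norm_num) : IsPGroup 3 P).exists_le_sylow
    have hSP : P = (S : Subgroup G) := Subgroup.eq_of_le_of_card_ge hS (by rw [h.card_sylow_three, T.card])
    obtain ⟨g, hg⟩ := MulAction.exists_smul_eq G R S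
    have hgc : g * c * g⁻¹ ∈ P := by
      rw [hSP, ← hg, Sylow.coe_subgroup_smul]; exact ⟨c, hR (mem_zpowers c), rfl⟩
    have hconj : IsConj c (g * c * g⁻¹) := isConj_iff.2 ⟨g, rfl⟩
    have hc3 : (g * c * g⁻¹) ^ 3 = 1 := by
      rw [conj_pow, show c ^ 3 = 1 by rw [← hc]; exact pow_orderOf_eq_one c, mul_one, mul_inv_cancel]
    by_cases hm : g * c * g⁻¹ ∈ zpowers σ
    · rcases cube_cases T.σ3 hm with e | e | e
      · exact absurd (conj_eq_one_iff.1 e) (fun h' => by rw [h', orderOf_one] at hc; norm_num at hc)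
      · exact Or.inl (e ▸ hconj)
      · obtain ⟨f, hf⟩ := T.inverted
        exact Or.inl ((e ▸ hconj).trans (isConj_iff.2 ⟨f, hf⟩ : IsConj σ σ⁻¹).symm)
    · exact Or.inr (hconj.trans (T.conj_k h hgc hc3 hm))

/-- The normalizer of the Sylow subgroup. -/
theorem TData.card_normalizer {σ k : G} {P : Subgroup G} (T : TData z σ k P) :
    Nat.card ↥(normalizer (P : Set G)) = 216 := by
  classical
  haveI : Fact (Nat.Prime 3) := ⟨Nat.prime_three⟩
  obtain ⟨π, hπ, hker⟩ := T.quotσ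
  have hPY : P ≤ (centralizer ({σ} : Set G)) := fun p hp => mem_cent.2 (T.cent p hp)
  set NP := normalizer (P : Set G) with hNP
  -- inside the centralizer
  have hk : ∀ a : (centralizer ({σ} : Set G)), π a = 1 → (a : G) ∈ P := fun a ha => (zpowers_le.2 T.σP) ((hker a).1 ha)
  let PY : Subgroup (centralizer ({σ} : Set G)) := P.subgroupOf (centralizer ({σ} : Set G))
  set Pb := PY.map π with hPb
  have hkerle : π.ker ≤ PY := fun a ha => mem_subgroupOf.2 (hk a ha)
  have hN3 : Nat.card π.ker = 3 := by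
    rw [← orderOf_eq_prime T.σ3 T.σ1, ← Nat.card_zpowers]
    exact Nat.card_congr
      { toFun := fun a => ⟨((a : (centralizer ({σ} : Set G))) : G), (hker _).1 a.2⟩
        invFun := fun a => ⟨⟨a, (zpowers_le.2 (show σ ∈ (centralizer ({σ} : Set G)) from mem_cent.2 rfl)) a.2⟩, (hker _).2 a.2⟩
        left_inv := fun a => rfl
        right_inv := fun a => rfl }
  have hcomap : Pb.comap π = PY := by rw [hPb, comap_map_eq_self hkerle]
  have hPbcard : Nat.card Pb = 9 := by
    have h1 := Pb.index_comap_of_surjective hπ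
    rw [hcomap] at h1
    have h2 := PY.card_mul_index
    have h3 := Pb.card_mul_index
    rw [Nat.card_congr (subgroupOfEquivOfLe hPY).toEquiv, T.card, T.cardσ, h1] at h2
    rw [six_card] at h3
    have : 0 < Pb.index := Nat.pos_of_ne_zero index_ne_zero_of_finite
    have h40 : Pb.index = 40 := by omega
    rw [h40] at h3
    omega
  obtain ⟨S, hS⟩ := (IsPGroup.of_card (n := 2) (by rw [hPbcard]; norm_num) : IsPGroup 3 Pb).exists_le_sylow
  have hScard : Nat.card (S : Subgroup A6) = 9 := by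
    rw [Sylow.card_eq_multiplicity S,
      six_card, show (360 : ℕ) = 3 ^ 2 * 40 by norm_num,
      Nat.factorization_mul (by norm_num) (by norm_num), Finsupp.add_apply,
      Nat.Prime.factorization_pow (by norm_num), Finsupp.single_eq_same,
      Nat.factorization_eq_zero_of_not_dvd (by norm_num : ¬ (3 ∣ 40))]
    norm_num
  have hPbS : Pb = (S : Subgroup A6) := Subgroup.eq_of_le_of_card_ge hS (by rw [hPbcard, hScard])
  set NY := NP.subgroupOf (centralizer ({σ} : Set G)) with hNY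
  have hNYeq : NY = (normalizer (Pb : Set A6)).comap π := by
    ext a
    constructor
    · intro ha
      refine Subgroup.mem_normalizer_fintype fun y hy => ?_
      obtain ⟨w, hw, rfl⟩ := hy
      show π a * π w * (π a)⁻¹ ∈ Pb
      rw [← map_inv, ← map_mul, ← map_mul]
      exact mem_map_of_mem π (mem_subgroupOf.2 ((mem_normalizer_iff.1 (mem_subgroupOf.1 ha) _).1 (mem_subgroupOf.1 hw)))
    · intro ha
      refine mem_subgroupOf.2 (Subgroup.mem_normalizer_fintype fun y hy => ?_)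
      have hw : (⟨y, hPY hy⟩ : (centralizer ({σ} : Set G))) ∈ PY := mem_subgroupOf.2 hy
      have hm := (mem_normalizer_iff.1 ha _).1 (mem_map_of_mem π hw)
      rw [← map_inv, ← map_mul, ← map_mul] at hm
      have hm' : a * ⟨y, hPY hy⟩ * a⁻¹ ∈ Pb.comap π := hm
      rw [hcomap] at hm'
      exact mem_subgroupOf.1 hm'
  have hNY108 : Nat.card NY = 108 := by
    have h1 := (normalizer (Pb : Set A6)).index_comap_of_surjective hπ
    rw [← hNYeq] at h1
    have h2 := NY.card_mul_index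
    have h3 := (normalizer (Pb : Set A6)).card_mul_index
    rw [h1, T.cardσ] at h2
    have h36 : Nat.card ↥(normalizer (Pb : Set A6)) = 36 := by rw [hPbS]; exact six_sylow_normalizer S
    rw [h36, six_card] at h3
    have h10 : (normalizer (Pb : Set A6)).index = 10 := by omega
    rw [h10] at h2
    omega
  -- the full normalizer
  have hcases : ∀ n ∈ NP, n * σ * n⁻¹ = σ ∨ n * σ * n⁻¹ = σ⁻¹ := by
    intro n hn
    have hnP : n * σ * n⁻¹ ∈ P := (mem_normalizer_iff.1 hn σ).1 T.σP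
    have hmem : n * σ * n⁻¹ ∈ zpowers σ := by
      by_contra hno
      obtain ⟨p, hp, hpc⟩ := T.noncomm _ hnP hno
      apply hpc
      have hp' : n⁻¹ * p * n ∈ P := by
        have := (mem_normalizer_iff.1 (Subgroup.inv_mem _ hn) p).1 hp
        rwa [inv_inv] at this
      calc p * (n * σ * n⁻¹) = n * ((n⁻¹ * p * n) * σ) * n⁻¹ := by group
        _ = n * (σ * (n⁻¹ * p * n)) * n⁻¹ := by rw [T.cent _ hp']
        _ = _ := by group
    rcases cube_cases T.σ3 hmem with e | e | e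
    · exact absurd (conj_eq_one_iff.1 e) T.σ1
    · exact Or.inl e
    · exact Or.inr e
  obtain ⟨f, hf⟩ := T.inverted
  obtain ⟨S', hS'⟩ : ∃ S' : Sylow 3 (centralizer ({σ} : Set G)), (S' : Subgroup (centralizer ({σ} : Set G))) = PY := by
    obtain ⟨S', hS'⟩ := (IsPGroup.of_card (n := 3) (by
      rw [Nat.card_congr (subgroupOfEquivOfLe hPY).toEquiv, T.card]; norm_num) : IsPGroup 3 PY).exists_le_sylow
    refine ⟨S', (Subgroup.eq_of_le_of_card_ge hS' ?_).symm⟩
    rw [Nat.card_congr (subgroupOfEquivOfLe hPY).toEquiv, T.card, Sylow.card_eq_multiplicity S', T.cardσ,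
      show (1080 : ℕ) = 3 ^ 3 * 40 by norm_num, Nat.factorization_mul (by norm_num) (by norm_num), Finsupp.add_apply,
      Nat.Prime.factorization_pow (by norm_num), Finsupp.single_eq_same,
      Nat.factorization_eq_zero_of_not_dvd (by norm_num : ¬ (3 ∣ 40))]
    norm_num
  -- an element of the normalizer inverting `σ`
  have hfY : ∀ y ∈ (centralizer ({σ} : Set G)), f * y * f⁻¹ ∈ (centralizer ({σ} : Set G)) := by
    intro y hy
    refine mem_cent.2 ?_
    have h1 : Commute y σ⁻¹ := (show Commute y σ from mem_cent.1 hy).inv_right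
    have h2 : σ = f * σ⁻¹ * f⁻¹ := by rw [show f * σ⁻¹ * f⁻¹ = (f * σ * f⁻¹)⁻¹ by group, hf, inv_inv]
    calc f * y * f⁻¹ * σ = f * y * f⁻¹ * (f * σ⁻¹ * f⁻¹) := by rw [← h2]
      _ = f * (y * σ⁻¹) * f⁻¹ := by group
      _ = f * (σ⁻¹ * y) * f⁻¹ := by rw [h1.eq]
      _ = (f * σ⁻¹ * f⁻¹) * (f * y * f⁻¹) := by group
      _ = _ := by rw [← h2]
  set Pf := P.map (MulAut.conj f).toMonoidHom with hPf
  have hPfY : Pf ≤ (centralizer ({σ} : Set G)) := by rintro _ ⟨p, hp, rfl⟩; exact hfY p (hPY hp)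
  obtain ⟨S'', hS''⟩ := (IsPGroup.of_card (n := 3) (by
    rw [Nat.card_congr (subgroupOfEquivOfLe hPfY).toEquiv, hPf, card_map_of_injective (MulAut.conj f).injective,
      T.card]; norm_num) : IsPGroup 3 (Pf.subgroupOf (centralizer ({σ} : Set G)))).exists_le_sylow
  obtain ⟨y, hy⟩ := MulAction.exists_smul_eq (centralizer ({σ} : Set G)) S'' S'
  set n := (y : G) * f with hn
  have hnσ : n * σ * n⁻¹ = σ⁻¹ := by
    rw [hn, show (y : G) * f * σ * ((y : G) * f)⁻¹ = (y : G) * (f * σ * f⁻¹) * (y : G)⁻¹ by group, hf,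
      ((show Commute (y : G) σ from mem_cent.1 y.2).inv_right).eq, mul_inv_cancel_right]
  have hnN : n ∈ NP := by
    refine Subgroup.mem_normalizer_fintype fun p hp => ?_
    have h1 : f * p * f⁻¹ ∈ Pf := ⟨p, hp, rfl⟩
    have h2 : y * ⟨f * p * f⁻¹, hPfY h1⟩ * y⁻¹ ∈ (S' : Subgroup (centralizer ({σ} : Set G))) := by
      rw [← hy, Sylow.coe_subgroup_smul]
      exact ⟨_, hS'' (mem_subgroupOf.2 h1), rfl⟩
    rw [hS'] at h2
    show (y : G) * f * p * ((y : G) * f)⁻¹ ∈ P
    have h3 : (y : G) * (f * p * f⁻¹) * (y : G)⁻¹ ∈ P := mem_subgroupOf.1 h2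
    rwa [show (y : G) * f * p * ((y : G) * f)⁻¹ = (y : G) * (f * p * f⁻¹) * (y : G)⁻¹ by group]
  set K := (centralizer ({σ} : Set G)).subgroupOf NP with hK
  have hK2 : K.index = 2 := by
    rw [index_eq_two_iff]
    refine ⟨⟨n, hnN⟩, fun b => ?_⟩
    have hb : ∀ w : NP, w ∈ K ↔ (w : G) * σ * (w : G)⁻¹ = σ := fun w => by
      rw [hK, mem_subgroupOf, mem_cent, mul_inv_eq_iff_eq_mul]
    have hne : σ⁻¹ ≠ σ := fun h' => T.σ1 (sq_eq_one_of_three T.σ3 (mem_zpowers σ) (by nth_rewrite 1 [← h']; exact inv_mul_cancel σ))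
    have hcomp : (b : G) * n * σ * ((b : G) * n)⁻¹ = ((b : G) * σ * (b : G)⁻¹)⁻¹ := by
      rw [show (b : G) * n * σ * ((b : G) * n)⁻¹ = (b : G) * (n * σ * n⁻¹) * (b : G)⁻¹ by group, hnσ]; group
    rcases hcases b b.2 with e | e
    · refine Or.inr ⟨(hb b).2 e, fun hm => ?_⟩
      have := (hb _).1 hm
      rw [Subgroup.coe_mul, hcomp, e] at this
      exact hne this
    · refine Or.inl ⟨(hb _).2 ?_, fun hm => ?_⟩
      · show (b : G) * n * σ * ((b : G) * n)⁻¹ = σ
        rw [hcomp, e, inv_inv]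
      · have := (hb _).1 hm
        rw [e] at this
        exact hne this
  have hKNY : Nat.card K = Nat.card NY := by
    rw [hK, hNY, ← inf_subgroupOf_left, Nat.card_congr (subgroupOfEquivOfLe inf_le_left).toEquiv,
      ← inf_subgroupOf_right, Nat.card_congr (subgroupOfEquivOfLe inf_le_right).toEquiv]
  have h1 := K.card_mul_index
  rw [hK2, hKNY, hNY108] at h1
  omega

/-- The structure of the Sylow subgroup for the prime three. -/
theorem Hyp.three_structure (h : Hyp z Q) (P : Sylow 3 G) :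
    Cfsg.IsExtraspecial 3 (P : Subgroup G) ∧ Nat.card P = 27 ∧
      Nat.card ↥(normalizer ((P : Subgroup G) : Set G)) = 216 ∧
      ∃ a b : G, orderOf a = 3 ∧ orderOf b = 3 ∧ ¬ IsConj a b ∧
        ∀ c : G, orderOf c = 3 → IsConj c a ∨ IsConj c b := by
  classical
  haveI : Fact (Nat.Prime 3) := ⟨Nat.prime_three⟩
  obtain ⟨σ, k, P₁, T⟩ := h.exists_tData
  obtain ⟨S, hS⟩ := (IsPGroup.of_card (n := 3) (by rw [T.card]; norm_num) : IsPGroup 3 P₁).exists_le_sylow
  have hSP : P₁ = (S : Subgroup G) := Subgroup.eq_of_le_of_card_ge hS (by rw [h.card_sylow_three, T.card])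
  obtain ⟨g, hg⟩ := MulAction.exists_smul_eq G S P
  have hna : ¬ IsMulCommutative (P : Subgroup G) := fun hc => by
    obtain ⟨p, hp, hpk⟩ := T.noncomm k T.kP (fun hm => by
      obtain ⟨hne, -⟩ := T.classes h
      obtain ⟨f, hf⟩ := T.inverted
      rcases cube_cases T.σ3 hm with e | e | e
      · exact T.k1 e
      · exact hne (e ▸ IsConj.refl σ)
      · exact hne (e ▸ isConj_iff.2 ⟨f, hf⟩))
    have hmem : ∀ y ∈ P₁, g * y * g⁻¹ ∈ (P : Subgroup G) := fun y hy => by
      rw [← hg, Sylow.coe_subgroup_smul]; exact ⟨y, hSP ▸ hy, rfl⟩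
    haveI := hc
    have h1 : g * p * g⁻¹ * (g * k * g⁻¹) = g * k * g⁻¹ * (g * p * g⁻¹) := congrArg Subtype.val
      (IsMulCommutative.is_comm.comm (⟨_, hmem p hp⟩ : (P : Subgroup G)) ⟨_, hmem k T.kP⟩)
    apply hpk
    calc p * k = g⁻¹ * (g * p * g⁻¹ * (g * k * g⁻¹)) * g := by group
      _ = g⁻¹ * (g * k * g⁻¹ * (g * p * g⁻¹)) * g := by rw [h1]
      _ = k * p := by group
  refine ⟨CfsgLib.PGroups.isExtraspecial_of_card_cube hna (by rw [h.card_sylow_three]; norm_num),
    h.card_sylow_three P, ?_, σ, k, orderOf_eq_prime T.σ3 T.σ1, orderOf_eq_prime T.k3 T.k1,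
    (T.classes h).1, (T.classes h).2⟩
  have h1 := (normalizer ((P : Subgroup G) : Set G)).card_mul_index
  have h2 := (normalizer ((S : Subgroup G) : Set G)).card_mul_index
  rw [show (normalizer ((P : Subgroup G) : Set G)).index = Nat.card (Sylow 3 G) from P.card_eq_index_normalizer.symm] at h1
  rw [show (normalizer ((S : Subgroup G) : Set G)).index = Nat.card (Sylow 3 G) from S.card_eq_index_normalizer.symm, ← h1] at h2
  rw [← T.card_normalizer, hSP]
  exact (Nat.eq_of_mul_eq_mul_right Nat.card_pos h2).symm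

end CfsgLib.Recog.HJType
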