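import Cfsg.Agent.Lib.Recog.JankoTwoType.Five
import Cfsg.Agent.Lib.Recog.JankoTwoType.Three

/-!
Owner: helper29. Groups of Hall–Janko type: the Sylow subgroup for the prime seven.
-/

set_option autoImplicit false
set_option linter.all false

namespace CfsgLib.Recog.HJType

open Subgroup Cfsg CfsgLib.Recog

variable {G : Type*} [Group G] [Finite G] {z : G} {Q : Subgroup G}

theorem card_centralizer_conj {x y : G} (h : IsConj x y) :
    Nat.card ↥(centralizer ({x} : Set G)) = Nat.card ↥(centralizer ({y} : Set G)) := by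
  obtain ⟨g, rfl⟩ := isConj_iff.1 h
  refine Nat.card_congr
    { toFun := fun a => ⟨g * a * g⁻¹, mem_cent.2 ?_⟩
      invFun := fun a => ⟨g⁻¹ * a * g, mem_cent.2 ?_⟩
      left_inv := fun a => Subtype.ext (by simp [mul_assoc])
      right_inv := fun a => Subtype.ext (by simp [mul_assoc]) }
  · have h := mem_cent.1 a.2
    calc g * a * g⁻¹ * (g * x * g⁻¹) = g * (a * x) * g⁻¹ := by group
      _ = g * (x * a) * g⁻¹ := by rw [h]
      _ = _ := by group
  · have h := mem_cent.1 a.2
    calc g⁻¹ * a * g * x = g⁻¹ * (a * (g * x * g⁻¹)) * g := by group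
      _ = g⁻¹ * ((g * x * g⁻¹) * a) * g := by rw [h]
      _ = x * (g⁻¹ * a * g) := by group

theorem Hyp.no_seven_two (h : Hyp z Q) {x : G} (hx : orderOf x = 2) :
    ¬ 7 ∣ Nat.card ↥(centralizer ({x} : Set G)) := by
  by_cases hxz : IsConj z x
  · rw [← card_centralizer_conj hxz, h.loc.card_centralizer]; norm_num
  · rw [h.card_centralizer_other hx hxz]; norm_num

theorem Hyp.no_seven_three (h : Hyp z Q) {x : G} (hx : orderOf x = 3) :
    ¬ 7 ∣ Nat.card ↥(centralizer ({x} : Set G)) := by
  obtain ⟨σ, k, P, T⟩ := h.exists_tData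
  rcases (T.classes h).2 x hx with e | e
  · rw [card_centralizer_conj e, T.cardσ]; norm_num
  · rw [card_centralizer_conj e]
    obtain ⟨t, ht, hzt, hkt⟩ := T.k_out
    intro h7
    have := h7.trans (h.three_card_dvd ht hzt hkt T.k3 T.k1)
    norm_num at this

theorem Hyp.no_seven_five (h : Hyp z Q) {x : G} (hx : orderOf x = 5) :
    ¬ 7 ∣ Nat.card ↥(centralizer ({x} : Set G)) := by
  haveI : Fact (Nat.Prime 5) := ⟨by norm_num⟩
  obtain ⟨P⟩ : Nonempty (Sylow 5 G) := inferInstance
  obtain ⟨-, -, -, X, Y, -, -, ⟨hX, hY⟩, -, hall⟩ := h.five_full P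
  obtain ⟨g, hg⟩ := hall (zpowers x) (by rw [Nat.card_zpowers, hx])
  have hmap : (zpowers x).map (MulAut.conj g).toMonoidHom = zpowers (g * x * g⁻¹) := by
    rw [MonoidHom.map_zpowers]; rfl
  rw [hmap] at hg
  rw [card_centralizer_conj (isConj_iff.2 ⟨g, rfl⟩ : IsConj x (g * x * g⁻¹))]
  have hc : centralizer ((zpowers (g * x * g⁻¹) : Subgroup G) : Set G) = centralizer ({g * x * g⁻¹} : Set G) := by
    rw [zpowers_eq_closure, centralizer_closure]
  rw [← hc]
  rcases hg with e | e <;> rw [e]
  · rw [hX]; norm_num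
  · rw [hY]; norm_num

/-- The structure of the Sylow subgroup for the prime seven. -/
theorem Hyp.seven_structure (h : Hyp z Q) (D : Sylow 7 G) :
    centralizer ((D : Subgroup G) : Set G) = D ∧
      Nat.card ↥(normalizer ((D : Subgroup G) : Set G)) = 42 ∧
      ¬ IsMulCommutative (normalizer ((D : Subgroup G) : Set G)) := by
  classical
  haveI : Fact (Nat.Prime 7) := ⟨by norm_num⟩
  have hD : Nat.card (D : Subgroup G) = 7 := by
    rw [Sylow.card_eq_multiplicity D, h.card_group, show (604800 : ℕ) = 7 ^ 1 * 86400 by norm_num,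
      Nat.factorization_mul (by norm_num) (by norm_num), Finsupp.add_apply,
      Nat.Prime.factorization_pow (by norm_num), Finsupp.single_eq_same,
      Nat.factorization_eq_zero_of_not_dvd (by norm_num : ¬ (7 ∣ 86400))]
    norm_num
  set C := centralizer ((D : Subgroup G) : Set G) with hC
  haveI : IsCyclic (D : Subgroup G) := isCyclic_of_prime_card hD
  have hDC : (D : Subgroup G) ≤ C := fun a ha => mem_centralizer_iff.2 fun b hb =>
    congrArg Subtype.val (IsMulCommutative.is_comm.comm (⟨b, hb⟩ : (D : Subgroup G)) ⟨a, ha⟩)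
  have h7C : 7 ∣ Nat.card C := hD ▸ card_dvd_of_le hDC
  have hno : ∀ p : ℕ, p.Prime → p ∣ Nat.card C → p = 7 := by
    intro p hp hpC
    haveI : Fact p.Prime := ⟨hp⟩
    obtain ⟨⟨x, hxC⟩, hx⟩ := exists_prime_orderOf_dvd_card' (G := C) p hpC
    rw [Subgroup.orderOf_mk] at hx
    have h7 : 7 ∣ Nat.card ↥(centralizer ({x} : Set G)) := hD ▸ card_dvd_of_le (fun b hb =>
      mem_cent.2 (mem_centralizer_iff.1 hxC b hb))
    have hpG : p ∣ 2 ^ 7 * 3 ^ 3 * 5 ^ 2 * 7 := by
      have := h.card_group ▸ hpC.trans (card_subgroup_dvd_card C)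
      norm_num at this ⊢
      exact this
    rcases (Nat.Prime.dvd_mul hp).1 hpG with h1 | h1
    · rcases (Nat.Prime.dvd_mul hp).1 h1 with h2 | h2
      · rcases (Nat.Prime.dvd_mul hp).1 h2 with h3 | h3
        · have := (Nat.prime_dvd_prime_iff_eq hp Nat.prime_two).1 (hp.dvd_of_dvd_pow h3)
          subst this
          exact absurd h7 (h.no_seven_two hx)
        · have := (Nat.prime_dvd_prime_iff_eq hp Nat.prime_three).1 (hp.dvd_of_dvd_pow h3)
          subst this
          exact absurd h7 (h.no_seven_three hx)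
      · have := (Nat.prime_dvd_prime_iff_eq hp (by norm_num : Nat.Prime 5)).1 (hp.dvd_of_dvd_pow h2)
        subst this
        exact absurd h7 (h.no_seven_five hx)
    · exact (Nat.prime_dvd_prime_iff_eq hp (by norm_num : Nat.Prime 7)).1 h1
  have hC7 : Nat.card C = 7 := by
    obtain ⟨m, hm⟩ := h7C
    by_cases hm1 : m = 1
    · rw [hm, hm1]
    exfalso
    obtain ⟨p, hp, hpm⟩ := Nat.exists_prime_and_dvd hm1
    have := hno p hp (hm ▸ hpm.mul_left 7)
    subst this
    have h49 : 49 ∣ 604800 := by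
      rw [← h.card_group]
      refine (?_ : 49 ∣ Nat.card C).trans (card_subgroup_dvd_card C)
      rw [hm]
      exact mul_dvd_mul_left 7 hpm
    norm_num at h49
  have hCD : C = D := (Subgroup.eq_of_le_of_card_ge hDC (by rw [hC7, hD])).symm
  set N := normalizer ((D : Subgroup G) : Set G) with hN
  let φ : N →* MulAut (D : Subgroup G) := normalizerMonoidHom (D : Subgroup G)
  have hker : Nat.card φ.ker = 7 := by
    rw [normalizerMonoidHom_ker, Nat.card_congr (subgroupOfEquivOfLe ?_).toEquiv]
    · exact hC7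
    · rw [← hC, hCD]; exact le_normalizer
  have hm : Nat.card φ.range ∣ 6 := by
    refine (Subgroup.card_subgroup_dvd_card φ.range).trans (dvd_of_eq ?_)
    rw [IsCyclic.card_mulAut, hD]
    decide
  have hN7 : Nat.card N = 7 * Nat.card φ.range := by
    rw [← φ.ker.card_mul_index, index_ker, hker]
  have hn := card_sylow_modEq_one 7 G
  have hidx := N.card_mul_index
  rw [show N.index = Nat.card (Sylow 7 G) from D.card_eq_index_normalizer.symm, h.card_group, hN7] at hidx
  have hN42 : Nat.card N = 42 := by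
    rw [hN7]
    have hle := Nat.le_of_dvd (by norm_num) hm
    generalize Nat.card φ.range = m at *
    unfold Nat.ModEq at hn
    interval_cases m <;> omega
  refine ⟨hCD, hN42, fun hc => ?_⟩
  haveI := hc
  have hle : N ≤ C := fun a ha => mem_centralizer_iff.2 fun b hb =>
    congrArg Subtype.val (IsMulCommutative.is_comm.comm (⟨b, le_normalizer hb⟩ : N) ⟨a, ha⟩)
  have := card_le_of_le hle
  rw [hN42, hC7] at this
  omega

end CfsgLib.Recog.HJType
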