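import Cfsg.Agent.Lib.Recog.JankoTwoType.EType
import Cfsg.Agent.Lib.Recog.JankoTwoType.SigmaC

/-!
Owner: helper29. Groups of Hall–Janko type: elements of order three centralizing an involution of the
second class.
-/

set_option autoImplicit false
set_option linter.all false

namespace CfsgLib.Recog.HJType

open Subgroup Cfsg CfsgLib.Recog

local notation "A5" => alternatingGroup (Fin 5)

variable {G : Type*} [Group G]

theorem sq_eq_one_of_three {e : G} (he : e ^ 3 = 1) {w : G} (hw : w ∈ zpowers e) (hw2 : w * w = 1) :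
    w = 1 := by
  obtain ⟨i, rfl⟩ := mem_zpowers_iff.1 hw
  exact eq_one_of_pow_odd_two (k := 1) (n := 3) (by rw [pow_one, sq, hw2]) (by decide)
    (by rw [← zpow_natCast, ← zpow_mul, mul_comm, zpow_mul, zpow_natCast, he, one_zpow])

variable [Finite G] {z : G} {Q : Subgroup G}

/-- The centralizer of a three-element with a four-group. -/
theorem CData.quot_three {z t k : G} {U B : Subgroup G} (D : CData z t k U B) {e : G} (he5 : e ^ 3 = 1)
    (he1 : e ≠ 1) (heB : e ∈ B) :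
    Nat.card ↥(centralizer ({e} : Set G)) ∣ 180 := by
  classical
  haveI : Fact (Nat.Prime 3) := ⟨Nat.prime_three⟩
  haveI : Fact (Nat.Prime 2) := ⟨Nat.prime_two⟩
  obtain ⟨eB⟩ := D.iso
  obtain ⟨hU, hB, hc, hinf, hsup⟩ := D.dp
  set Y := centralizer ({e} : Set G) with hY
  have hUY : U ≤ Y := fun a ha => mem_cent.2 (hc a ha e heB)
  set N : Subgroup Y := (zpowers e).subgroupOf Y with hN
  haveI hNn : N.Normal := ⟨fun n hn g => by
    refine mem_subgroupOf.2 ?_
    obtain ⟨j, hj⟩ := mem_zpowers_iff.1 (mem_subgroupOf.1 hn)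
    show (g : G) * (n : G) * (g : G)⁻¹ ∈ zpowers e
    rw [← hj, ((show Commute (g : G) e from mem_cent.1 g.2).zpow_right j).eq, mul_inv_cancel_right]
    exact zpow_mem (mem_zpowers e) j⟩
  let q := QuotientGroup.mk' N
  have hq1 : ∀ y : Y, q y = 1 ↔ (y : G) ∈ zpowers e := fun y => by
    rw [show q y = 1 ↔ y ∈ N from QuotientGroup.eq_one_iff y, hN, mem_subgroupOf]
  -- the image of `U`
  set Ub : Subgroup (Y ⧸ N) := (U.subgroupOf Y).map q with hUb
  have hinj : ∀ a ∈ U.subgroupOf Y, ∀ b ∈ U.subgroupOf Y, q a = q b → a = b := by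
    intro a ha b hb hab
    have hm : ((a⁻¹ * b : Y) : G) ∈ zpowers e := (hq1 _).1 (by rw [map_mul, map_inv, hab, inv_mul_cancel])
    have h2 := sq_eq_one_of_three he5 hm (D.sqU _ (mul_mem (U.inv_mem (mem_subgroupOf.1 ha)) (mem_subgroupOf.1 hb)))
    exact inv_mul_eq_one.1 (Subtype.ext h2)
  have hUb4 : Nat.card Ub = 4 := by
    rw [← D.cardU, ← Nat.card_congr (subgroupOfEquivOfLe hUY).toEquiv]
    refine (Nat.card_congr (Equiv.ofBijective (fun a : U.subgroupOf Y => (⟨q a, mem_map_of_mem _ a.2⟩ : Ub))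
      ⟨fun a b hab => Subtype.ext (hinj _ a.2 _ b.2 (congrArg Subtype.val hab)), ?_⟩)).symm
    rintro ⟨_, a, ha, rfl⟩
    exact ⟨⟨a, ha⟩, rfl⟩
  have hUsq : ∀ a ∈ Ub, a * a = 1 := by
    rintro _ ⟨a, ha, rfl⟩
    rw [← map_mul, show a * a = 1 from Subtype.ext (D.sqU _ (mem_subgroupOf.1 ha)), map_one]
  have hCU : ∀ a ∈ Ub, a ≠ 1 → centralizer ({a} : Set (Y ⧸ N)) = Ub := by
    intro a ha ha1
    refine le_antisymm ?_ ?_
    swap
    · intro b hb
      refine mem_cent.2 ?_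
      have h1 := hUsq _ (mul_mem hb ha)
      calc b * a = (b * a)⁻¹ := eq_inv_of_mul_eq_one_left h1
        _ = a * b := by
          rw [mul_inv_rev, inv_eq_of_mul_eq_one_left (hUsq _ hb), inv_eq_of_mul_eq_one_left (hUsq _ ha)]
    obtain ⟨u, hu, rfl⟩ := ha
    intro b hb
    obtain ⟨y, rfl⟩ := QuotientGroup.mk'_surjective N b
    have huU : (u : G) ∈ U := mem_subgroupOf.1 hu
    have hu1 : (u : G) ≠ 1 := fun h1 => ha1 (by rw [show u = 1 from Subtype.ext h1, map_one])
    set w := (u : G) * ((y : G) * u * (y : G)⁻¹) with hw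
    have hwe : w ∈ zpowers e := by
      refine (hq1 (u * (y * u * y⁻¹))).1 ?_
      rw [map_mul, map_mul, map_mul, map_inv, show q y * q u = q u * q y from mem_cent.1 hb,
        mul_inv_cancel_right]
      exact hUsq _ (mem_map_of_mem _ hu)
    have huu := D.sqU _ huU
    have huy : (u : G) * w = w * u := by
      obtain ⟨j, hj⟩ := mem_zpowers_iff.1 hwe
      rw [← hj]
      exact ((show Commute (u : G) e from hc _ huU e heB).zpow_right j).eq
    have hww : w * w = 1 := by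
      calc w * w = w * u * ((y : G) * u * (y : G)⁻¹) := by rw [hw]; group
        _ = u * w * ((y : G) * u * (y : G)⁻¹) := by rw [huy]
        _ = (u * u : G) * ((y : G) * (u * u : G) * (y : G)⁻¹) := by rw [hw]; group
        _ = 1 := by rw [huu]; group
    have hw1 := sq_eq_one_of_three he5 hwe hww
    have hy : (y : G) ∈ centralizer ({t} : Set G) := by
      rw [← D.centU _ huU hu1]
      refine mem_cent.2 (mul_inv_eq_iff_eq_mul.1 ?_)
      rw [← inv_eq_of_mul_eq_one_right hw1, inv_eq_of_mul_eq_one_left huu]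
    obtain ⟨a, ha, b, hb', hab⟩ := D.exists_mul hy
    have hbe : b * e = e * b := by
      have h1 := mem_cent.1 y.2
      rw [hab] at h1
      have h2 : a * (b * e) = a * (e * b) := by
        rw [← mul_assoc, h1, ← mul_assoc, ← mul_assoc, hc a ha e heB]
      exact mul_left_cancel h2
    have hbz : b ∈ zpowers e := by
      have h3 : eB ⟨e, heB⟩ * eB ⟨e, heB⟩ * eB ⟨e, heB⟩ = 1 := by
        rw [← map_mul, ← map_mul, show (⟨e, heB⟩ : B) * ⟨e, heB⟩ * ⟨e, heB⟩ = 1 from
          Subtype.ext (by show e * e * e = 1; rw [← pow_three', he5]), map_one]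
      have hcomm : eB ⟨b, hb'⟩ * eB ⟨e, heB⟩ = eB ⟨e, heB⟩ * eB ⟨b, hb'⟩ := by
        rw [← map_mul, ← map_mul]; exact congrArg eB (Subtype.ext hbe)
      rcases five_three_cent _ _ h3 (fun h1 => he1 (by
        rw [MulEquiv.map_eq_one_iff] at h1; exact congrArg Subtype.val h1)) hcomm with h | h | h
      · rw [MulEquiv.map_eq_one_iff] at h
        rw [show b = 1 from congrArg Subtype.val h]; exact one_mem _
      · rw [show b = e from congrArg Subtype.val (eB.injective h)]; exact mem_zpowers e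
      · rw [← map_mul] at h
        rw [show b = e * e from congrArg Subtype.val (eB.injective h)]
        exact mul_mem (mem_zpowers e) (mem_zpowers e)
    refine ⟨⟨a, hUY ha⟩, mem_subgroupOf.2 ha, ?_⟩
    refine inv_mul_eq_one.1 ?_
    rw [← map_inv, ← map_mul, hq1]
    show a⁻¹ * (y : G) ∈ zpowers e
    rw [hab, inv_mul_cancel_left]
    exact hbz
  have hp : IsPGroup 2 Ub := IsPGroup.of_card (n := 2) (by rw [hUb4]; norm_num)
  obtain ⟨S, hS⟩ := hp.exists_le_sylow
  have hne : ∃ a ∈ Ub, a ≠ 1 := by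
    by_contra hno
    push Not at hno
    have : Ub = ⊥ := (eq_bot_iff_forall _).2 hno
    rw [this, card_bot] at hUb4
    norm_num at hUb4
  have hSU : (S : Subgroup (Y ⧸ N)) = Ub := by
    refine le_antisymm ?_ hS
    obtain ⟨a, ha, ha1⟩ := hne
    haveI : Nontrivial (S : Subgroup (Y ⧸ N)) := ⟨⟨⟨a, hS ha⟩, 1, fun h1 => ha1 (congrArg Subtype.val h1)⟩⟩
    haveI := S.2.center_nontrivial
    obtain ⟨⟨⟨w, hw⟩, hwc⟩, hw1⟩ := exists_ne (1 : Subgroup.center (↥(S : Subgroup (Y ⧸ N))))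
    have hcomm : ∀ p ∈ (S : Subgroup (Y ⧸ N)), p * w = w * p := fun p hp =>
      congrArg Subtype.val (mem_center_iff.1 hwc ⟨p, hp⟩)
    have hwU : w ∈ Ub := by rw [← hCU a ha ha1]; exact mem_cent.2 (hcomm a (hS ha)).symm
    intro p hp'
    rw [← hCU w hwU (fun h1 => hw1 (Subtype.ext (Subtype.ext h1)))]
    exact mem_cent.2 (hcomm p hp')
  have hK : IsKleinFour (S : Subgroup (Y ⧸ N)) := by
    rw [hSU]
    refine ⟨hUb4, ?_⟩
    haveI : Nontrivial Ub := by rw [← Finite.one_lt_card_iff_nontrivial, hUb4]; norm_num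
    exact (Monoid.exponent_eq_prime_iff Nat.prime_two).2 fun a ha =>
      orderOf_eq_prime (Subtype.ext (by rw [SubgroupClass.coe_pow, sq]; exact hUsq a a.2)) ha
  have hCS : ∀ a ∈ (S : Subgroup (Y ⧸ N)), a ≠ 1 → centralizer ({a} : Set (Y ⧸ N)) = S := by
    rw [hSU]; exact hCU
  have hN3 : Nat.card N = 3 := by
    rw [hN, Nat.card_congr (subgroupOfEquivOfLe (zpowers_le.2 (mem_cent.2 rfl))).toEquiv,
      Nat.card_zpowers, orderOf_eq_prime he5 he1]
  rw [card_eq_card_quotient_mul_card_subgroup N, hN3]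
  suffices hs : Nat.card (Y ⧸ N) ∣ 60 from Nat.mul_dvd_mul_right hs 3
  by_cases hnc : HasNormalPComplement 2 (Y ⧸ N)
  · obtain ⟨R, M, hM, hMR⟩ := hnc
    obtain ⟨a, ha, ha1⟩ := hne
    obtain ⟨b, hb, hb1, hba⟩ : ∃ b ∈ Ub, b ≠ 1 ∧ b ≠ a := by
      by_contra hno
      push Not at hno
      have hs : (Ub : Set (Y ⧸ N)) ⊆ {1, a} := fun b hb => by
        by_cases h1 : b = 1
        · exact Or.inl h1
        · exact Or.inr (hno b hb h1)
      have := (Set.ncard_le_ncard hs (Set.toFinite _)).trans (Set.ncard_insert_le _ _)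
      rw [← Nat.card_coe_set_eq, Set.ncard_singleton] at this
      change Nat.card Ub ≤ 2 at this
      omega
    have hp4 : ∀ w ∈ Ub, w ≠ 1 → IsPGroup 2 ↥(centralizer ({w} : Set (Y ⧸ N))) := fun w hw hw1 => by
      rw [hCU w hw hw1]; exact hp
    have hab1 : a * b ≠ 1 := fun h1 => hba
      ((eq_inv_of_mul_eq_one_right h1).trans (inv_eq_of_mul_eq_one_left (hUsq a ha)))
    have hbot : oddCore (Y ⧸ N) = ⊥ := CfsgLib.LocalEvenB.DEight.oddCore_eq_bot
      (ord_two (hUsq a ha) ha1) (ord_two (hUsq b hb) hb1)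
      ((mem_cent.1 ((hCU b hb hb1).ge ha))) (Ne.symm hba) (hp4 a ha ha1) (hp4 b hb hb1)
      (hp4 _ (mul_mem ha hb) hab1)
    have h4 : Nat.card (R : Subgroup (Y ⧸ N)) = 4 := by
      rw [Sylow.card_eq_multiplicity R, ← Sylow.card_eq_multiplicity S]; exact hK.card_four
    have hodd : Odd (Nat.card M) := by
      have := R.card_coprime_index
      rw [hMR.index_eq_card, h4] at this
      exact Nat.coprime_two_left.1 (Nat.Coprime.coprime_dvd_left (by norm_num) this)
    have hM1 := CfsgLib.ZStar.le_oddCore hM hodd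
    rw [hbot, le_bot_iff] at hM1
    have hidx := hMR.symm.index_eq_card
    rw [hM1, index_bot, h4] at hidx
    rw [hidx]; norm_num
  obtain ⟨hshape, -⟩ := CfsgLib.LocalEvenB.DEight.four_core S hK hCS hnc
  rcases hshape with ⟨-, h12⟩ | ⟨⟨ψ⟩⟩
  · rw [h12]; norm_num
  · rw [Nat.card_congr ψ.toEquiv, AltFive.card_eq]

/-- Elements of order three centralizing an involution not conjugate to `z` form one class. -/
theorem Hyp.three_conj (h : Hyp z Q) {a b t t' : G} (ht : orderOf t = 2) (hzt : ¬ IsConj z t)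
    (ht' : orderOf t' = 2) (hzt' : ¬ IsConj z t') (ha : a * t = t * a) (hb : b * t' = t' * b)
    (ha3 : a ^ 3 = 1) (ha1 : a ≠ 1) (hb3 : b ^ 3 = 1) (hb1 : b ≠ 1) : IsConj a b := by
  obtain ⟨g, hg⟩ := isConj_iff.1 ((h.dichotomy ht hzt ht').resolve_left hzt')
  obtain ⟨z', k, U, B, -, D⟩ := h.exists_cdata ht hzt
  obtain ⟨e⟩ := D.iso
  set b' := g⁻¹ * b * g with hb'
  have hb'3 : b' ^ 3 = 1 := by
    rw [hb', show g⁻¹ * b * g = g⁻¹ * b * g⁻¹⁻¹ by group, conj_pow, hb3]; group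
  have hb'1 : b' ≠ 1 := fun h' => hb1 (by
    rw [hb', show g⁻¹ * b * g = g⁻¹ * b * g⁻¹⁻¹ by group] at h'; exact conj_eq_one_iff.1 h')
  have hb't : b' * t = t * b' := by
    rw [← hg] at hb
    calc b' * t = g⁻¹ * (b * (g * t * g⁻¹)) * g := by rw [hb']; group
      _ = g⁻¹ * (g * t * g⁻¹ * b) * g := by rw [hb]
      _ = _ := by rw [hb']; group
  have haB := D.mem_B_of_odd (mem_cent.2 ha) (n := 3) (by decide) ha3
  have hbB := D.mem_B_of_odd (mem_cent.2 hb't) (n := 3) (by decide) hb'3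
  obtain ⟨m, hm⟩ := five_three_conj (e ⟨a, haB⟩) (e ⟨b', hbB⟩)
    (by rw [← map_mul, ← map_mul, show (⟨a, haB⟩ : B) * ⟨a, haB⟩ * ⟨a, haB⟩ = 1 from
      Subtype.ext (by show a * a * a = 1; rw [← pow_three', ha3]), map_one])
    (fun h' => ha1 (congrArg Subtype.val ((map_eq_one_iff e e.injective).1 h')))
    (by rw [← map_mul, ← map_mul, show (⟨b', hbB⟩ : B) * ⟨b', hbB⟩ * ⟨b', hbB⟩ = 1 from
      Subtype.ext (by show b' * b' * b' = 1; rw [← pow_three', hb'3]), map_one])
    (fun h' => hb'1 (congrArg Subtype.val ((map_eq_one_iff e e.injective).1 h')))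
  obtain ⟨m', rfl⟩ := e.surjective m
  have hm' : (m' : G) * a * (m' : G)⁻¹ = b' := by
    rw [← map_inv, ← map_mul, ← map_mul] at hm
    exact congrArg Subtype.val (e.injective hm)
  refine isConj_iff.2 ⟨g * m', ?_⟩
  calc g * m' * a * (g * m')⁻¹ = g * ((m' : G) * a * (m' : G)⁻¹) * g⁻¹ := by group
    _ = b := by rw [hm', hb']; group

theorem Hyp.three_card_dvd (h : Hyp z Q) {a t : G} (ht : orderOf t = 2) (hzt : ¬ IsConj z t)
    (ha : a * t = t * a) (ha3 : a ^ 3 = 1) (ha1 : a ≠ 1) :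
    Nat.card ↥(centralizer ({a} : Set G)) ∣ 180 := by
  obtain ⟨z', k, U, B, -, D⟩ := h.exists_cdata ht hzt
  exact D.quot_three ha3 ha1 (D.mem_B_of_odd (mem_cent.2 ha) (n := 3) (by decide) ha3)

end CfsgLib.Recog.HJType
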